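import Groth.Agent.IndCohLib.Ops
import Groth.Prelude.Def_FTors2

/-!
# Sections killed by open ideals of a formal scheme
-/

set_option autoImplicit false
set_option linter.style.haveILetI false
set_option maxHeartbeats 800000

universe u

open CategoryTheory CategoryTheory.Limits AlgebraicGeometry TopologicalSpace Opposite FSch
open FModLib (MSec RSec oK mres rres lc)
open FCohLib (Basic)

noncomputable section

namespace IndCohLib

variable {𝔛 : Sys.{u}} (hloc : 𝔛.IsLocNoethFormal) {M N : ModF 𝔛 hloc.1}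

theorem oK_eq_zero_res (n : ℕ) {W V : (𝔛.X 0).Opens} (h : W ≤ V) {a : RSec (𝔛.Osh hloc.1) V}
    (ha : oK hloc.1 n V a = 0) : oK hloc.1 n W (rres (𝔛.Osh hloc.1) h a) = 0 :=
  (FTors.openIdealFam 𝔛 hloc.1).map_mem n (homOfLE h) ha

theorem oK_eq_zero_of_le {n m : ℕ} (hnm : n ≤ m) {V : (𝔛.X 0).Opens} {a : RSec (𝔛.Osh hloc.1) V}
    (ha : oK hloc.1 m V a = 0) : oK hloc.1 n V a = 0 :=
  (FTors.openIdealFam 𝔛 hloc.1).ideal_le_of_le V hnm ha

/-- On an affine open the kernel of a level is generated by finitely many elements, whose restrictions generate it on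
smaller affine opens. -/
theorem exists_ker_gens {V : (𝔛.X 0).Opens} (hV : IsAffineOpen V) (n : ℕ) :
    ∃ (σ : Type u) (_ : Fintype σ) (z : σ → RSec (𝔛.Osh hloc.1) V), (∀ l, oK hloc.1 n V (z l) = 0) ∧
      ∀ (W : (𝔛.X 0).Opens), IsAffineOpen W → ∀ (hW : W ≤ V) (c : RSec (𝔛.Osh hloc.1) W), oK hloc.1 n W c = 0 →
        ∃ d : σ → RSec (𝔛.Osh hloc.1) W, c = ∑ l, d l * rres (𝔛.Osh hloc.1) hW (z l) := by
  classical
  obtain ⟨I, hN, hI⟩ := FCohLib.exists_adic hloc hV
  obtain ⟨t, z, hz⟩ := Submodule.fg_iff_exists_fin_generating_family.1 (IsNoetherian.noetherian (I ^ (n + 1)))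
  have hz0 : ∀ l, oK hloc.1 n V (z l) = 0 := fun l => (hI n _).2 (hz ▸ Submodule.subset_span ⟨l, rfl⟩)
  refine ⟨ULift.{u} (Fin t), inferInstance, fun l => z l.down, fun l => hz0 l.down, fun W hW hWV c hc => ?_⟩
  obtain ⟨d, hd⟩ := FCohLib.exists_comb_of_local_real hloc hW
    (fun (l : ULift.{u} (Fin t)) (_ : PUnit.{u + 1}) => rres (𝔛.Osh hloc.1) hWV (z l.down)) (fun _ => c) fun p hp => by
      obtain ⟨W', g, hb, hpW', hle⟩ := FCohLib.exists_basic hloc hV hp (hWV hp)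
      obtain ⟨d, hd⟩ := FModLib.exists_rel_of_levels hloc hb.affine
        (fun (l : ULift.{u} (Fin t)) (_ : PUnit.{u + 1}) => rres (𝔛.Osh hloc.1) hb.le (z l.down))
        (fun _ => rres (𝔛.Osh hloc.1) hle c) fun k => by
          let oW : ∀ j, RSec (𝔛.Osh hloc.1) W' →+* RSec (𝔛.X j).sheaf (𝔛.lvU hloc.1 j W') :=
            fun j => ((𝔛.OshProj hloc.1 j).hom.app (op W')).hom
          let ρ : RSec (𝔛.Osh hloc.1) V →+* RSec (𝔛.Osh hloc.1) W' :=
            ((𝔛.Osh hloc.1).obj.map (homOfLE hb.le).op).hom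
          have hc' : oK hloc.1 n W' (rres (𝔛.Osh hloc.1) hle c) = 0 := oK_eq_zero_res hloc n hle hc
          by_cases hkn : k ≤ n
          · exact ⟨0, fun _ => (oK_eq_zero_of_le hloc hkn hc').trans (by
              simp only [Pi.zero_apply, zero_mul, Finset.sum_const_zero]
              exact (map_zero (oW k)).symm)⟩
          have hnk : n ≤ k := le_of_not_ge hkn
          obtain ⟨E, a, ha⟩ := FCohLib.exists_lift_level hloc hV hb k
            (fun _ : PUnit.{u + 1} => rres (𝔛.Osh hloc.1) hle c)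
          have h1 : oW n (ρ (a ⟨⟩)) = 0 := by
            have hk0 : oW k (ρ (a ⟨⟩) - ρ g ^ E * rres (𝔛.Osh hloc.1) hle c) = 0 := by
              rw [map_sub, map_mul, map_pow]
              exact sub_eq_zero.2 (ha ⟨⟩)
            have hn0 : oW n (ρ (a ⟨⟩) - ρ g ^ E * rres (𝔛.Osh hloc.1) hle c) = 0 := oK_eq_zero_of_le hloc hnk hk0
            rw [map_sub, map_mul, show oW n (rres (𝔛.Osh hloc.1) hle c) = 0 from hc', mul_zero, sub_zero] at hn0
            exact hn0
          obtain ⟨K, hK⟩ := FCohLib.exists_pow_kill hloc hV hb n (a ⟨⟩) h1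
          obtain ⟨e, he⟩ := (Submodule.mem_span_range_iff_exists_fun _).1 (hz.ge ((hI n _).1 hK))
          obtain ⟨v, hv⟩ := (FCohLib.isUnit_oK hloc hb k).pow (K + E)
          obtain ⟨v', hv'⟩ := FModLib.oK_surjective hloc hb.affine k ↑v⁻¹
          refine ⟨fun l => v' * ρ (e l.down), fun _ => ?_⟩
          show oW k (rres (𝔛.Osh hloc.1) hle c) = oW k (∑ l : ULift.{u} (Fin t), v' * ρ (e l.down) * ρ (z l.down))
          have h2 : oW k (ρ g) ^ (K + E) * oW k (rres (𝔛.Osh hloc.1) hle c) = oW k (ρ (g ^ K * a ⟨⟩)) := by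
            rw [map_mul, map_mul, map_pow, map_pow, show oW k (ρ (a ⟨⟩)) = _ from ha ⟨⟩, pow_add, mul_assoc]
            rfl
          have h3 : ∑ l : ULift.{u} (Fin t), v' * ρ (e l.down) * ρ (z l.down) = v' * ρ (g ^ K * a ⟨⟩) := by
            rw [← he, map_sum, Finset.mul_sum]
            refine Fintype.sum_equiv Equiv.ulift _ _ fun l => ?_
            simp [mul_assoc]
          rw [h3, map_mul, ← h2, show oW k v' = ↑v⁻¹ from hv', ← mul_assoc,
            show oW k (ρ g) ^ (K + E) = ↑v from hv.symm, Units.inv_mul, one_mul]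
      exact ⟨W', hle, d, hpW', fun i => (hd i).trans (Finset.sum_congr rfl fun l _ =>
        congrArg (fun y => d l * y) (FModLib.rres_rres hle hWV (z l.down)).symm)⟩
  exact ⟨d, hd ⟨⟩⟩

/-- The section is killed by the open ideal of level `n`. -/
def Killed (n : ℕ) (M : ModF 𝔛 hloc.1) {U : (𝔛.X 0).Opens} (x : MSec M U) : Prop :=
  ∀ (W : (𝔛.X 0).Opens) (h : W ≤ U) (a : RSec (𝔛.Osh hloc.1) W), oK hloc.1 n W a = 0 →
    (a • mres M h x : MSec M W) = 0

theorem killed_iff (n : ℕ) {U : (𝔛.X 0).Opens} (x : MSec M U) :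
    Killed hloc n M x ↔ FTors.KilledBy (FTors.openIdealFam 𝔛 hloc.1) M n x :=
  ⟨fun h W g a ha => h W g.le a ha, fun h W hW a ha => h (homOfLE hW) a ha⟩

theorem Killed.res {n : ℕ} {U V : (𝔛.X 0).Opens} {x : MSec M U} (hx : Killed hloc n M x) (h : V ≤ U) :
    Killed hloc n M (mres M h x) := fun W hW a ha => by
  rw [FModLib.mres_mres]
  exact hx W (hW.trans h) a ha

theorem Killed.mono {n m : ℕ} (hnm : n ≤ m) {U : (𝔛.X 0).Opens} {x : MSec M U} (hx : Killed hloc n M x) :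
    Killed hloc m M x := fun W h a ha => hx W h a (oK_eq_zero_of_le hloc hnm ha)

theorem Killed.app {n : ℕ} {U : (𝔛.X 0).Opens} {x : MSec M U} (hx : Killed hloc n M x) (θ : M ⟶ N) :
    Killed hloc n N (θ.val.app (op U) x) := fun W h a ha => by
  rw [← app_mres hloc θ h x]
  exact ((θ.val.app (op W)).hom.map_smul a _).symm.trans ((congrArg _ (hx W h a ha)).trans (map_zero _))

theorem killed_of_inj {n : ℕ} {U : (𝔛.X 0).Opens} {x : MSec M U} (θ : M ⟶ N) [Mono θ]
    (hx : Killed hloc n N (θ.val.app (op U) x)) : Killed hloc n M x := fun W h a ha => by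
  refine inj_of_mono hloc θ ?_
  refine ((θ.val.app (op W)).hom.map_smul a _).trans (Eq.trans ?_ (map_zero _).symm)
  exact (congrArg (fun y : MSec N W => (a • y : MSec N W)) (app_mres hloc θ h x)).trans (hx W h a ha)

theorem mres_smul {U W : (𝔛.X 0).Opens} (h : W ≤ U) (a : RSec (𝔛.Osh hloc.1) U) (x : MSec M U) :
    mres M h (a • x) = (rres (𝔛.Osh hloc.1) h a • mres M h x : MSec M W) :=
  PresheafOfModules.map_smul M.val (homOfLE h).op a x

theorem killed_of_local {n : ℕ} {U : (𝔛.X 0).Opens} (x : MSec M U)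
    (hx : ∀ q ∈ U, ∃ (V : (𝔛.X 0).Opens) (h : V ≤ U), q ∈ V ∧ Killed hloc n M (mres M h x)) :
    Killed hloc n M x := fun W h a ha => by
  refine FCohLib.eq_zero_of_points M _ fun q hq => ?_
  obtain ⟨V, hV, hqV, hxV⟩ := hx q (h hq)
  refine ⟨W ⊓ V, inf_le_left, ⟨hq, hqV⟩, ?_⟩
  refine (mres_smul hloc inf_le_left a _).trans ?_
  refine (congrArg (fun y : MSec M (W ⊓ V) => (rres (𝔛.Osh hloc.1) inf_le_left a • y : MSec M (W ⊓ V)))
    ((FModLib.mres_mres M inf_le_left h x).trans (FModLib.mres_mres M inf_le_right hV x).symm)).trans ?_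
  exact hxV _ inf_le_right _ (oK_eq_zero_res hloc n inf_le_left ha)

theorem killed_of_gens {n : ℕ} {V U : (𝔛.X 0).Opens} (hU : U ≤ V) {σ : Type u} [Fintype σ]
    (z : σ → RSec (𝔛.Osh hloc.1) V)
    (hz : ∀ (W : (𝔛.X 0).Opens), IsAffineOpen W → ∀ (hW : W ≤ V) (c : RSec (𝔛.Osh hloc.1) W), oK hloc.1 n W c = 0 →
      ∃ d : σ → RSec (𝔛.Osh hloc.1) W, c = ∑ l, d l * rres (𝔛.Osh hloc.1) hW (z l))
    (x : MSec M U) (hx : ∀ l, (rres (𝔛.Osh hloc.1) hU (z l) • x : MSec M U) = 0) : Killed hloc n M x :=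
  fun W h a ha => by
  refine FCohLib.eq_zero_of_points M _ fun q hq => ?_
  obtain ⟨W', hW', hqW', hW'W⟩ := Opens.isBasis_iff_nbhd.mp (𝔛.X 0).isBasis_affineOpens hq
  obtain ⟨d, hd⟩ := hz W' hW' (hW'W.trans (h.trans hU)) _ (oK_eq_zero_res hloc n hW'W ha)
  refine ⟨W', hW'W, hqW', (mres_smul hloc hW'W a _).trans ?_⟩
  refine (congrArg₂ (fun (c : RSec (𝔛.Osh hloc.1) W') (y : MSec M W') => (c • y : MSec M W')) hd
    (FModLib.mres_mres M hW'W h x)).trans ?_
  refine Finset.sum_smul.trans (Finset.sum_eq_zero fun l _ => ?_)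
  refine (mul_smul (d l) _ (mres M (hW'W.trans h) x)).trans ?_
  refine (congrArg (fun y : MSec M W' => (d l • y : MSec M W')) ?_).trans (smul_zero _)
  rw [← FModLib.rres_rres (hW'W.trans h) hU (z l)]
  exact (mres_smul hloc _ _ x).symm.trans ((congrArg _ (hx l)).trans (map_zero _))

theorem killed_zero (n : ℕ) (U : (𝔛.X 0).Opens) : Killed hloc n M (0 : MSec M U) := fun W h a _ =>
  (congrArg (fun y : MSec M W => (a • y : MSec M W)) (map_zero _)).trans (smul_zero _)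

theorem Killed.add {n : ℕ} {U : (𝔛.X 0).Opens} {x y : MSec M U} (hx : Killed hloc n M x) (hy : Killed hloc n M y) :
    Killed hloc n M (x + y) := fun W h a ha => by
  refine (congrArg (fun t : MSec M W => (a • t : MSec M W)) (map_add _ x y)).trans ?_
  exact (smul_add a _ _).trans ((congrArg₂ (fun p q => p + q) (hx W h a ha) (hy W h a ha)).trans (add_zero _))

theorem Killed.smul {n : ℕ} {U : (𝔛.X 0).Opens} (r : RSec (𝔛.Osh hloc.1) U) {x : MSec M U}
    (hx : Killed hloc n M x) : Killed hloc n M (r • x : MSec M U) := fun W h a ha => by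
  refine (congrArg (fun t : MSec M W => (a • t : MSec M W)) (mres_smul hloc h r x)).trans ?_
  exact (smul_comm a _ (mres M h x)).trans
    ((congrArg (fun t : MSec M W => (rres (𝔛.Osh hloc.1) h r • t : MSec M W)) (hx W h a ha)).trans (smul_zero _))

/-- Locally killed by some open ideal. -/
def Tors (M : ModF 𝔛 hloc.1) {U : (𝔛.X 0).Opens} (x : MSec M U) : Prop :=
  ∀ q ∈ U, ∃ (W : (𝔛.X 0).Opens) (h : W ≤ U) (n : ℕ), q ∈ W ∧ Killed hloc n M (mres M h x)

theorem Killed.tors {n : ℕ} {U : (𝔛.X 0).Opens} {x : MSec M U} (hx : Killed hloc n M x) : Tors hloc M x :=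
  fun _ hq => ⟨U, le_rfl, n, hq, hx.res hloc le_rfl⟩

theorem tors_iff {U : (𝔛.X 0).Opens} (x : MSec M U) :
    FTors.IsTorsSect (FTors.openIdealFam 𝔛 hloc.1) M x ↔ Tors hloc M x := by
  constructor
  · intro h q hq
    obtain ⟨W, f, ⟨n, hn⟩, hqW⟩ := h q hq
    exact ⟨W, f.le, n, hqW, (killed_iff hloc n _).2 hn⟩
  · intro h q hq
    obtain ⟨W, hW, n, hqW, hn⟩ := h q hq
    exact ⟨W, homOfLE hW, ⟨n, (killed_iff hloc n _).1 hn⟩, hqW⟩

theorem isTors_iff : FTors.IsTorsF 𝔛 hloc.1 M ↔ ∀ (U : (𝔛.X 0).Opens) (x : MSec M U), Tors hloc M x :=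
  forall₂_congr fun _ x => tors_iff hloc x

theorem exists_killed {U : (𝔛.X 0).Opens} (hU : IsCompact (U : Set (𝔛.X 0))) {x : MSec M U} (hx : Tors hloc M x) :
    ∃ n, Killed hloc n M x := by
  classical
  choose W hW n hqW hn using fun q : U => hx q.1 q.2
  obtain ⟨t, ht⟩ := hU.elim_finite_subcover (fun q : U => (W q : Set (𝔛.X 0))) (fun q => (W q).isOpen)
    fun q hq => Set.mem_iUnion.mpr ⟨⟨q, hq⟩, hqW ⟨q, hq⟩⟩
  refine ⟨t.sup n, killed_of_local hloc x fun q hq => ?_⟩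
  obtain ⟨p, hpt, hqp⟩ := Set.mem_iUnion₂.mp (ht hq)
  exact ⟨W p, hW p, hqp, (hn p).mono hloc (Finset.le_sup hpt)⟩

/-- Submodules of torsion modules. -/
theorem isTors_of_mono (θ : M ⟶ N) [Mono θ] (hN : FTors.IsTorsF 𝔛 hloc.1 N) : FTors.IsTorsF 𝔛 hloc.1 M :=
  (isTors_iff hloc).2 fun U x q hq => by
    obtain ⟨W, h, n, hqW, hn⟩ := (isTors_iff hloc).1 hN U (θ.val.app (op U) x) q hq
    exact ⟨W, h, n, hqW, killed_of_inj hloc θ (by rwa [app_mres hloc θ h x])⟩

/-- Quotients of torsion modules. -/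
theorem isTors_of_epi (θ : M ⟶ N) [Epi θ] (hM : FTors.IsTorsF 𝔛 hloc.1 M) : FTors.IsTorsF 𝔛 hloc.1 N :=
  (isTors_iff hloc).2 fun U x q hq => by
    obtain ⟨W₀, hW₀, y, hq₀, hy⟩ := exists_loc_lift hloc θ x hq
    obtain ⟨W, h, n, hqW, hn⟩ := (isTors_iff hloc).1 hM W₀ y q hq₀
    refine ⟨W, h.trans hW₀, n, hqW, ?_⟩
    have h2 := hn.app hloc θ
    rwa [app_mres hloc θ h y, hy, FModLib.mres_mres] at h2

theorem isTors_of_iso (e : M ≅ N) (hM : FTors.IsTorsF 𝔛 hloc.1 M) : FTors.IsTorsF 𝔛 hloc.1 N :=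
  isTors_of_epi hloc e.hom hM

/-- Elements of a higher open ideal are sums of products. -/
theorem smul_eq_zero_of_mul {n m : ℕ} {W : (𝔛.X 0).Opens} (hW : IsAffineOpen W) (x : MSec M W)
    (hx : ∀ b c : RSec (𝔛.Osh hloc.1) W, oK hloc.1 n W b = 0 → oK hloc.1 m W c = 0 →
      (c • (b • x : MSec M W) : MSec M W) = 0)
    (a : RSec (𝔛.Osh hloc.1) W) (ha : oK hloc.1 (n + m + 1) W a = 0) : (a • x : MSec M W) = 0 := by
  obtain ⟨I, -, hI⟩ := FCohLib.exists_adic hloc hW
  have h1 : a ∈ I ^ (m + 1) * I ^ (n + 1) := by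
    rw [← pow_add, show m + 1 + (n + 1) = n + m + 1 + 1 by omega]
    exact (hI _ a).1 ha
  refine Submodule.mul_induction_on h1 (fun c hc b hb => ?_) (fun p q hp hq => ?_)
  · exact (mul_smul c b x).trans (hx b c ((hI n b).2 hb) ((hI m c).2 hc))
  · exact (add_smul p q x).trans ((congrArg₂ (fun s t => s + t) hp hq).trans (add_zero _))

/-- Extensions of torsion modules. -/
theorem isTors_extension (θ : M ⟶ N) (hK : FTors.IsTorsF 𝔛 hloc.1 (kernel θ)) (hN : FTors.IsTorsF 𝔛 hloc.1 N) :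
    FTors.IsTorsF 𝔛 hloc.1 M := (isTors_iff hloc).2 fun U x q hq => by
  classical
  obtain ⟨W₀, hW₀, n, hq₀, hn⟩ := (isTors_iff hloc).1 hN U (θ.val.app (op U) x) q hq
  obtain ⟨V, hV, hqV, hVW⟩ := Opens.isBasis_iff_nbhd.mp (𝔛.X 0).isBasis_affineOpens hq₀
  obtain ⟨σ, _, z, hz0, hz⟩ := exists_ker_gens hloc hV n
  have hVU := hVW.trans hW₀
  have h0 : ∀ l, θ.val.app (op V) (z l • mres M hVU x) = 0 := fun l => by
    refine ((θ.val.app (op V)).hom.map_smul (z l) _).trans ?_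
    refine (congrArg (fun y : MSec N V => (z l • y : MSec N V))
      ((app_mres hloc θ hVU x).trans (FModLib.mres_mres N hVW hW₀ _).symm)).trans ?_
    exact hn V hVW (z l) (hz0 l)
  choose y hy using fun l => _root_.ModSiteLib.exists_kernel_section θ V _ (h0 l)
  choose m hm using fun l => exists_killed hloc hV.isCompact ((isTors_iff hloc).1 hK V (y l))
  refine ⟨V, hVU, n + Finset.univ.sup m + 1, hqV, fun W h a ha => ?_⟩
  refine FCohLib.eq_zero_of_points M _ fun p hp => ?_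
  obtain ⟨W', hW', hpW', hW'W⟩ := Opens.isBasis_iff_nbhd.mp (𝔛.X 0).isBasis_affineOpens hp
  refine ⟨W', hW'W, hpW', ?_⟩
  refine (mres_smul hloc hW'W a _).trans ?_
  refine smul_eq_zero_of_mul hloc hW' _ (fun b c hb hc => ?_) _ (oK_eq_zero_res hloc _ hW'W ha)
  have hW'V := hW'W.trans h
  obtain ⟨d, rfl⟩ := hz W' hW' hW'V b hb
  rw [FModLib.mres_mres]
  refine (congrArg (fun t : MSec M W' => (c • t : MSec M W')) Finset.sum_smul).trans ?_
  refine Finset.smul_sum.trans (Finset.sum_eq_zero fun l _ => ?_)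
  have h2 : (rres (𝔛.Osh hloc.1) hW'V (z l) • mres M hW'V (mres M hVU x) : MSec M W') =
      (kernel.ι θ).val.app (op W') (mres _ hW'V (y l)) :=
    (mres_smul hloc hW'V _ _).symm.trans ((congrArg (mres M hW'V) (hy l).symm).trans (app_mres hloc _ hW'V _).symm)
  refine (congrArg (fun t : MSec M W' => (c • t : MSec M W')) ((mul_smul (d l) _ _).trans
    (congrArg (fun t : MSec M W' => (d l • t : MSec M W')) h2))).trans ?_
  refine (smul_comm c (d l) _).trans ((congrArg (fun t : MSec M W' => (d l • t : MSec M W')) ?_).trans (smul_zero _))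
  refine (((kernel.ι θ).val.app (op W')).hom.map_smul c _).symm.trans ((congrArg _ ?_).trans (map_zero _))
  exact hm l W' hW'V c (oK_eq_zero_of_le hloc (Finset.le_sup (Finset.mem_univ l)) hc)

end IndCohLib

end
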