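import Groth.Agent.IndCohLib.Bound
import Groth.Agent.ModCohLib.Push
import Groth.Prelude.Def_SiteCmp

/-!
# Derived direct images of complexes with ind-coherent cohomology on formal schemes
-/

set_option autoImplicit false
set_option linter.style.haveILetI false
set_option maxHeartbeats 800000
set_option synthInstance.maxHeartbeats 80000

universe u

open CategoryTheory CategoryTheory.Limits AlgebraicGeometry TopologicalSpace Opposite FSch
open QCohLib (HU)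
open Groth.Agent

noncomputable section

attribute [local instance] HasDerivedCategory.standard

namespace IndCohLib

variable {𝔛 : Sys.{u}} (hloc : 𝔛.IsLocNoethFormal)

/-- A basis gives coverings. -/
theorem exists_cover_basis {X : TopCat.{u}} {B : Set (Opens X)} (hB : Opens.IsBasis B) (U : Opens X) :
    ∃ (ι : Type u) (Y : ι → Opens X) (g : ∀ i, Y i ⟶ U),
      Sieve.ofArrows Y g ∈ Opens.grothendieckTopology X U ∧ ∀ i, Y i ∈ B := by
  refine ⟨{V : Opens X // V ∈ B ∧ V ≤ U}, Subtype.val, fun V => homOfLE V.2.2, fun x hx => ?_,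
    fun V => V.2.1⟩
  obtain ⟨V, hV, hxV, hVU⟩ := Opens.isBasis_iff_nbhd.mp hB hx
  exact ⟨V, homOfLE hVU, Sieve.ofArrows_mk _ _ (⟨V, hV, hVU⟩ : {V : Opens X // V ∈ B ∧ V ≤ U}), hxV⟩

open FRpushLib in
/-- Higher direct images vanish above a bound on cohomology of preimages of a basis. -/
theorem isZero_rpush_of_acyclic {M : ModF 𝔛 hloc.1} {𝔜 : Sys.{u}} (h𝔜 : 𝔜.IsFormal) (g : 𝔛 ⟶ 𝔜)
    [HasInjectiveResolutions (ModF 𝔛 hloc.1)] (B : Set (𝔜.X 0).Opens) (hB : Opens.IsBasis B) (d : ℕ)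
    (h : ∀ V ∈ B, ∀ n, d ≤ n → Subsingleton (HU (tAb hloc M) (n + 1) (((g : Hom 𝔛 𝔜).app 0) ⁻¹ᵁ V)))
    (i : ℕ) (hi : d < i) :
    IsZero ((RpushF g hloc.1 h𝔜 i).obj M) := by
  let g0 := ((g : Hom 𝔛 𝔜).app 0).base
  let R : Res (tAb hloc M) := Res.ofInjective (injectiveResolution M)
  haveI := preservesFiniteLimits_pf g0
  obtain ⟨e⟩ := RpushLib.nonempty_rightDerived_iso_of_acyclic (QCohLib.pf g0) R.K R.single (fun n => by
      rw [SpSeqLib.isSAcyclic_iff]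
      intro p hp
      exact QCohLib.isZero_rightDerived (f := g0) (B := Set.univ)
        (Opens.isBasis_iff_nbhd.mpr fun {U x} hx => ⟨U, trivial, hx, le_rfl⟩) (d := 0)
        (fun V _ m _ => R.ac n m _) hp) i
  have hz : IsZero (((QCohLib.pf g0).rightDerived i).obj (tAb hloc M)) :=
    QCohLib.isZero_rightDerived (f := g0) hB h hi
  let a : pushK g0 (Hom.sharp g hloc.1 h𝔜) M ≅ ((QCohLib.pf g0).mapHomologicalComplex _).obj R.K :=
    HomologicalComplex.Hom.isoOfComponents (fun _ => Iso.refl _) (fun i i' _ => by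
      refine (Category.id_comp _).trans (Eq.trans ?_ (Category.comp_id _).symm)
      rfl)
  have hz' : IsZero ((toAbS (𝔜.Osh h𝔜)).obj ((RpushF g hloc.1 h𝔜 i).obj M)) :=
    hz.of_iso ((psi g0 (Hom.sharp g hloc.1 h𝔜) i M).symm ≪≫ HomologicalComplex.homologyMapIso a i ≪≫ e.symm)
  rw [IsZero.iff_id_eq_zero] at hz' ⊢
  exact (toAbS (𝔜.Osh h𝔜)).map_injective (((toAbS (𝔜.Osh h𝔜)).map_id _).trans (hz'.trans ((toAbS (𝔜.Osh h𝔜)).map_zero _ _).symm))

/-- Affine opens acyclicity, as the coverings of the derived statements. -/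
theorem cofinal_affine (U : (𝔛.X 0).Opens) :
    ModCohLib.CofinalCover (Opens.grothendieckTopology (𝔛.X 0))
      (fun W => ∀ (F : ModF 𝔛 hloc.1), AGood hloc F → ∀ k : ℕ, 0 < k →
        Subsingleton (ModSite.HU (𝔛.Osh hloc.1) F k W)) U :=
  ModCohLib.cofinalCover_of_forall _ {W | IsAffineOpen W} (exists_cover_basis (𝔛.X 0).isBasis_affineOpens)
    (fun W hW F hF k hk => by
      obtain ⟨n, rfl⟩ : ∃ n, k = n + 1 := ⟨k - 1, by omega⟩
      exact subsingleton_HU_good hloc (hF W hW) n hW le_rfl) U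

/-- **Vanishing of derived direct images above a bound.** -/
theorem isZero_hMod_rpushD {𝔜 : Sys.{u}} (h𝔜 : 𝔜.IsFormal) (g : 𝔛 ⟶ 𝔜)
    [SiteCmp.HasRpushD (homMor g hloc.1 h𝔜)] (B : Set (𝔜.X 0).Opens) (hB : Opens.IsBasis B) (d : ℕ)
    (h : ∀ V ∈ B, ∀ M : ModF 𝔛 hloc.1, AGood hloc M → ∀ n, d ≤ n →
      Subsingleton (HU (tAb hloc M) (n + 1) (((g : Hom 𝔛 𝔜).app 0) ⁻¹ᵁ V)))
    (G : DerivedCategory (ModF 𝔛 hloc.1)) (hG : ∀ i : ℤ, AGood hloc (SiteCmp.HMod G i))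
    (i₀ : ℤ) (hz : ∀ i : ℤ, i₀ ≤ i → IsZero (SiteCmp.HMod G i)) (i : ℤ) (hi : i₀ + d ≤ i) :
    IsZero (SiteCmp.HMod ((SiteCmp.RpushD (homMor g hloc.1 h𝔜)).obj G) i) := by
  let f := homMor g hloc.1 h𝔜
  let RF := SiteCmp.RpushD f
  let α := (SiteCmp.pushKh f).totalRightDerivedUnit DerivedCategory.Qh
    (HomotopyCategory.quasiIso (ModF 𝔛 hloc.1) (ComplexShape.up ℤ))
  haveI : EnoughInjectives (ModF 𝔛 hloc.1) := inferInstance
  haveI : HasInjectiveResolutions (ModF 𝔛 hloc.1) := inferInstance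
  haveI : WSerre.IsWeakSerre (AGood hloc) := isWeakSerre_aGood hloc
  haveI := ModCohLib.isIso_homology_rpush_truncGE f RF α (AGood hloc) {W | IsAffineOpen W} B
    (exists_cover_basis (𝔛.X 0).isBasis_affineOpens) (fun V _ => ⟨0, cofinal_affine hloc V⟩)
    (exists_cover_basis hB)
    (fun V _ => ⟨d, ModCohLib.cofinalCover_of_forall _ B (exists_cover_basis hB)
      (fun W hW F hF k hk => by
        obtain ⟨n, rfl⟩ : ∃ n, k = n + 1 := ⟨k - 1, by omega⟩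
        exact h W hW F hF n (by omega)) V⟩)
    (d : ℤ) (fun F hF p hp => isZero_rpush_of_acyclic hloc h𝔜 g B hB d (fun V hV => h V hV F hF) p (by omega))
    G hG i₀ i (by omega)
  obtain ⟨_, _⟩ := DerLib.KInjDerived.exists_isTriangulated_map (DerLib.KInjDerived.enoughKInj _) f.push RF α
  haveI : G.IsLE (i₀ - 1) := (DerivedCategory.isLE_iff G (i₀ - 1)).mpr fun q hq => hz q (by omega)
  have h0 := (DerivedCategory.TStructure.t.isLE_iff_isZero_truncGE_obj (i₀ - 1) i₀ (by omega) G).mp inferInstance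
  exact ((DerivedCategory.homologyFunctor (ModF 𝔜 h𝔜) i).map_isZero (RF.map_isZero h0)).of_iso
    (asIso ((DerivedCategory.homologyFunctor (ModF 𝔜 h𝔜) i).map
      (RF.map ((DerivedCategory.TStructure.t.truncGEπ i₀).app G))))

/-- A basis of a quasi-compact target with uniformly bounded cohomology of preimages. -/
theorem exists_basis_bound [CompactSpace (𝔛.X 0)] {𝔜 : Sys.{u}} [CompactSpace (𝔜.X 0)] (f : 𝔛 ⟶ 𝔜) :
    ∃ (B : Set (𝔜.X 0).Opens) (d : ℕ), Opens.IsBasis B ∧ ∀ V ∈ B, ∀ M : ModF 𝔛 hloc.1, AGood hloc M →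
      ∀ n, d ≤ n → Subsingleton (HU (tAb hloc M) (n + 1) (((f : Hom 𝔛 𝔜).app 0) ⁻¹ᵁ V)) := by
  classical
  let f0 := (f : Hom 𝔛 𝔜).app 0
  haveI : IsLocallyNoetherian (𝔛.X 0) := hloc.2.2 0
  haveI : AlgebraicGeometry.IsNoetherian (𝔛.X 0) := {}
  obtain ⟨t, ht⟩ := isCompact_univ.elim_finite_subcover (fun W : (𝔜.X 0).affineOpens => (W.1 : Set (𝔜.X 0)))
    (fun W => W.1.isOpen) fun p _ => by
      obtain ⟨W, hW, hp, _⟩ := Opens.isBasis_iff_nbhd.mp (𝔜.X 0).isBasis_affineOpens (U := ⊤) (x := p) trivial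
      exact Set.mem_iUnion.mpr ⟨⟨W, hW⟩, hp⟩
  have hc : ∀ W : (𝔜.X 0).affineOpens, ∃ d : ℕ, ∀ (T : (𝔛.X 0).Opens),
      (∀ A : (𝔛.X 0).Opens, IsAffineOpen A → A ≤ f0 ⁻¹ᵁ W.1 → IsAffineOpen (A ⊓ T)) →
      ∀ M : ModF 𝔛 hloc.1, AGood hloc M → ∀ n, d ≤ n → Subsingleton (HU (tAb hloc M) n (f0 ⁻¹ᵁ W.1 ⊓ T)) :=
    fun W => boundedT_of_isCompact hloc _ (NoetherianSpace.isCompact _)
  choose d hd using hc
  let B : Set (𝔜.X 0).Opens := {V | IsAffineOpen V ∧ ∃ W ∈ t, V ≤ W.1}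
  have hB : Opens.IsBasis B := by
    rw [Opens.isBasis_iff_nbhd]
    intro U p hp
    obtain ⟨W, hWt, hpW⟩ := Set.mem_iUnion₂.mp (ht (Set.mem_univ p))
    obtain ⟨V, hV, hpV, hVle⟩ := Opens.isBasis_iff_nbhd.mp (𝔜.X 0).isBasis_affineOpens
      (U := U ⊓ W.1) (x := p) ⟨hp, hpW⟩
    exact ⟨V, ⟨hV, W, hWt, hVle.trans inf_le_right⟩, hpV, hVle.trans inf_le_left⟩
  refine ⟨B, t.sup d, hB, ?_⟩
  rintro V ⟨hV, W, hWt, hVW⟩ M hM n hn
  have hle : f0 ⁻¹ᵁ V ≤ f0 ⁻¹ᵁ W.1 := fun x hx => hVW hx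
  have := hd W (f0 ⁻¹ᵁ V) (fun A hA hA' => isAffineOpen_inf_preimage f0 W.2 hV hVW hA hA') M hM (n + 1)
    ((Finset.le_sup hWt).trans (by omega))
  rwa [inf_eq_right.mpr hle] at this

/-- **A bound for derived direct images to a quasi-compact formal scheme.** -/
theorem exists_bound_rpushD [CompactSpace (𝔛.X 0)] {𝔜 : Sys.{u}} (h𝔜 : 𝔜.IsFormal) [CompactSpace (𝔜.X 0)]
    (f : 𝔛 ⟶ 𝔜) [SiteCmp.HasRpushD (homMor f hloc.1 h𝔜)] :
    ∃ e : ℕ, ∀ (G : DerivedCategory (ModF 𝔛 hloc.1)), (∀ i : ℤ, AGood hloc (SiteCmp.HMod G i)) →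
      ∀ i₀ : ℤ, (∀ i : ℤ, i₀ ≤ i → IsZero (SiteCmp.HMod G i)) → ∀ i : ℤ, i₀ + e ≤ i →
        IsZero (SiteCmp.HMod ((SiteCmp.RpushD (homMor f hloc.1 h𝔜)).obj G) i) := by
  obtain ⟨B, d, hB, h⟩ := exists_basis_bound hloc f
  exact ⟨d, fun G hG i₀ hz i hi => isZero_hMod_rpushD hloc h𝔜 f B hB d h G hG i₀ hz i hi⟩

end IndCohLib

end
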