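import Groth.Agent.IndCohLib.Proper
import Groth.Agent.FiltSectLib.Coprod

/-!
# Derived direct images and coproducts of complexes with ind-coherent cohomology
-/

set_option autoImplicit false
set_option linter.style.haveILetI false
set_option maxHeartbeats 1000000
set_option synthInstance.maxHeartbeats 80000

universe u

open CategoryTheory CategoryTheory.Limits AlgebraicGeometry TopologicalSpace Opposite FSch Pretriangulated
open Groth.Agent

noncomputable section

attribute [local instance] HasDerivedCategory.standard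

namespace IndCohLib

variable {𝔛 : Sys.{u}} (hloc : 𝔛.IsLocNoethFormal) [CompactSpace (𝔛.X 0)] {𝔜 : Sys.{u}}
  (h𝔜 : 𝔜.IsFormal) [CompactSpace (𝔜.X 0)] (f : 𝔛 ⟶ 𝔜) [SiteCmp.HasRpushD (homMor f hloc.1 h𝔜)]

/-- A map which is an isomorphism in high degrees stays one in high degrees after `Rf_*`. -/
theorem isIso_homology_rpushD_map {e : ℕ}
    (he : ∀ (G : DerivedCategory (ModF 𝔛 hloc.1)), (∀ i : ℤ, AGood hloc (SiteCmp.HMod G i)) →
      ∀ i₀ : ℤ, (∀ i : ℤ, i₀ ≤ i → IsZero (SiteCmp.HMod G i)) → ∀ i : ℤ, i₀ + e ≤ i →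
        IsZero (SiteCmp.HMod ((SiteCmp.RpushD (homMor f hloc.1 h𝔜)).obj G) i))
    {K L : DerivedCategory (ModF 𝔛 hloc.1)} (φ : K ⟶ L) (hK : ∀ i, IsInd hloc (SiteCmp.HMod K i))
    (hL : ∀ i, IsInd hloc (SiteCmp.HMod L i)) (a : ℤ)
    (h : ∀ q, a ≤ q → IsIso ((DerivedCategory.homologyFunctor (ModF 𝔛 hloc.1) q).map φ))
    (m : ℤ) (hm : a + e + 1 ≤ m) :
    IsIso ((DerivedCategory.homologyFunctor (ModF 𝔜 h𝔜) m).map ((SiteCmp.RpushD (homMor f hloc.1 h𝔜)).map φ)) := by
  let fm := homMor f hloc.1 h𝔜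
  let RF := SiteCmp.RpushD fm
  let α := (SiteCmp.pushKh fm).totalRightDerivedUnit DerivedCategory.Qh
    (HomotopyCategory.quasiIso (ModF 𝔛 hloc.1) (ComplexShape.up ℤ))
  obtain ⟨_, _⟩ := DerLib.KInjDerived.exists_isTriangulated_map (DerLib.KInjDerived.enoughKInj _) fm.push RF α
  obtain ⟨C, g, δ, hT⟩ := Pretriangulated.distinguished_cocone_triangle φ
  haveI := isWeakSerre_isInd hloc
  let P : ObjectProperty (ModF 𝔛 hloc.1) := fun M => IsInd hloc M
  haveI : WSerre.IsWeakSerre P := isWeakSerre_isInd hloc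
  have hC : WSerre.cohIn P C := DerLib.WeakSerreTri.cohIn_obj₂ P (Triangle.mk φ g δ).rotate
    (rot_of_distTriang _ hT) hL (DerLib.WeakSerreTri.cohIn_shift P K 1 hK)
  let H := fun q => DerivedCategory.homologyFunctor (ModF 𝔛 hloc.1) q
  have hzC : ∀ q, a ≤ q → IsZero (SiteCmp.HMod C q) := fun q hq => by
    refine (DerivedCategory.HomologySequence.exact₃ _ hT q (q + 1) rfl).isZero_of_both_zeros ?_ ?_
    · haveI := h q hq
      exact (cancel_epi ((H q).map φ)).1 (by
        refine Eq.trans ?_ comp_zero.symm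
        refine ((H q).map_comp _ _).symm.trans ?_
        exact (congrArg _ (comp_distTriang_mor_zero₁₂ _ hT)).trans (Functor.map_zero _ _ _))
    · haveI := h (q + 1) (by omega)
      exact (cancel_mono ((H (q + 1)).map φ)).1
        ((DerivedCategory.HomologySequence.δ_comp _ hT q (q + 1) rfl).trans zero_comp.symm)
  have hz := he C (fun i => (hC i).good) a hzC
  exact DerLib.Devissage.isIso_homologyMap_mor₁ _ (RF.map_distinguished _ hT) m (hz m (by omega))
    (hz (m - 1) (by omega))

/-- **Derived direct images commute with coproducts of complexes with ind-coherent cohomology.** -/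
theorem isIso_sigmaDesc_rpushD {ι : Type u} (K : ι → DerivedCategory (ModF 𝔛 hloc.1))
    (hK : ∀ a i, IsInd hloc (SiteCmp.HMod (K a) i)) [HasCoproduct K]
    [HasCoproduct fun a => (SiteCmp.RpushD (homMor f hloc.1 h𝔜)).obj (K a)] :
    IsIso (Sigma.desc fun a => (SiteCmp.RpushD (homMor f hloc.1 h𝔜)).map (Sigma.ι K a)) := by
  let fm := homMor f hloc.1 h𝔜
  let RF := SiteCmp.RpushD fm
  let α := (SiteCmp.pushKh fm).totalRightDerivedUnit DerivedCategory.Qh
    (HomotopyCategory.quasiIso (ModF 𝔛 hloc.1) (ComplexShape.up ℤ))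
  let A := ModF 𝔛 hloc.1
  haveI : EnoughInjectives A := inferInstance
  haveI : HasFiniteBiproducts A := Abelian.hasFiniteBiproducts
  haveI : AB4OfSize.{u} A := AB4.of_AB5 A
  haveI : HasFiniteBiproducts (ModF 𝔜 h𝔜) := Abelian.hasFiniteBiproducts
  haveI : AB4OfSize.{u} (ModF 𝔜 h𝔜) := AB4.of_AB5 (ModF 𝔜 h𝔜)
  haveI := preservesCoproducts_push hloc h𝔜 f ι
  haveI := preservesFiniteLimits_push hloc h𝔜 f
  haveI := isInd_closed_colimits hloc (Discrete ι)
  obtain ⟨e, he⟩ := exists_bound_rpushD hloc h𝔜 f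
  let P := fun a => DerivedCategory.Q.objPreimage (K a)
  let eP := fun a => DerivedCategory.Q.objObjPreimageIso (K a)
  refine FiltSectLib.isIso_sigmaDesc_of_homology RF K P eP fun m => ?_
  let C := Discrete.functor P
  let c : Cocone C := Cofan.mk (∐ P) (Sigma.ι P)
  let hc : IsColimit c := coproductIsCoproduct P
  let a : ℤ := m - e - 1
  let T := (ComplexShape.embeddingUpIntGE a).truncGEFunctor A
  let τ : C ⟶ C ⋙ T :=
    C.rightUnitor.inv ≫ Functor.whiskerLeft C ((ComplexShape.embeddingUpIntGE a).πTruncGENatTrans A)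
  let c' := colimit.cocone (C ⋙ T)
  let hc' : IsColimit c' := colimit.isColimit (C ⋙ T)
  let g : c.pt ⟶ c'.pt := hc.map c' τ
  have w : ∀ j, c.ι.app j ≫ g = τ.app j ≫ c'.ι.app j := fun j => hc.ι_map c' τ j
  have hτ : ∀ j q, a ≤ q → IsIso (HomologicalComplex.homologyMap (τ.app j) q) := fun j q hq => by
    have e : τ.app j = (C.obj j).πTruncGE a := by simp [τ]; rfl
    rw [e]
    exact (quasiIsoAt_iff_isIso_homologyMap _ _).1 ((C.obj j).quasiIsoAt_πTruncGE a q hq)
  have hg : ∀ q, a ≤ q → IsIso (HomologicalComplex.homologyMap g q) := fun q hq =>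
    FiltSectLib.isIso_homologyMap_colimit hc hc' τ g w q fun j => hτ j q hq
  have hge : ∀ j, CochainComplex.IsStrictlyGE ((C ⋙ T).obj j) a := fun j =>
    (inferInstance : ((C.obj j).truncGE a).IsStrictlyGE a)
  have hindC : ∀ j q, IsInd hloc ((C.obj j).homology q) := fun j q =>
    isInd_of_iso hloc ((DerivedCategory.homologyFunctor A q).mapIso (eP j.as).symm ≪≫
      (DerivedCategory.homologyFunctorFactors A q).app (P j.as)) (hK j.as q)
  have hindT : ∀ j q, IsInd hloc (((C ⋙ T).obj j).homology q) := fun j q => by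
    by_cases hq : a ≤ q
    · haveI := hτ j q hq
      exact isInd_of_iso hloc (asIso (HomologicalComplex.homologyMap (τ.app j) q)) (hindC j q)
    · haveI := hge j
      exact isInd_of_isCohF hloc (isCohF_isZero hloc
        (CochainComplex.isZero_of_isGE ((C ⋙ T).obj j) a q (by omega)))
  have hsum : ∀ {L : Discrete ι ⥤ CochainComplex A ℤ} {k : Cocone L}, IsColimit k →
      (∀ j q, IsInd hloc ((L.obj j).homology q)) → ∀ q, IsInd hloc (k.pt.homology q) := fun {L k} hk h q =>
    ObjectProperty.prop_of_isColimit (fun M : A => IsInd hloc M)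
      (FreeResLib.isColimitHomology L hk q) fun j => h j q
  have hQ : ∀ (L : CochainComplex A ℤ), (∀ q, IsInd hloc (L.homology q)) →
      ∀ q, IsInd hloc (SiteCmp.HMod (DerivedCategory.Q.obj L) q) := fun L h q =>
    isInd_of_iso hloc ((DerivedCategory.homologyFunctorFactors A q).app L).symm (h q)
  obtain ⟨h'⟩ := GenColim.nonempty_isColimit_rH_of_isGE fm.push RF α
    (isZero_rightDerived_coproduct hloc h𝔜 f ι) hc' a (fun j => by haveI := hge j; infer_instance) m
  have key : ∀ {L L' : CochainComplex A ℤ} (φ : L ⟶ L'), (∀ q, IsInd hloc (L.homology q)) →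
      (∀ q, IsInd hloc (L'.homology q)) → (∀ q, a ≤ q → IsIso (HomologicalComplex.homologyMap φ q)) →
      IsIso ((GenColim.rH RF m).map φ) := fun {L L'} φ h₁ h₂ h₃ =>
    isIso_homology_rpushD_map hloc h𝔜 f he (DerivedCategory.Q.map φ) (hQ L h₁) (hQ L' h₂) a
      (fun q hq => (NatIso.isIso_map_iff (DerivedCategory.homologyFunctorFactors A q) φ).2 (h₃ q hq))
      m (by omega)
  haveI : ∀ j, IsIso ((Functor.whiskerRight τ (GenColim.rH RF m)).app j) := fun j =>
    key (τ.app j) (hindC j) (hindT j) (hτ j)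
  haveI : IsIso ((GenColim.rH RF m).map g) := key g (hsum hc hindC) (hsum hc' hindT) hg
  exact FiltSectLib.isColimit_source (c := (GenColim.rH RF m).mapCocone c)
    (c' := (GenColim.rH RF m).mapCocone c') (Functor.whiskerRight τ (GenColim.rH RF m))
    ((GenColim.rH RF m).map g)
    (fun j => ((GenColim.rH RF m).map_comp _ _).symm.trans
      ((congrArg (GenColim.rH RF m).map (w j)).trans ((GenColim.rH RF m).map_comp _ _))) h'

end IndCohLib

end
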