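import Groth.Agent.DerLib.BrownGroth
import Groth.Agent.DerLib.BrownAdjoint
import Groth.Agent.DerLib.SmallDerived
import Mathlib.Algebra.Homology.DerivedCategory.ExactFunctor
import Mathlib.CategoryTheory.Localization.Equivalence

/-!
# The adjoint functor theorem between derived categories of Grothendieck categories, in any model
-/

set_option autoImplicit false
set_option linter.style.haveILetI false
set_option linter.unusedSectionVars false

universe v u u' u₁ u₁' w w'

open CategoryTheory CategoryTheory.Limits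
open Groth.Agent

noncomputable section

namespace IndCohLib.ModelChange

variable {A : Type u} [Category.{v} A] [Abelian A] {B : Type u'} [Category.{v} B] [Abelian B]

/-- Derived functors of equivalences are equivalences. -/
theorem isEquivalence_mapDerived [HasDerivedCategory.{w} A] [HasDerivedCategory.{w'} B]
    (G : A ⥤ B) (G' : B ⥤ A) [G.Additive] [G'.Additive] [PreservesFiniteLimits G] [PreservesFiniteColimits G]
    [PreservesFiniteLimits G'] [PreservesFiniteColimits G'] (i : G ⋙ G' ≅ 𝟭 A) (j : G' ⋙ G ≅ 𝟭 B) :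
    G.mapDerivedCategory.IsEquivalence :=
  Localization.isEquivalence DerivedCategory.Q (HomologicalComplex.quasiIso A (ComplexShape.up ℤ))
    DerivedCategory.Q (HomologicalComplex.quasiIso B (ComplexShape.up ℤ))
    (G.mapHomologicalComplex (ComplexShape.up ℤ) ⋙ DerivedCategory.Q) G.mapDerivedCategory
    (G'.mapHomologicalComplex (ComplexShape.up ℤ) ⋙ DerivedCategory.Q) G'.mapDerivedCategory
    (Functor.associator _ _ _ ≪≫ Functor.isoWhiskerLeft _ G'.mapDerivedCategoryFactors ≪≫
      (Functor.associator _ _ _).symm ≪≫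
      Functor.isoWhiskerRight ((Functor.mapHomologicalComplexCompIso (Iso.refl (G ⋙ G')) _).symm ≪≫
        NatIso.mapHomologicalComplex i _ ≪≫ Functor.mapHomologicalComplexIdIso A _) _ ≪≫ Functor.leftUnitor _)
    (Functor.associator _ _ _ ≪≫ Functor.isoWhiskerLeft _ G.mapDerivedCategoryFactors ≪≫
      (Functor.associator _ _ _).symm ≪≫
      Functor.isoWhiskerRight ((Functor.mapHomologicalComplexCompIso (Iso.refl (G' ⋙ G)) _).symm ≪≫
        NatIso.mapHomologicalComplex j _ ≪≫ Functor.mapHomologicalComplexIdIso B _) _ ≪≫ Functor.leftUnitor _)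

variable {A' : Type u₁} [Category.{v} A'] [Abelian A'] [IsGrothendieckAbelian.{v} A']
  {B' : Type u₁'} [Category.{v} B'] [Abelian B']
  [HasDerivedCategory.{v} A'] [HasDerivedCategory.{v} B']
  [HasDerivedCategory.{w} A] [HasDerivedCategory.{w'} B]

theorem isLeftAdjoint_of_models (G : A' ⥤ A) [G.Additive] [PreservesFiniteLimits G] [PreservesFiniteColimits G]
    [G.mapDerivedCategory.IsEquivalence]
    (H : B ⥤ B') [H.Additive] [PreservesFiniteLimits H] [PreservesFiniteColimits H]
    [H.mapDerivedCategory.IsEquivalence]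
    (F : DerivedCategory A ⥤ DerivedCategory B) [F.CommShift ℤ] [F.IsTriangulated]
    (hF : ∀ ι : Type v, PreservesColimitsOfShape (Discrete ι) F) : F.IsLeftAdjoint := by
  let eA := G.mapDerivedCategory.asEquivalence
  let eB := H.mapDerivedCategory.asEquivalence
  let P := G.mapDerivedCategory ⋙ F ⋙ H.mapDerivedCategory
  haveI : ∀ ι : Type v, PreservesColimitsOfShape (Discrete ι) P := fun ι => by
    haveI := hF ι
    infer_instance
  haveI : P.IsLeftAdjoint := by
    open CategoryTheory.Pretriangulated.Opposite in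
    haveI := DerLib.BrownGroth.hasCoproducts A'
    open CategoryTheory.Pretriangulated.Opposite in
    exact DerLib.Brown.isLeftAdjoint (fun H _ _ => DerLib.BrownGroth.isRepresentable H) P
  haveI : eA.inverse.IsLeftAdjoint := eA.symm.toAdjunction.isLeftAdjoint
  haveI : eB.inverse.IsLeftAdjoint := eB.symm.toAdjunction.isLeftAdjoint
  haveI : (eA.inverse ⋙ P ⋙ eB.inverse).IsLeftAdjoint := inferInstance
  exact Functor.isLeftAdjoint_of_iso
    (show eA.inverse ⋙ P ⋙ eB.inverse ≅ F from
      (Functor.isoWhiskerLeft _ (Functor.associator _ _ _)) ≪≫ (Functor.associator _ _ _).symm ≪≫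
      Functor.isoWhiskerRight eA.counitIso _ ≪≫ Functor.leftUnitor _ ≪≫
      Functor.associator _ _ _ ≪≫ Functor.isoWhiskerLeft _ eB.unitIso.symm ≪≫ Functor.rightUnitor _)

end ModelChange

open ModelChange in
/-- **The adjoint functor theorem for derived categories of Grothendieck categories.** -/
theorem isLeftAdjoint_of_preservesCoproducts {A : Type u} [Category.{v} A] [Abelian A] [IsGrothendieckAbelian.{v} A]
    {B : Type u'} [Category.{v} B] [Abelian B] [IsGrothendieckAbelian.{v} B]
    [hA : HasDerivedCategory.{w} A] [hB : HasDerivedCategory.{w'} B]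
    (F : DerivedCategory A ⥤ DerivedCategory B) [F.CommShift ℤ] [F.IsTriangulated]
    (hF : ∀ ι : Type v, PreservesColimitsOfShape (Discrete ι) F) : F.IsLeftAdjoint := by
  let sA : HasDerivedCategory.{v} A := DerLib.SmallDerived.hasDerivedCategorySmall A
  let sB : HasDerivedCategory.{v} B := DerLib.SmallDerived.hasDerivedCategorySmall B
  haveI hG := @isEquivalence_mapDerived A _ _ A _ _ sA hA (𝟭 A) (𝟭 A) _ _ _ _ _ _
    (Functor.leftUnitor _) (Functor.leftUnitor _)
  haveI hH := @isEquivalence_mapDerived B _ _ B _ _ hB sB (𝟭 B) (𝟭 B) _ _ _ _ _ _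
    (Functor.leftUnitor _) (Functor.leftUnitor _)
  exact @isLeftAdjoint_of_models A _ _ B _ _ A _ _ _ B _ _ sA sB hA hB (𝟭 A) _ _ _ hG (𝟭 B) _ _ _ hH F _ _ hF

end IndCohLib

end
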