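import Groth.Agent.IndCohLib.Union
import Groth.Agent.ModSiteLib.FreeOn
import Mathlib.CategoryTheory.Adjunction.AdjointFunctorTheorems
import Mathlib.CategoryTheory.Abelian.Subcategory
import Mathlib.CategoryTheory.Abelian.Subobject

/-!
# The inclusion of ind-coherent modules has a right adjoint
-/

set_option autoImplicit false
set_option linter.style.haveILetI false
set_option maxHeartbeats 800000

universe u

open CategoryTheory CategoryTheory.Limits AlgebraicGeometry TopologicalSpace Opposite FSch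
open FModLib (MSec RSec mres rres lc)

noncomputable section

namespace IndCohLib

section

variable {C : Type*} [Category C] [Abelian C]

theorem comp_kernel_factor {K G M N : C} (κ : K ⟶ G) (θ : G ⟶ M) (f : M ⟶ N) (h : κ ≫ θ ≫ f = 0) :
    (κ ≫ θ) ≫ f = 0 := (Category.assoc _ _ _).trans h

theorem cokernel_kernelSubobject {P G : C} (φ : P ⟶ G) [Epi φ] :
    Nonempty (cokernel (kernelSubobject φ).arrow ≅ G) :=
  ⟨cokernelIsoOfEq (kernelSubobject_arrow φ).symm ≪≫ cokernelEpiComp (kernelSubobjectIso φ).hom (kernel.ι φ) ≪≫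
    IsColimit.coconePointUniqueUpToIso (cokernelIsCokernel (kernel.ι φ))
      (Abelian.epiIsCokernelOfKernel _ (limit.isLimit _))⟩

end

variable {𝔛 : Sys.{u}} (hloc : 𝔛.IsLocNoethFormal) {M N : ModF 𝔛 hloc.1}

/-- The kernel of a map from a coherent module to a quasi-coherent one is coherent. -/
theorem exists_coh_kernel {G : ModF 𝔛 hloc.1} (hG : IsCohF 𝔛 hloc.1 G) (hN : IsQC hloc N) (h : G ⟶ N) :
    ∃ (K : ModF 𝔛 hloc.1) (κ : K ⟶ G), IsCohF 𝔛 hloc.1 K ∧ κ ≫ h = 0 ∧
      ∀ (W : (𝔛.X 0).Opens) (y : MSec G W), h.val.app (op W) y = 0 → ∃ z : MSec K W, κ.val.app (op W) z = y := by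
  let p : G ⟶ Abelian.image h := Abelian.factorThruImage h
  have hfac : p ≫ Abelian.image.ι h = h := Abelian.image.fac h
  refine ⟨kernel p, kernel.ι p, FCohLib.isCohF_kernel hloc hG (isCohF_image_of_isQC hloc h hG hN) p, ?_, fun W y hy =>
    _root_.ModSiteLib.exists_kernel_section p W y (inj_of_mono hloc (Abelian.image.ι h) ?_)⟩
  · exact (congrArg (fun a => kernel.ι p ≫ a) hfac.symm).trans ((Category.assoc _ _ _).symm.trans
      ((congrArg (fun a => a ≫ Abelian.image.ι h) (kernel.condition p)).trans zero_comp))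
  · exact ((app_comp hloc p _ h hfac y).trans hy).trans (map_zero _).symm

/-- Kernels of maps between covered good modules. -/
theorem isInd_kernel (f : M ⟶ N) (hM : IsInd hloc M) (hN : IsInd hloc N) : IsInd hloc (kernel f) := by
  refine ⟨fun V hV => good_kernel hloc f (hM.good V hV) (hN.good V hV).rel, fun W x q hq => ?_⟩
  obtain ⟨G, hG, θ, W', hW', y, hq', hy⟩ := hM.cov W ((kernel.ι f).val.app (op W) x) q hq
  obtain ⟨K, κ, hK, hκ, hlift⟩ := exists_coh_kernel hloc hG hN.isQC (θ ≫ f)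
  obtain ⟨z, hz⟩ := hlift W' y (by
    refine (app_comp hloc θ f _ rfl y).symm.trans ((congrArg (f.val.app (op W')) hy).trans ?_)
    exact (app_mres hloc f hW' _).trans
      ((congrArg (mres N hW') (app_comp hloc _ f 0 (kernel.condition f) x)).trans (map_zero _)))
  let m : K ⟶ kernel f := kernel.lift f (κ ≫ θ) (comp_kernel_factor κ θ f hκ)
  refine ⟨K, hK, m, W', hW', z, hq', inj_of_mono hloc (kernel.ι f) ?_⟩
  refine (app_comp hloc m _ (κ ≫ θ) (kernel.lift_ι _ _ _) z).trans ?_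
  refine (app_comp hloc κ θ _ rfl z).symm.trans ((congrArg (θ.val.app (op W')) hz).trans (hy.trans ?_))
  exact (app_mres hloc (kernel.ι f) hW' x).symm

/-- One module of which all coherent modules are quotients. -/
theorem exists_cover_all :
    ∃ P : ModF 𝔛 hloc.1, ∀ G : ModF 𝔛 hloc.1, IsCohF 𝔛 hloc.1 G → ∃ φ : P ⟶ G, Epi φ := by
  classical
  let O := 𝔛.Osh hloc.1
  let I := {V : (𝔛.X 0).Opens // IsAffineOpen V} × ℕ
  let f : I → ModF 𝔛 hloc.1 := fun a => ModSite.freeOn O a.1.1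
  refine ⟨∐ f, fun G hG => ?_⟩
  have hpres := fun V : {V : (𝔛.X 0).Opens // IsAffineOpen V} => FCohLib.exists_presOn hloc hG V.2
  choose ι κ hι hκ hD using hpres
  let D := fun V => (hD V).some
  let eι := fun V => @Fintype.equivFin (ι V) (hι V)
  let s : ∀ a : I, MSec G a.1.1 := fun a =>
    if h : a.2 < @Fintype.card (ι a.1) (hι a.1) then (D a.1).e ((eι a.1).symm ⟨a.2, h⟩) else 0
  let φ : (∐ f) ⟶ G := Sigma.desc fun a => (_root_.ModSiteLib.freeOnEquiv G a.1.1).symm (s a)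
  refine ⟨φ, _root_.ModSiteLib.epi_of_loc_surjective φ fun W x => ?_⟩
  refine ⟨⟨fun W' => {g : W' ⟶ W | ∃ y : MSec (∐ f) W', φ.val.app (op W') y = mres G g.le x},
    fun {W' W''} g hg k => ?_⟩, fun q hq => ?_, fun W' g hg => hg⟩
  · obtain ⟨y, hy⟩ := hg
    exact ⟨mres _ k.le y, (app_mres hloc φ k.le y).trans ((congrArg (mres G k.le) hy).trans
      (FModLib.mres_mres G k.le g.le x))⟩
  · obtain ⟨V, hV, hqV, hVW⟩ := Opens.isBasis_iff_nbhd.mp (𝔛.X 0).isBasis_affineOpens hq
    let V' : {V : (𝔛.X 0).Opens // IsAffineOpen V} := ⟨V, hV⟩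
    letI := hι V'
    letI := hκ V'
    obtain ⟨W', hW', c, hqW', hc⟩ := (D V').pres.gen V le_rfl (mres G hVW x) q hqV
    let u : ι V' → MSec (∐ f) V := fun i => (Sigma.ι f (V', (eι V' i).1)).val.app (op V)
      (_root_.ModSiteLib.freeOnEquiv (ModSite.freeOn O V) V (𝟙 _))
    refine ⟨W', homOfLE (hW'.trans hVW), ⟨lc (∐ f) (hW'.trans le_rfl) u c, ?_⟩, hqW'⟩
    refine (FCohLib.app_lc φ _ u c).trans ?_
    refine Eq.trans ?_ ((FModLib.mres_mres G hW' hVW x).symm.trans hc).symm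
    refine congrArg (fun t => lc G _ t c) (funext fun i => ?_)
    refine (app_comp hloc _ φ _ (Sigma.ι_desc _ _) _).trans ?_
    refine (_root_.ModSiteLib.freeOnEquiv_comp V (𝟙 _) _).symm.trans ?_
    rw [Category.id_comp, Equiv.apply_symm_apply]
    show (if h : (eι V' i).1 < _ then _ else _) = _
    rw [dif_pos (eι V' i).2]
    exact congrArg (D V').e ((eι V').symm_apply_apply i)

/-- Coherent modules separate the ind-coherent ones. -/
theorem exists_separating :
    ∃ (T : Type u) (g : T → (ObjectProperty.ind.{u} fun G : ModF 𝔛 hloc.1 => IsCohF 𝔛 hloc.1 G).FullSubcategory),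
      (ObjectProperty.ofObj g).IsSeparating := by
  let Q : ObjectProperty (ModF 𝔛 hloc.1) := ObjectProperty.ind.{u} fun G => IsCohF 𝔛 hloc.1 G
  have hiff : ∀ {M}, Q M ↔ IsInd hloc M := fun {M} => ind_iff hloc
  have hwp : WellPowered.{u} (ModF 𝔛 hloc.1) :=
    IsGrothendieckAbelian.wellPowered.{u} (SheafOfModules.{u} (ModSite.ringSh (𝔛.Osh hloc.1)))
  obtain ⟨P, hP⟩ := exists_cover_all hloc
  let S := {K : Subobject P // IsCohF 𝔛 hloc.1 (cokernel K.arrow)}
  obtain ⟨T, ⟨eT⟩⟩ := Small.equiv_small.{u} (α := S)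
  let g : T → Q.FullSubcategory := fun t =>
    ⟨cokernel (eT.symm t).1.arrow, hiff.2 (isInd_of_isCohF hloc (eT.symm t).2)⟩
  refine ⟨T, g, ?_⟩
  intro A B a b hab
  refine Q.ι.map_injective (SheafOfModules.hom_ext (PresheafOfModules.hom_ext fun ⟨W⟩ =>
    ModuleCat.hom_ext (LinearMap.ext fun x => sub_eq_zero.1 ?_)))
  refine FCohLib.eq_zero_of_points _ _ fun q hq => ?_
  obtain ⟨G, hG, θ, W', hW', y, hq', hy⟩ := (hiff.1 A.property).cov W x q hq
  obtain ⟨t, ⟨i⟩⟩ : ∃ t, Nonempty ((g t).obj ≅ G) := by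
    obtain ⟨φ, hφ⟩ := hP G hG
    obtain ⟨i⟩ := cokernel_kernelSubobject φ
    let K : S := ⟨kernelSubobject φ,
      (SheafOfModules.isFinitePresentation (ModSite.ringSh (𝔛.Osh hloc.1))).prop_of_iso i.symm hG⟩
    refine ⟨eT K, ⟨?_⟩⟩
    show cokernel (eT.symm (eT K)).1.arrow ≅ G
    rw [eT.symm_apply_apply]
    exact i
  have h1 : Q.ι.map (Q.homMk (i.hom ≫ θ)) ≫ Q.ι.map a = Q.ι.map (Q.homMk (i.hom ≫ θ)) ≫ Q.ι.map b :=
    (Q.ι.map_comp _ _).symm.trans ((congrArg Q.ι.map (hab (g t) (ObjectProperty.ofObj_apply g t) _)).trans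
      (Q.ι.map_comp _ _))
  have hθ : θ ≫ Q.ι.map a = θ ≫ Q.ι.map b := by
    refine (cancel_epi i.hom).1 ?_
    simpa [Category.assoc] using h1
  refine ⟨W', hW', hq', ?_⟩
  refine (map_sub _ _ _).trans (sub_eq_zero.2 ?_)
  refine (app_mres hloc (Q.ι.map a) hW' x).symm.trans (Eq.trans ?_ (app_mres hloc (Q.ι.map b) hW' x))
  refine (congrArg ((Q.ι.map a).val.app (op W')) hy.symm).trans ?_
  exact (app_comp hloc θ _ _ hθ y).trans ((app_comp hloc θ _ _ rfl y).symm.trans (congrArg _ hy))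

/-- **The coreflection.** -/
theorem isLeftAdjoint_ι :
    (ObjectProperty.ind.{u} fun G : ModF 𝔛 hloc.1 => IsCohF 𝔛 hloc.1 G).ι.IsLeftAdjoint := by
  let Q : ObjectProperty (ModF 𝔛 hloc.1) := ObjectProperty.ind.{u} fun G => IsCohF 𝔛 hloc.1 G
  have hiff : ∀ {M}, Q M ↔ IsInd hloc M := fun {M} => ind_iff hloc
  have hz : Q.ContainsZero := ⟨⟨_, isZero_zero _, hiff.2 (isInd_of_isCohF hloc (isCohF_isZero hloc (isZero_zero (ModF 𝔛 hloc.1))))⟩⟩
  have hcl : ∀ (J : Type u) [SmallCategory J], Q.IsClosedUnderColimitsOfShape J := fun J _ => by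
    refine ⟨fun X hX => ?_⟩
    obtain ⟨⟨pres, hp⟩⟩ := hX
    have := isInd_closed_colimits hloc J
    exact hiff.2 (ObjectProperty.prop_of_isColimit (fun M => IsInd hloc M) pres.isColimit fun j => hiff.1 (hp j))
  have hk : Q.IsClosedUnderKernels := ⟨fun {M} h => by
    obtain @⟨X, Y, f, k, hlim, hX, hY⟩ := h
    exact hiff.2 (isInd_of_iso hloc (IsLimit.conePointUniqueUpToIso (kernelIsKernel f) hlim)
      (isInd_kernel hloc f (hiff.1 hX) (hiff.1 hY)))⟩
  have hc : Q.IsClosedUnderCokernels := ⟨fun {M} h => by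
    obtain @⟨X, Y, f, k, hcol, hX, hY⟩ := h
    exact hiff.2 (isInd_of_iso hloc (IsColimit.coconePointUniqueUpToIso (cokernelIsCokernel f) hcol)
      (isInd_cokernel hloc f (hiff.1 hX) (hiff.1 hY)))⟩
  have hb : Q.IsClosedUnderBinaryProducts := ObjectProperty.IsClosedUnderLimitsOfShape.mk' (by
    rintro X ⟨F, hF⟩
    exact hiff.2 (isInd_of_iso hloc (biprod.isoProd _ _ ≪≫ (HasLimit.isoOfNatIso (diagramIsoPair F)).symm)
      (isInd_biprod hloc (hiff.1 (hF ⟨WalkingPair.left⟩)) (hiff.1 (hF ⟨WalkingPair.right⟩)))))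
  have ht : Q.IsClosedUnderLimitsOfShape (Discrete.{0} PEmpty) := ObjectProperty.IsClosedUnderLimitsOfShape.mk' (by
    rintro X ⟨F, hF⟩
    exact hiff.2 (isInd_of_isCohF hloc (isCohF_isZero hloc (IsTerminal.isZero (IsTerminal.ofUnique _ (h := fun Y =>
      { default := limit.lift F { pt := Y, π := Discrete.natTrans fun j => j.as.elim }
        uniq := fun g => limit.hom_ext fun j => j.as.elim }))))))
  have hfp : Q.IsClosedUnderFiniteProducts := ObjectProperty.IsClosedUnderFiniteProducts.mk'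
  have : HasColimitsOfSize.{u, u} Q.FullSubcategory := ⟨fun J _ => inferInstance⟩
  have : PreservesColimitsOfSize.{u, u} Q.ι := ⟨fun {J} _ => ⟨fun {K} => preservesColimit_of_createsColimit_and_hasColimit K Q.ι⟩⟩
  have hwp : WellPowered.{u} (ModF 𝔛 hloc.1) :=
    IsGrothendieckAbelian.wellPowered.{u} (SheafOfModules.{u} (ModSite.ringSh (𝔛.Osh hloc.1)))
  have hmono : Q.ι.PreservesMonomorphisms := Q.preservesMonomorphisms_ι_of_isNormalEpiCategory
  have hwpQ : WellPowered.{u} Q.FullSubcategory := ⟨fun X => by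
    let t : Subobject X → Subobject X.obj :=
      Subobject.lift (fun A f _ => Subobject.mk (Q.ι.map f)) fun A B f g _ _ i hi =>
        Subobject.mk_eq_mk_of_comm _ _ (Q.ι.mapIso i) (by
          rw [← hi, Q.ι.map_comp]
          rfl)
    refine small_of_injective (f := t) ?_
    intro a b
    induction a using Subobject.ind
    induction b using Subobject.ind
    rename_i A f _ B g _
    intro h
    let i := Subobject.isoOfMkEqMk (Q.ι.map f) (Q.ι.map g) h
    refine Subobject.mk_eq_mk_of_comm _ _ (Q.fullyFaithfulι.preimageIso i) (Q.ι.map_injective ?_)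
    rw [Q.ι.map_comp, Functor.FullyFaithful.preimageIso_hom, Functor.FullyFaithful.map_preimage]
    exact Subobject.ofMkLEMk_comp _⟩
  have : WellPowered.{u} Q.FullSubcategoryᵒᵖ := @Abelian.wellPowered_opposite _ _ _ _ hwpQ
  obtain ⟨T, g, hg⟩ := exists_separating hloc
  exact isLeftAdjoint_of_preservesColimits_of_isSeparating (P := ObjectProperty.ofObj g) hg Q.ι

end IndCohLib

end
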