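import Groth.Agent.IndCohLib.TorsExtend
import Groth.Agent.IndCohLib.Coreflect

/-!
# Quasi-coherent torsion modules: closure properties and coreflection
-/

set_option autoImplicit false
set_option linter.style.haveILetI false
set_option maxHeartbeats 800000

universe u

open CategoryTheory CategoryTheory.Limits AlgebraicGeometry TopologicalSpace Opposite FSch
open FModLib (MSec RSec oK mres rres lc)

noncomputable section

namespace IndCohLib

variable {𝔛 : Sys.{u}} (hloc : 𝔛.IsLocNoethFormal) {M N : ModF 𝔛 hloc.1}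

theorem isQCT_iff : FTors.IsQCT 𝔛 hloc.1 M ↔ FTors.IsTorsF 𝔛 hloc.1 M ∧ IsQC hloc M :=
  ⟨fun h => ⟨h.1, isQC_of_isQuasicoherent hloc h.2⟩, fun h => ⟨h.1, isQuasicoherent_of_isQC hloc h.2⟩⟩

/-- On a torsion module the torsion subsheaf is everything. -/
theorem isIso_gammaTι (hM : FTors.IsTorsF 𝔛 hloc.1 M) : IsIso ((FTors.gammaTι 𝔛 hloc.1).app M) := by
  have : Mono ((FTors.gammaTι 𝔛 hloc.1).app M) := mono_gammaTι hloc M
  have : Epi ((FTors.gammaTι 𝔛 hloc.1).app M) := _root_.ModSiteLib.epi_of_loc_surjective _ fun W x =>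
    ⟨⊤, (Opens.grothendieckTopology _).top_mem W,
      fun W' g _ => ⟨⟨mres M g.le x, hM W' (mres M g.le x)⟩, rfl⟩⟩
  exact isIso_of_mono_of_epi _

theorem ind_gammaT (hM : IsQC hloc M) :
    (ObjectProperty.ind.{u} fun G : ModF 𝔛 hloc.1 => IsCohF 𝔛 hloc.1 G) ((FTors.gammaT 𝔛 hloc.1).obj M) :=
  ind_of_cov hloc (cov_gammaT hloc hM) (isQC_gammaT hloc hM)

theorem isQCT_gammaT (hM : IsQC hloc M) : FTors.IsQCT 𝔛 hloc.1 ((FTors.gammaT 𝔛 hloc.1).obj M) :=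
  (isQCT_iff hloc).2 ⟨isTors_gammaT hloc M, isQC_gammaT hloc hM⟩

/-- Quasi-coherent torsion modules are ind-coherent. -/
theorem isInd_of_isQCT (h : FTors.IsQCT 𝔛 hloc.1 M) : IsInd hloc M :=
  have := isIso_gammaTι hloc h.1
  isInd_of_iso hloc (asIso ((FTors.gammaTι 𝔛 hloc.1).app M))
    (isInd_of_ind hloc (ind_gammaT hloc (isQC_of_isQuasicoherent hloc h.2)))

theorem isQCT_of_isInd (h : IsInd hloc M) (ht : FTors.IsTorsF 𝔛 hloc.1 M) : FTors.IsQCT 𝔛 hloc.1 M :=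
  (isQCT_iff hloc).2 ⟨ht, h.isQC⟩

theorem isTors_of_isZero (h : IsZero M) : FTors.IsTorsF 𝔛 hloc.1 M :=
  (isTors_iff hloc).2 fun U x q hq => by
    have h0 : x = 0 := congr($(congrArg (fun a : M ⟶ M => a.val.app (op U)) (h.eq_of_src (𝟙 M) 0)) x)
    exact ⟨U, le_rfl, 0, hq, h0 ▸ ((killed_zero hloc 0 U).res hloc le_rfl)⟩

theorem isTors_biprod (hM : FTors.IsTorsF 𝔛 hloc.1 M) (hN : FTors.IsTorsF 𝔛 hloc.1 N) :
    FTors.IsTorsF 𝔛 hloc.1 (M ⊞ N) :=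
  isTors_extension hloc biprod.snd (isTors_of_iso hloc
    (IsLimit.conePointUniqueUpToIso (biprod.isKernelSndKernelFork M N) (limit.isLimit _)) hM) hN

theorem isTors_colimit {J : Type u} [SmallCategory J] [IsFiltered J] {D : J ⥤ ModF 𝔛 hloc.1} {c : Cocone D}
    (hc : IsColimit c) (h : ∀ j, FTors.IsTorsF 𝔛 hloc.1 (D.obj j)) : FTors.IsTorsF 𝔛 hloc.1 c.pt :=
  (isTors_iff hloc).2 fun U x q hq => by
    obtain ⟨V, hV, hqV, hle⟩ := Opens.isBasis_iff_nbhd.mp (𝔛.X 0).isBasis_affineOpens hq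
    obtain ⟨j, y, hy⟩ := stage_section hloc hc hV.isCompact (mres c.pt hle x)
    obtain ⟨n, hn⟩ := exists_killed hloc hV.isCompact ((isTors_iff hloc).1 (h j) V y)
    exact ⟨V, hle, n, hqV, hy ▸ hn.app hloc (c.ι.app j)⟩

theorem isTors_closed_colimits (J : Type u) [SmallCategory J] :
    (ObjectProperty.IsClosedUnderColimitsOfShape (fun M : ModF 𝔛 hloc.1 => FTors.IsTorsF 𝔛 hloc.1 M) J) :=
  closed_colimits _ (fun e h => isTors_of_iso hloc e h) (fun h => isTors_of_isZero hloc h)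
    (fun _ _ h h' => isTors_biprod hloc h h') (fun f _ h' => isTors_of_epi hloc (cokernel.π f) h')
    (fun hc h => isTors_colimit hloc hc h) J

theorem isQCT_closed_colimits (J : Type u) [SmallCategory J] :
    (FTors.IsQCT 𝔛 hloc.1).IsClosedUnderColimitsOfShape J := ⟨fun X hX => by
  obtain ⟨⟨pres, hp⟩⟩ := hX
  have := isInd_closed_colimits hloc J
  have := isTors_closed_colimits hloc J
  exact isQCT_of_isInd hloc
    (ObjectProperty.prop_of_isColimit (fun M => IsInd hloc M) pres.isColimit fun j => isInd_of_isQCT hloc (hp j))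
    (ObjectProperty.prop_of_isColimit (fun M => FTors.IsTorsF 𝔛 hloc.1 M) pres.isColimit fun j => (hp j).1)⟩

theorem isQCT_of_iso (e : M ≅ N) (h : FTors.IsQCT 𝔛 hloc.1 M) : FTors.IsQCT 𝔛 hloc.1 N :=
  isQCT_of_isInd hloc (isInd_of_iso hloc e (isInd_of_isQCT hloc h)) (isTors_of_iso hloc e h.1)

theorem isQCT_kernel (f : M ⟶ N) (hM : FTors.IsQCT 𝔛 hloc.1 M) (hN : FTors.IsQCT 𝔛 hloc.1 N) :
    FTors.IsQCT 𝔛 hloc.1 (kernel f) :=
  isQCT_of_isInd hloc (isInd_kernel hloc f (isInd_of_isQCT hloc hM) (isInd_of_isQCT hloc hN))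
    (isTors_of_mono hloc (kernel.ι f) hM.1)

theorem isQCT_five (S : ComposableArrows (ModF 𝔛 hloc.1) 4) (hS : S.Exact) (h0 : FTors.IsQCT 𝔛 hloc.1 (S.obj 0))
    (h1 : FTors.IsQCT 𝔛 hloc.1 (S.obj 1)) (h3 : FTors.IsQCT 𝔛 hloc.1 (S.obj 3))
    (h4 : FTors.IsQCT 𝔛 hloc.1 (S.obj 4)) : FTors.IsQCT 𝔛 hloc.1 (S.obj 2) := by
  refine (isQCT_iff hloc).2 ⟨?_, isQC_five hloc S hS ((isQCT_iff hloc).1 h0).2 ((isQCT_iff hloc).1 h1).2
    ((isQCT_iff hloc).1 h3).2 ((isQCT_iff hloc).1 h4).2⟩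
  obtain ⟨q, hq, ⟨j⟩⟩ := exists_epi_kernel_iso _ _ _ (hS.exact 2)
  obtain ⟨i⟩ := nonempty_cokernel_iso_kernel _ _ _ _ _ (hS.exact 0) (hS.exact 1)
  exact isTors_extension hloc q
    (isTors_of_iso hloc (i ≪≫ j) (isTors_of_epi hloc (cokernel.π _) h1.1)) (isTors_of_mono hloc (kernel.ι _) h3.1)

end IndCohLib

end
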