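import Groth.Agent.IndCohLib.Sources

/-!
# Modules that are good on affine opens are quasi-coherent
-/

set_option autoImplicit false
set_option linter.style.haveILetI false
set_option maxHeartbeats 800000

universe u

open CategoryTheory CategoryTheory.Limits AlgebraicGeometry TopologicalSpace Opposite FSch
open FModLib (MSec RSec mres rres lc QPres oMk oTop ev coord isTerminalTop)

noncomputable section

namespace IndCohLib

section

variable {X : TopCat.{u}} {O : Sheaf (Opens.grothendieckTopology X) CommRingCat.{u}} {U : Opens X} {σ κ : Type u}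
  {M : ModSite.Mod O} {s : σ → MSec M U} {r : κ → σ → RSec O U}

local notation "free" => SheafOfModules.free (R := ModSite.ringSh (O.over U))

/-- A finite combination of the basis of a free module. -/
def fcomb (Z : Over U) (F : Finset σ) (c : σ → RSec O Z.left) : (free σ).val.obj (op Z) :=
  ∑ i ∈ F, (SheafOfModules.ιFree i).val.app (op Z) (c i)

theorem map_eq_zero_of_coord (Z : Over U) (y : (free σ).val.obj (op Z))
    (h : ∀ i, (coord (O := O) (U := U) i).val.app (op Z) y = 0) (p : X) (hp : p ∈ Z.left) :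
    ∃ (Z' : Over U) (g : Z' ⟶ Z), p ∈ Z'.left ∧ (free σ).val.map g.op y = 0 := by
  obtain ⟨Z', g, F, hpZ, hF⟩ := FModLib.exists_support Z y p hp
  refine ⟨Z', g, hpZ, hF.trans (Finset.sum_eq_zero fun i _ => ?_)⟩
  refine (congrArg ((SheafOfModules.ιFree i).val.app (op Z')) ?_).trans (map_zero _)
  exact (PresheafOfModules.naturality_apply (coord (O := O) (U := U) i).val g.op y).trans
    ((congrArg _ (h i)).trans (map_zero _))

/-- **Presentations by sections with finitely supported relations give presentations.** -/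
theorem nonempty_presentation_of_qPres (hP : QPres M U s r) (F : κ → Finset σ) (hF : ∀ j, ∀ i ∉ F j, r j i = 0)
    (hrel : ∀ j, ∑ i ∈ F j, (r j i • mres M le_rfl (s i) : MSec M U) = 0) :
    Nonempty ((ModSite.restr O U).obj M).Presentation := by
  classical
  let N := (ModSite.restr O U).obj M
  let π : free σ ⟶ N := _root_.ModSiteLib.freeLift (isTerminalTop U) (M := N) s
  let ψ : free κ ⟶ free σ :=
    _root_.ModSiteLib.freeLift (isTerminalTop U) (M := free σ) fun j => fcomb (oTop U) (F j) (r j)
  have hπ : ∀ (Z : Over U) (G : Finset σ) (c : σ → RSec O Z.left), π.val.app (op Z) (fcomb Z G c) =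
      ∑ i ∈ G, (c i • mres M Z.hom.le (s i) : MSec M Z.left) := fun Z G c => by
    refine (FModLib.app_π_finset π Z G c).trans (Finset.sum_congr rfl fun i _ => ?_)
    exact congrArg (fun t => (c i • mres M Z.hom.le t : MSec M Z.left)) (FModLib.ev_ιFree_freeLift (N := N) s i)
  have hψ : ∀ (i : σ) (j : κ), ev (SheafOfModules.ιFree j ≫ ψ ≫ coord (O := O) (U := U) i) = r j i := fun i j => by
    refine (congrArg ((coord (O := O) (U := U) i).val.app (op (oTop U)))
      (FModLib.ev_ιFree_freeLift (N := free σ) _ j)).trans ?_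
    refine (FModLib.coord_finset (oTop U) (F j) (r j) i).trans ?_
    split_ifs with h
    · rfl
    · exact (hF j i h).symm
  have w : ψ ≫ π = 0 := _root_.ModSiteLib.free_hom_ext (isTerminalTop U) fun j => by
    refine (congrArg (π.val.app (op (oTop U))) (_root_.ModSiteLib.ap_freeLift (isTerminalTop U) _ j)).trans ?_
    exact (hπ (oTop U) (F j) (r j)).trans (hrel j)
  have heπ : Epi π := by
    refine _root_.ModSiteLib.epi_of_loc_surjective _ fun Z t => FModLib.loc_of_points Z ?_ fun p hp => ?_
    · rintro Z' Z'' g k ⟨y, hy⟩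
      refine ⟨(free σ).val.map k.op y, (PresheafOfModules.naturality_apply π.val k.op y).trans ?_⟩
      exact (congrArg (N.val.map k.op) hy).trans (N.val.presheaf.map_comp_apply g.op k.op t).symm
    · obtain ⟨W, hW, G, c, hpW, hc⟩ := hP.gen Z.left Z.hom.le t p hp
      refine ⟨oMk (hW.trans Z.hom.le), Over.homMk (homOfLE hW) (Subsingleton.elim _ _),
        ⟨fcomb (oMk (hW.trans Z.hom.le)) G c, ?_⟩, hpW⟩
      exact (hπ (oMk (hW.trans Z.hom.le)) G c).trans hc.symm
  have hel : Epi (kernel.lift π ψ w) := by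
    refine _root_.ModSiteLib.epi_of_loc_surjective _ fun Z t => FModLib.loc_of_points Z ?_ fun p hp => ?_
    · rintro Z' Z'' g k ⟨y, hy⟩
      refine ⟨(free κ).val.map k.op y, (PresheafOfModules.naturality_apply (kernel.lift π ψ w).val k.op y).trans ?_⟩
      exact (congrArg ((kernel π).val.map k.op) hy).trans ((kernel π).val.presheaf.map_comp_apply g.op k.op t).symm
    let q : (free σ).val.obj (op Z) := (kernel.ι π).val.app (op Z) t
    have hq : π.val.app (op Z) q = 0 :=
      congr($(congrArg (fun g : kernel π ⟶ _ => g.val.app (op Z)) (kernel.condition π)) t)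
    obtain ⟨Z₁, g, G, hp₁, hG⟩ := FModLib.exists_support Z q p hp
    let q₁ := (free σ).val.map g.op q
    let c : σ → RSec O Z₁.left := fun i => (coord (O := O) (U := U) i).val.app (op Z₁) q₁
    have hc : ∀ i ∉ G, c i = 0 := fun i hi =>
      (congrArg ((coord (O := O) (U := U) i).val.app (op Z₁)) hG).trans
        ((FModLib.coord_finset Z₁ G _ i).trans (if_neg hi))
    have h0 : ∑ i ∈ G, (c i • mres M Z₁.hom.le (s i) : MSec M Z₁.left) = 0 :=
      (hπ Z₁ G c).symm.trans ((congrArg (π.val.app (op Z₁)) hG).symm.trans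
        ((PresheafOfModules.naturality_apply π.val g.op q).trans ((congrArg _ hq).trans (map_zero _))))
    obtain ⟨W, hW, H, d, hpW, hd⟩ := hP.ex Z₁.left Z₁.hom.le G c hc h0 p hp₁
    let Z₂ : Over U := oMk (hW.trans Z₁.hom.le)
    let k : Z₂ ⟶ Z₁ := Over.homMk (homOfLE hW) (Subsingleton.elim _ _)
    let q₂ : (free σ).val.obj (op Z₂) := (free σ).val.map k.op q₁
    let z : (free κ).val.obj (op Z₂) := ∑ j ∈ H, (SheafOfModules.ιFree j).val.app (op Z₂) (d j)
    have hco : ∀ i, (coord (O := O) (U := U) i).val.app (op Z₂) (ψ.val.app (op Z₂) z) =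
        (coord (O := O) (U := U) i).val.app (op Z₂) ((free σ).val.map k.op q₁) := fun i => by
      refine (FModLib.app_π_finset (ψ ≫ coord (O := O) (U := U) i) Z₂ H d).trans ?_
      refine Eq.trans (Finset.sum_congr rfl fun j _ => ?_)
        ((hd i).symm.trans (PresheafOfModules.naturality_apply (coord (O := O) (U := U) i).val k.op q₁).symm)
      exact congrArg (fun a => d j * rres O (hW.trans Z₁.hom.le) a) (hψ i j)
    obtain ⟨Z₃, l, hp₃, hl⟩ := map_eq_zero_of_coord Z₂ (ψ.val.app (op Z₂) z - q₂)
      (fun i => (map_sub _ _ _).trans (sub_eq_zero.2 (hco i))) p hpW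
    refine ⟨Z₃, (l ≫ k) ≫ g, ⟨(free κ).val.map l.op z, _root_.ModSiteLib.injective_ap_of_mono (kernel.ι π) _ ?_⟩, hp₃⟩
    refine (congr($(congrArg (fun f : free κ ⟶ _ => f.val.app (op Z₃)) (kernel.lift_ι π ψ w))
      ((free κ).val.map l.op z))).trans ?_
    refine Eq.trans ?_ (PresheafOfModules.naturality_apply (kernel.ι π).val ((l ≫ k) ≫ g).op t).symm
    refine Eq.trans ?_ ((free σ).val.presheaf.map_comp_apply g.op (l ≫ k).op q).symm
    refine Eq.trans ?_ ((free σ).val.presheaf.map_comp_apply k.op l.op q₁).symm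
    exact (PresheafOfModules.naturality_apply ψ.val l.op z).trans (sub_eq_zero.1 ((map_sub _ _ _).symm.trans hl))
  let G₀ : N.GeneratingSections :=
    { I := σ
      s := N.freeHomEquiv π
      epi := by rw [Equiv.symm_apply_apply]; exact heπ }
  have hG : G₀.π = π := Equiv.symm_apply_apply _ _
  have key : ∀ (φ : free σ ⟶ N), φ = π → Nonempty (kernel φ).GeneratingSections := by
    rintro φ rfl
    exact ⟨{ I := κ, s := (kernel π).freeHomEquiv (kernel.lift π ψ w)
             epi := by rw [Equiv.symm_apply_apply]; exact hel }⟩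
  exact (key G₀.π hG).map fun R => ⟨G₀, R⟩

end

variable {𝔛 : Sys.{u}} (hloc : 𝔛.IsLocNoethFormal) {M : ModF 𝔛 hloc.1}

theorem nonempty_presentation_of_good {V : (𝔛.X 0).Opens} (h : Good hloc M V) :
    Nonempty ((ModSite.restr (𝔛.Osh hloc.1) V).obj M).Presentation := by
  classical
  let O := 𝔛.Osh hloc.1
  let κ : Type u := {j : Finset (MSec M V) × (MSec M V → RSec O V) //
    (∀ i ∉ j.1, j.2 i = 0) ∧ ∑ i ∈ j.1, (j.2 i • mres M le_rfl i : MSec M V) = 0}
  refine nonempty_presentation_of_qPres (σ := MSec M V) (κ := κ) (s := id) (r := fun j => j.1.2) ?_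
    (fun j => j.1.1) (fun j => j.2.1) fun j => j.2.2
  refine ⟨fun W hW x p hp => ?_, fun W hW G c hc0 hc p hp => ?_, fun j p hp => ⟨V, le_rfl, j.1.1, hp, fun i hi => ?_, ?_⟩⟩
  · obtain ⟨W', hW', k, _, f, c, hpW, hc⟩ := h.gen W hW x p hp
    refine ⟨W', hW', Finset.univ.image f, fun i => ∑ l ∈ Finset.univ.filter (fun l => f l = i), c l, hpW, ?_⟩
    refine hc.trans ((Finset.sum_fiberwise_of_maps_to (g := f) (t := Finset.univ.image f)
      (fun l hl => Finset.mem_image_of_mem f hl) _).symm.trans (Finset.sum_congr rfl fun i _ => ?_))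
    refine Eq.trans ?_ Finset.sum_smul.symm
    refine Finset.sum_congr rfl fun l hl => ?_
    rw [← (Finset.mem_filter.1 hl).2]
    rfl
  · obtain ⟨W', hW', Z, d, hpW, hZ, hd⟩ := h.rel G (fun i => i.1) W hW (fun i => c i.1)
      ((Finset.sum_coe_sort G fun i => (c i • mres M hW i : MSec M W)).trans hc) p hp
    let ext : (G → RSec O V) → MSec M V → RSec O V := fun z i => if hi : i ∈ G then z ⟨i, hi⟩ else 0
    let e : Z → κ := fun z => ⟨(G, ext z.1), fun i hi => dif_neg hi, by
      refine Eq.trans ?_ (hZ z.1 z.2)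
      refine (Finset.sum_coe_sort G fun i => (ext z.1 i • mres M le_rfl i : MSec M V)).symm.trans
        (Finset.sum_congr rfl fun i _ => ?_)
      exact congrArg (fun t : RSec O V => (t • mres M le_rfl i.1 : MSec M V)) (dif_pos i.2)⟩
    have he : Function.Injective e := fun a b hab => Subtype.ext (funext fun i => by
      have h1 : ext a.1 i.1 = ext b.1 i.1 := congrFun (congrArg (fun j : κ => j.1.2) hab) i.1
      exact (dif_pos i.2).symm.trans (h1.trans (dif_pos i.2)))
    refine ⟨W', hW', Finset.univ.image e, fun j => if hj : ∃ z, e z = j then d hj.choose.1 else 0, hpW, fun i => ?_⟩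
    refine Eq.trans ?_ (Finset.sum_image fun a _ b _ hab => he hab).symm
    have hd' : ∀ z : Z, (if hj : ∃ z', e z' = e z then d hj.choose.1 else 0) = d z.1 := fun z => by
      rw [dif_pos ⟨z, rfl⟩]
      exact congrArg (fun t : Z => d t.1) (he (⟨z, rfl⟩ : ∃ z', e z' = e z).choose_spec)
    by_cases hi : i ∈ G
    · refine (hd ⟨i, hi⟩).trans ((Finset.sum_coe_sort Z _).symm.trans (Finset.sum_congr rfl fun z _ => ?_))
      exact congrArg₂ (fun a b => a * b) (hd' z).symm (congrArg (rres O _) (show ext z.1 i = z.1 ⟨i, hi⟩ from dif_pos hi).symm)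
    · refine (congrArg (rres O hW') (hc0 i hi)).trans ((map_zero (O.obj.map (homOfLE hW').op).hom).trans ?_)
      refine (Finset.sum_eq_zero fun z _ => ?_).symm
      refine (congrArg₂ (fun a b => a * b) (hd' z) (congrArg (rres O _) (show ext z.1 i = 0 from dif_neg hi))).trans ?_
      exact (congrArg (fun b => d z.1 * b) (map_zero (O.obj.map (homOfLE (hW'.trans hW)).op).hom)).trans (mul_zero _)
  · exact (congrArg (rres O le_rfl) (j.2.1 i hi)).trans (map_zero (O.obj.map (homOfLE le_rfl).op).hom)
  · exact (Finset.sum_congr rfl fun i _ => congrArg (fun t : RSec O V => (t • mres M le_rfl i : MSec M V))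
      (rres_self _)).trans j.2.2

/-- **Modules that are good near every point are quasi-coherent.** -/
theorem isQuasicoherent_of_isQC (h : IsQC hloc M) : SheafOfModules.IsQuasicoherent.{u} M := by
  choose V hpV _ hV using fun p => h.exists_affine hloc (U := ⊤) (p := p) trivial
  let P := fun p => (nonempty_presentation_of_good hloc (hV p)).some
  let D : SheafOfModules.QuasicoherentData.{u} (R := ModSite.ringSh (𝔛.Osh hloc.1)) M :=
    { I := 𝔛.X 0
      X := V
      coversTop := (Opens.coversTop_iff _ _).mpr (eq_top_iff.mpr fun x _ => Opens.mem_iSup.mpr ⟨x, hpV x⟩)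
      presentation := P }
  exact SheafOfModules.IsQuasicoherent.mk (R := ModSite.ringSh (𝔛.Osh hloc.1)) ⟨D⟩

end IndCohLib

end
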