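import Groth.Agent.IndCohLib.Ops

/-!
# The middle term of a five term exact sequence of good modules
-/

set_option autoImplicit false
set_option linter.style.haveILetI false

universe u

open CategoryTheory CategoryTheory.Limits AlgebraicGeometry TopologicalSpace Opposite FSch

noncomputable section

namespace IndCohLib

section

variable {C : Type*} [Category C] [Abelian C]

/-- The kernel of the third map of an exact sequence is the cokernel of the first one. -/
theorem nonempty_cokernel_iso_kernel {A B D E : C} (f : A ⟶ B) (g : B ⟶ D) (h : D ⟶ E) (w : f ≫ g = 0)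
    (w' : g ≫ h = 0) (e : (ShortComplex.mk f g w).Exact) (e' : (ShortComplex.mk g h w').Exact) :
    Nonempty (cokernel f ≅ kernel h) := by
  have hp : Epi (kernel.lift h g w') := (ShortComplex.exact_iff_epi_kernel_lift _).1 e'
  have hm : Mono (cokernel.desc f g w) := (ShortComplex.exact_iff_mono_cokernel_desc _).1 e
  have wp : f ≫ kernel.lift h g w' = 0 := by
    rw [← cancel_mono (kernel.ι h), Category.assoc, kernel.lift_ι, w, zero_comp]
  let c := cokernel.desc f (kernel.lift h g w') wp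
  have : Epi c := by
    have : Epi (cokernel.π f ≫ c) := by rw [cokernel.π_desc]; exact hp
    exact epi_of_epi (cokernel.π f) c
  have : Mono c := by
    have : Mono (c ≫ kernel.ι h) := by
      rw [show c ≫ kernel.ι h = cokernel.desc f g w from coequalizer.hom_ext (by simp [c])]
      exact hm
    exact mono_of_mono c (kernel.ι h)
  exact ⟨@asIso _ _ _ _ c (isIso_of_mono_of_epi c)⟩

/-- A kernel is unchanged by corestricting to a kernel. -/
theorem exists_epi_kernel_iso {B D E : C} (g : B ⟶ D) (h : D ⟶ E) (w : g ≫ h = 0)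
    (e : (ShortComplex.mk g h w).Exact) :
    ∃ q : B ⟶ kernel h, Epi q ∧ Nonempty (kernel g ≅ kernel q) :=
  ⟨kernel.lift h g w, (ShortComplex.exact_iff_epi_kernel_lift _).1 e,
    ⟨(kernelIsoOfEq (kernel.lift_ι h g w)).symm ≪≫ kernelCompMono _ (kernel.ι h)⟩⟩

end

variable {𝔛 : Sys.{u}} (hloc : 𝔛.IsLocNoethFormal) {V : (𝔛.X 0).Opens}

theorem good_five' {M₀ M₁ M₂ M₃ M₄ : ModF 𝔛 hloc.1} (g₀ : M₀ ⟶ M₁) (g₁ : M₁ ⟶ M₂) (g₂ : M₂ ⟶ M₃)
    (g₃ : M₃ ⟶ M₄) (w₁ : g₀ ≫ g₁ = 0) (w₂ : g₁ ≫ g₂ = 0) (w₃ : g₂ ≫ g₃ = 0)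
    (e₁ : (ShortComplex.mk g₀ g₁ w₁).Exact) (e₂ : (ShortComplex.mk g₁ g₂ w₂).Exact)
    (e₃ : (ShortComplex.mk g₂ g₃ w₃).Exact) (h0 : Good hloc M₀ V) (h1 : Good hloc M₁ V) (h3 : Good hloc M₃ V)
    (h4 : Good hloc M₄ V) : Good hloc M₂ V := by
  obtain ⟨i⟩ := nonempty_cokernel_iso_kernel g₀ g₁ g₂ w₁ w₂ e₁ e₂
  obtain ⟨q, hq, ⟨j⟩⟩ := exists_epi_kernel_iso g₂ g₃ w₃ e₃
  exact good_extension hloc q (good_of_iso hloc (i ≪≫ j) (good_cokernel hloc g₀ h0 h1))
    (good_kernel hloc g₃ h3 h4.rel)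

theorem good_five (S : ComposableArrows (ModF 𝔛 hloc.1) 4) (hS : S.Exact)
    (h0 : Good hloc (S.obj 0) V) (h1 : Good hloc (S.obj 1) V) (h3 : Good hloc (S.obj 3) V)
    (h4 : Good hloc (S.obj 4) V) : Good hloc (S.obj 2) V :=
  good_five' hloc _ _ _ _ _ _ _ (hS.exact 0) (hS.exact 1) (hS.exact 2) h0 h1 h3 h4

end IndCohLib

end
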