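import Groth.Agent.IndCohLib.ToQC
import Groth.Agent.IndCohLib.Five

/-!
# Quasi-coherent modules on a formal scheme are stable under kernels, images, cokernels and extensions
-/

set_option autoImplicit false
set_option linter.style.haveILetI false

universe u

open CategoryTheory CategoryTheory.Limits AlgebraicGeometry TopologicalSpace Opposite FSch

noncomputable section

namespace IndCohLib

variable {𝔛 : Sys.{u}} (hloc : 𝔛.IsLocNoethFormal) {M N P Q R : ModF 𝔛 hloc.1}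

theorem isQC_two (hM : IsQC hloc M) (hN : IsQC hloc N)
    (h : ∀ V, Good hloc M V → Good hloc N V → Good hloc P V) : IsQC hloc P := fun p => by
  obtain ⟨U₁, h1, h1'⟩ := hM p
  obtain ⟨U₂, h2, h2'⟩ := hN p
  exact ⟨U₁ ⊓ U₂, ⟨h1, h2⟩, fun V hV hle => h V (h1' V hV (hle.trans inf_le_left)) (h2' V hV (hle.trans inf_le_right))⟩

theorem isQC_kernel (θ : M ⟶ N) (hM : IsQC hloc M) (hN : IsQC hloc N) : IsQC hloc (kernel θ) :=
  isQC_two hloc hM hN fun _ h h' => good_kernel hloc θ h h'.rel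

theorem isQC_image (θ : M ⟶ N) (hM : IsQC hloc M) (hN : IsQC hloc N) : IsQC hloc (Abelian.image θ) :=
  isQC_two hloc hM hN fun _ h h' => good_image hloc θ h h'.rel

theorem isQC_cokernel (θ : M ⟶ N) (hM : IsQC hloc M) (hN : IsQC hloc N) : IsQC hloc (cokernel θ) :=
  isQC_two hloc hM hN fun _ h h' => good_cokernel hloc θ h h'

theorem isQC_five (S : ComposableArrows (ModF 𝔛 hloc.1) 4) (hS : S.Exact) (h0 : IsQC hloc (S.obj 0))
    (h1 : IsQC hloc (S.obj 1)) (h3 : IsQC hloc (S.obj 3)) (h4 : IsQC hloc (S.obj 4)) : IsQC hloc (S.obj 2) :=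
  fun p => by
    obtain ⟨U₀, a0, b0⟩ := h0 p
    obtain ⟨U₁, a1, b1⟩ := h1 p
    obtain ⟨U₃, a3, b3⟩ := h3 p
    obtain ⟨U₄, a4, b4⟩ := h4 p
    refine ⟨U₀ ⊓ U₁ ⊓ (U₃ ⊓ U₄), ⟨⟨a0, a1⟩, ⟨a3, a4⟩⟩, fun V hV hle => ?_⟩
    exact good_five hloc S hS (b0 V hV (hle.trans (inf_le_left.trans inf_le_left)))
      (b1 V hV (hle.trans (inf_le_left.trans inf_le_right))) (b3 V hV (hle.trans (inf_le_right.trans inf_le_left)))
      (b4 V hV (hle.trans (inf_le_right.trans inf_le_right)))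

end IndCohLib

end
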