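import Groth.Agent.IndCohLib.TorsBasic
import Groth.Agent.IndCohLib.QCClosure
import Mathlib.Algebra.Category.ModuleCat.Presheaf.Submodule

/-!
# The subsheaf of sections killed by an open ideal; the torsion subsheaf of a quasi-coherent module
-/

set_option autoImplicit false
set_option linter.style.haveILetI false
set_option maxHeartbeats 800000

universe u

open CategoryTheory CategoryTheory.Limits AlgebraicGeometry TopologicalSpace Opposite FSch
open FModLib (MSec RSec oK mres rres lc)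

noncomputable section

namespace IndCohLib

variable {𝔛 : Sys.{u}} (hloc : 𝔛.IsLocNoethFormal) (n : ℕ) (M : ModF 𝔛 hloc.1)

/-- The sections killed by the open ideal of level `n`. -/
def killSub : M.val.Submodule where
  obj W :=
    { carrier := {x | Killed hloc n M (U := W.unop) x}
      add_mem' := fun h h' => h.add hloc h'
      zero_mem' := killed_zero hloc n W.unop
      smul_mem' := fun r _ h => h.smul hloc r }
  map {W W'} f x hx := hx.res hloc f.unop.le

theorem isSheaf_killSub :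
    Presheaf.IsSheaf (Opens.grothendieckTopology (𝔛.X 0)) (killSub hloc n M).toPresheafOfModules.presheaf := by
  refine (TopCat.Presheaf.isSheaf_iff_isSheafUniqueGluing (killSub hloc n M).toPresheafOfModules.presheaf).2 ?_
  intro ι U sf hsf
  obtain ⟨x, hx, hu⟩ := TopCat.Sheaf.existsUnique_gluing
    ((SheafOfModules.toSheaf (ModSite.ringSh (𝔛.Osh hloc.1))).obj M : TopCat.Sheaf AddCommGrpCat _) U
    (fun i => (sf i).1) (fun i j => congrArg Subtype.val (hsf i j))
  have hmem : Killed hloc n M (U := iSup U) x := killed_of_local hloc x fun q hq => by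
    obtain ⟨i, hi⟩ := Opens.mem_iSup.1 hq
    refine ⟨U i, le_iSup U i, hi, ?_⟩
    have h2 : mres M (le_iSup U i) x = (sf i).1 := hx i
    rw [h2]
    exact (sf i).2
  exact ⟨⟨x, hmem⟩, fun i => Subtype.ext (hx i), fun y hy => Subtype.ext (hu y.1 fun i => congrArg Subtype.val (hy i))⟩

/-- The sheaf of sections killed by the open ideal of level `n`. -/
def killMod : ModF 𝔛 hloc.1 := ⟨(killSub hloc n M).toPresheafOfModules, isSheaf_killSub hloc n M⟩

/-- The inclusion. -/
def killι : killMod hloc n M ⟶ M := ⟨(killSub hloc n M).ι⟩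

theorem mono_killι : Mono (killι hloc n M) :=
  _root_.ModSiteLib.mono_of_injective_ap _ fun _ _ _ h => Subtype.ext h

theorem killed_killMod {U : (𝔛.X 0).Opens} (x : MSec (killMod hloc n M) U) : Killed hloc n (killMod hloc n M) x :=
  @killed_of_inj _ hloc _ _ _ _ _ (killι hloc n M) (mono_killι hloc n M) x.2

variable {n M}

theorem smul_lc {W V : (𝔛.X 0).Opens} (h : W ≤ V) {k : Type u} [Fintype k] (z : RSec (𝔛.Osh hloc.1) V)
    (e : k → MSec M V) (c : k → RSec (𝔛.Osh hloc.1) W) :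
    (rres (𝔛.Osh hloc.1) h z • lc M h e c : MSec M W) = lc M h (fun i => (z • e i : MSec M V)) c :=
  Finset.smul_sum.trans (Finset.sum_congr rfl fun i _ => (smul_comm _ (c i) _).trans
    (congrArg (fun t : MSec M W => (c i • t : MSec M W)) (mres_smul hloc h z (e i)).symm))

/-- Sections killed by finitely many functions are generated by global ones. -/
theorem exists_kill_gen {V : (𝔛.X 0).Opens} (hM : Good hloc M V) (S : Finset (RSec (𝔛.Osh hloc.1) V)) :
    ∀ (W : (𝔛.X 0).Opens) (hW : W ≤ V) (x : MSec M W),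
      (∀ z ∈ S, (rres (𝔛.Osh hloc.1) hW z • x : MSec M W) = 0) → ∀ q ∈ W,
        ∃ (W' : (𝔛.X 0).Opens) (hW' : W' ≤ W) (k : Type u) (_ : Fintype k) (g : k → MSec M V)
          (c : k → RSec (𝔛.Osh hloc.1) W'), q ∈ W' ∧ (∀ i, ∀ z ∈ S, (z • g i : MSec M V) = 0) ∧
            mres M hW' x = lc M (hW'.trans hW) g c := by
  classical
  induction S using Finset.induction_on with
  | empty =>
    intro W hW x _ q hq
    obtain ⟨W', hW', k, _, φ, c, hq', hc⟩ := hM.gen W hW x q hq
    exact ⟨W', hW', k, inferInstance, φ, c, hq', fun i z hz => absurd hz (Finset.notMem_empty z), hc⟩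
  | insert a S _ ih =>
    intro W hW x hx q hq
    obtain ⟨W₁, hW₁, k, _, g, c, hq₁, hg, hc⟩ := ih W hW x (fun z hz => hx z (Finset.mem_insert_of_mem hz)) q hq
    have h0 : lc M (hW₁.trans hW) (fun i => (a • g i : MSec M V)) c = 0 := by
      refine (smul_lc hloc _ a g c).symm.trans ?_
      refine (congrArg (fun t : MSec M W₁ => (rres (𝔛.Osh hloc.1) (hW₁.trans hW) a • t : MSec M W₁)) hc).symm.trans ?_
      rw [← FModLib.rres_rres hW₁ hW a]
      exact (mres_smul hloc hW₁ _ x).symm.trans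
        ((congrArg (mres M hW₁) (hx a (Finset.mem_insert_self a S))).trans (map_zero _))
    obtain ⟨W₂, hW₂, Z, d, hq₂, hZ, hd⟩ := hM.rel k (fun i => (a • g i : MSec M V)) W₁ (hW₁.trans hW) c h0 q hq₁
    refine ⟨W₂, hW₂.trans hW₁, Z, inferInstance, fun y => lc M le_rfl g y.1, fun y => d y.1, hq₂,
      fun y z hz => ?_, ?_⟩
    · have hsm : (z • lc M le_rfl g y.1 : MSec M V) = lc M le_rfl (fun i => (z • g i : MSec M V)) y.1 := by
        conv_lhs => rw [← rres_self z]
        exact smul_lc hloc le_rfl z g y.1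
      refine hsm.trans ?_
      rcases Finset.mem_insert.1 hz with rfl | hz'
      · exact hZ y.1 y.2
      · exact Finset.sum_eq_zero fun i _ => (congrArg (fun t : MSec M V => (y.1 i • t : MSec M V))
          ((congrArg (mres M le_rfl) (hg i z hz')).trans (map_zero _))).trans (smul_zero _)
    · refine Eq.trans ?_ (FCohLib.lc_sum M _ (fun y : Z => d y.1) (fun y : Z => y.1) g)
      refine (FModLib.mres_mres M hW₂ hW₁ x).symm.trans ((congrArg (mres M hW₂) hc).trans ?_)
      refine (FModLib.mres_lc M hW₂ _ g c).trans (congrArg (lc M _ g) (funext fun i => ?_))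
      exact (hd i).trans (Finset.sum_coe_sort Z _).symm

/-- Killed sections are generated by global killed sections. -/
theorem exists_killed_gen {V : (𝔛.X 0).Opens} (hM : Good hloc M V) (n : ℕ) (W : (𝔛.X 0).Opens) (hW : W ≤ V)
    (x : MSec M W) (hx : Killed hloc n M x) (q : 𝔛.X 0) (hq : q ∈ W) :
    ∃ (W' : (𝔛.X 0).Opens) (hW' : W' ≤ W) (k : Type u) (_ : Fintype k) (g : k → MSec M V)
      (c : k → RSec (𝔛.Osh hloc.1) W'), q ∈ W' ∧ (∀ i, Killed hloc n M (g i)) ∧
        mres M hW' x = lc M (hW'.trans hW) g c := by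
  classical
  obtain ⟨σ, _, z, hz0, hz⟩ := exists_ker_gens hloc hM.affine n
  obtain ⟨W', hW', k, _, g, c, hq', hg, hc⟩ := exists_kill_gen hloc hM (Finset.univ.image z) W hW x (fun y hy => by
    obtain ⟨l, -, rfl⟩ := Finset.mem_image.1 hy
    have h1 := hx W le_rfl _ (oK_eq_zero_res hloc n hW (hz0 l))
    rwa [mres_self] at h1) q hq
  refine ⟨W', hW', k, inferInstance, g, c, hq', fun i => killed_of_gens hloc le_rfl z hz (g i) fun l => ?_, hc⟩
  rw [rres_self]
  exact hg i (z l) (Finset.mem_image_of_mem z (Finset.mem_univ l))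

theorem good_killMod {V : (𝔛.X 0).Opens} (hM : Good hloc M V) (n : ℕ) : Good hloc (killMod hloc n M) V := by
  have hm := mono_killι hloc n M
  refine ⟨hM.affine, fun W hW x q hq => ?_, @relBy_of_mono _ hloc _ _ _ (killι hloc n M) hm hM.rel⟩
  obtain ⟨W', hW', k, _, g, c, hq', hg, hc⟩ := exists_killed_gen hloc hM n W hW x.1 x.2 q hq
  refine ⟨W', hW', k, inferInstance, fun i => ⟨g i, hg i⟩, c, hq', @inj_of_mono _ hloc _ _ _ hm _ _ _ ?_⟩
  exact (app_mres hloc (killι hloc n M) hW' x).trans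
    (hc.trans (FCohLib.app_lc (killι hloc n M) (hW'.trans hW) (fun i => ⟨g i, hg i⟩) c).symm)

theorem isQC_killMod (hM : IsQC hloc M) (n : ℕ) : IsQC hloc (killMod hloc n M) := fun p => by
  obtain ⟨U, hp, hU⟩ := hM p
  exact ⟨U, hp, fun V hV hle => good_killMod hloc (hU V hV hle) n⟩

theorem mono_gammaTι (M : ModF 𝔛 hloc.1) : Mono ((FTors.gammaTι 𝔛 hloc.1).app M) :=
  _root_.ModSiteLib.mono_of_injective_ap _ fun _ _ _ h => Subtype.ext h

theorem good_gammaT {V : (𝔛.X 0).Opens} (hM : Good hloc M V) :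
    Good hloc ((FTors.gammaT 𝔛 hloc.1).obj M) V := by
  have hm := mono_gammaTι hloc M
  refine ⟨hM.affine, fun W hW x q hq => ?_,
    @relBy_of_mono _ hloc _ _ _ ((FTors.gammaTι 𝔛 hloc.1).app M) hm hM.rel⟩
  obtain ⟨W₁, hW₁, n, hq₁, hn⟩ := (tors_iff hloc _).1 x.2 q hq
  obtain ⟨W', hW', k, _, g, c, hq', hg, hc⟩ := exists_killed_gen hloc hM n W₁ (hW₁.trans hW) _ hn q hq₁
  let g' : k → MSec ((FTors.gammaT 𝔛 hloc.1).obj M) V := fun i => ⟨g i, (tors_iff hloc _).2 ((hg i).tors hloc)⟩
  refine ⟨W', hW'.trans hW₁, k, inferInstance, g', c, hq', @inj_of_mono _ hloc _ _ _ hm _ _ _ ?_⟩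
  refine (app_mres hloc ((FTors.gammaTι 𝔛 hloc.1).app M) (hW'.trans hW₁) x).trans ?_
  refine Eq.trans ?_ (FCohLib.app_lc ((FTors.gammaTι 𝔛 hloc.1).app M) (hW'.trans (hW₁.trans hW)) g' c).symm
  exact (FModLib.mres_mres M hW' hW₁ _).symm.trans hc

theorem isTors_gammaT (M : ModF 𝔛 hloc.1) : FTors.IsTorsF 𝔛 hloc.1 ((FTors.gammaT 𝔛 hloc.1).obj M) := by
  refine (isTors_iff hloc).2 fun U x q hq => ?_
  obtain ⟨W, h, n, hqW, hn⟩ := (tors_iff hloc _).1 x.2 q hq
  refine ⟨W, h, n, hqW, @killed_of_inj _ hloc _ _ _ _ _ ((FTors.gammaTι 𝔛 hloc.1).app M) (mono_gammaTι hloc M) ?_⟩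
  rwa [app_mres hloc ((FTors.gammaTι 𝔛 hloc.1).app M) h x]

theorem isQC_gammaT (hM : IsQC hloc M) : IsQC hloc ((FTors.gammaT 𝔛 hloc.1).obj M) := fun p => by
  obtain ⟨U, hp, hU⟩ := hM p
  exact ⟨U, hp, fun V hV hle => good_gammaT hloc (hU V hV hle)⟩

end IndCohLib

end
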