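import Groth.Agent.FiltSectLib.Resol
import Groth.Agent.DerLib.KInjEnough
import Groth.Agent.DerLib.KInjDerived
import Groth.Agent.FreeResLib.Colimit
import Groth.Agent.SpSeqLib.AcyclicComplex
import Mathlib.Algebra.Homology.DerivedCategory.RightDerivedFunctorPlus

/-!
# Right derived functors and exact colimits of bounded below complexes
-/

set_option autoImplicit false
set_option linter.style.haveILetI false
set_option linter.unusedSectionVars false

universe u w w' t t'

open CategoryTheory CategoryTheory.Limits HomologicalComplex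
open Groth.Agent

noncomputable section

namespace IndCohLib.GenColim

variable {A : Type w} [Category.{u} A] [Abelian A] [IsGrothendieckAbelian.{u} A]
  {B : Type w'} [Category.{u} B] [Abelian B]
  [HasDerivedCategory.{t} A] [HasDerivedCategory.{t'} B]
  (G : A ⥤ B) [G.Additive] (RF : DerivedCategory A ⥤ DerivedCategory B)
  (α : G.mapHomotopyCategory (ComplexShape.up ℤ) ⋙ DerivedCategory.Qh ⟶ DerivedCategory.Qh ⋙ RF)
  [RF.IsRightDerivedFunctor α (HomotopyCategory.quasiIso A (ComplexShape.up ℤ))]

/-- `K ↦ H^m(RF K)`. -/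
abbrev rH (m : ℤ) : CochainComplex A ℤ ⥤ B :=
  DerivedCategory.Q ⋙ RF ⋙ DerivedCategory.homologyFunctor B m

/-- `K ↦ H^m(G K)`. -/
abbrev gH (m : ℤ) : CochainComplex A ℤ ⥤ B :=
  G.mapHomologicalComplex (ComplexShape.up ℤ) ⋙ HomologicalComplex.homologyFunctor B (ComplexShape.up ℤ) m

include α

/-- The comparison `G K → RF K`. -/
def nu : G.mapHomologicalComplex (ComplexShape.up ℤ) ⋙ DerivedCategory.Q ⟶ DerivedCategory.Q ⋙ RF :=
  ((Functor.associator _ _ _).symm ≪≫
      Functor.isoWhiskerRight (G.mapHomotopyCategoryFactors (ComplexShape.up ℤ)) _ ≪≫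
      Functor.associator _ _ _ ≪≫
      Functor.isoWhiskerLeft _ (DerivedCategory.quotientCompQhIso B)).inv ≫
    Functor.whiskerLeft _ α ≫
    ((Functor.associator _ _ _).symm ≪≫
      Functor.isoWhiskerRight (DerivedCategory.quotientCompQhIso A) _).hom

theorem isIso_nu (K : CochainComplex A ℤ)
    [h : IsIso (α.app ((HomotopyCategory.quotient A (ComplexShape.up ℤ)).obj K))] :
    IsIso ((nu G RF α).app K) := by
  simp only [nu, NatTrans.comp_app, Functor.whiskerLeft_app]
  exact IsIso.comp_isIso' inferInstance (IsIso.comp_isIso' h inferInstance)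

theorem isIso_unit_of_acyclic [PreservesFiniteLimits G] (F : CochainComplex A ℤ) (a : ℤ)
    [F.IsStrictlyGE a] [HasInjectiveResolutions A]
    (hac : ∀ (n : ℤ) (i : ℕ), 0 < i → IsZero ((G.rightDerived i).obj (F.X n))) :
    IsIso (α.app ((HomotopyCategory.quotient A (ComplexShape.up ℤ)).obj F)) := by
  haveI : EnoughInjectives A := IsGrothendieckAbelian.enoughInjectives.{u}
  obtain ⟨I, i, hI, hinj, -, hi⟩ := DerLib.Horseshoe.exists_injective_resolution F a
  haveI := hI
  haveI := hinj
  haveI := hi
  haveI : I.IsKInjective := CochainComplex.isKInjective_of_injective I a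
  haveI hq : QuasiIso ((G.mapHomologicalComplex (ComplexShape.up ℤ)).map i) :=
    SpSeqLib.quasiIso_map_of_isSAcyclic G i a (fun n => (SpSeqLib.isSAcyclic_iff _ _).2 (hac n))
      (fun n => SpSeqLib.isSAcyclic_of_injective _ _)
  let q := (HomotopyCategory.quotient A (ComplexShape.up ℤ)).map i
  haveI : IsIso ((G.mapHomotopyCategory (ComplexShape.up ℤ) ⋙ DerivedCategory.Qh).map q) :=
    Localization.inverts DerivedCategory.Qh (HomotopyCategory.quasiIso B (ComplexShape.up ℤ)) _
      ((HomotopyCategory.quotient_map_mem_quasiIso_iff _).2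
        ((HomologicalComplex.mem_quasiIso_iff _).2 hq))
  haveI : IsIso ((DerivedCategory.Qh ⋙ RF).map q) := by
    haveI : IsIso (DerivedCategory.Qh.map q) :=
      Localization.inverts DerivedCategory.Qh (HomotopyCategory.quasiIso A (ComplexShape.up ℤ)) _
        ((HomotopyCategory.quotient_map_mem_quasiIso_iff _).2
          ((HomologicalComplex.mem_quasiIso_iff _).2 hi))
    exact Functor.map_isIso RF _
  haveI := DerLib.KInjDerived.isIso_app RF α (DerLib.KInjDerived.enoughKInj A) I
  haveI : IsIso (α.app _ ≫ (DerivedCategory.Qh ⋙ RF).map q) := by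
    rw [← α.naturality q]
    infer_instance
  exact IsIso.of_isIso_comp_right _ ((DerivedCategory.Qh ⋙ RF).map q)

/-- The comparison on cohomology. -/
def nuH (m : ℤ) : gH G m ⟶ rH RF m :=
  Functor.whiskerLeft _ (DerivedCategory.homologyFunctorFactors B m).inv ≫
    (Functor.associator _ _ _).inv ≫ Functor.whiskerRight (nu G RF α) _ ≫ (Functor.associator _ _ _).hom

theorem isIso_nuH (m : ℤ) (K : CochainComplex A ℤ) [IsIso ((nu G RF α).app K)] :
    IsIso ((nuH G RF α m).app K) := by
  simp only [nuH, NatTrans.comp_app, Functor.whiskerLeft_app, Functor.whiskerRight_app,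
    Functor.associator_inv_app, Functor.associator_hom_app]
  infer_instance

variable {J : Type u} [SmallCategory J] [HasColimitsOfShape J A] [HasExactColimitsOfShape J A]
  [HasColimitsOfShape J B] [HasExactColimitsOfShape J B] [PreservesColimitsOfShape J G]
  [PreservesFiniteLimits G] [HasInjectiveResolutions A]

/-- `RF` commutes with exact colimits of uniformly bounded below complexes. -/
theorem nonempty_isColimit_rH_of_isGE
    (hJ : ∀ (D : J ⥤ A) (c : Cocone D), IsColimit c → (∀ j, Injective (D.obj j)) →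
      ∀ i : ℕ, 0 < i → IsZero ((G.rightDerived i).obj c.pt))
    {C : J ⥤ CochainComplex A ℤ} {c : Cocone C} (hc : IsColimit c) (n : ℤ) (hC : ∀ j, (C.obj j).IsGE n)
    (m : ℤ) : Nonempty (IsColimit ((rH RF m).mapCocone c)) := by
  haveI : EnoughInjectives A := IsGrothendieckAbelian.enoughInjectives.{u}
  obtain ⟨L, η, hL⟩ := FiltSectLib.exists_resolutionGE (A := A) n
  haveI := fun j => ((hL (C.obj j)).2 (hC j)).1
  let c' := colimit.cocone (C ⋙ L)
  let hc' : IsColimit c' := colimit.isColimit (C ⋙ L)
  let τ : C ⟶ C ⋙ L := C.rightUnitor.inv ≫ Functor.whiskerLeft C η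
  haveI hτq : ∀ j, QuasiIso (τ.app j) := fun j => by
    have e : τ.app j = η.app (C.obj j) := by simp [τ]
    rw [e]
    infer_instance
  let g : c.pt ⟶ c'.pt := hc.map c' τ
  have w : ∀ j, c.ι.app j ≫ g = τ.app j ≫ c'.ι.app j := fun j => hc.ι_map c' τ j
  haveI hg : QuasiIso g := ⟨fun q => by
    rw [quasiIsoAt_iff_isIso_homologyMap]
    let H := HomologicalComplex.homologyFunctor A (ComplexShape.up ℤ) q
    haveI : ∀ j, IsIso ((Functor.whiskerRight τ H).app j) := fun j => inferInstanceAs (IsIso (homologyMap (τ.app j) q))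
    haveI : IsIso (Functor.whiskerRight τ H) := NatIso.isIso_of_isIso_app _
    let h₁ := FreeResLib.isColimitHomology C hc q
    let h₂ := FreeResLib.isColimitHomology (C ⋙ L) hc' q
    have e : homologyMap g q =
        (IsColimit.coconePointsIsoOfNatIso h₁ h₂ (asIso (Functor.whiskerRight τ H))).hom :=
      h₁.hom_ext fun j => by
        refine Eq.trans ?_ (IsColimit.comp_coconePointsIsoOfNatIso_hom h₁ h₂ _ j).symm
        change H.map (c.ι.app j) ≫ H.map g = H.map (τ.app j) ≫ H.map (c'.ι.app j)
        rw [← H.map_comp, w, H.map_comp]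
    rw [e]
    infer_instance⟩
  haveI : c'.pt.IsStrictlyGE n := by
    rw [CochainComplex.isStrictlyGE_iff]
    intro i hi
    rw [IsZero.iff_id_eq_zero]
    exact (isColimitOfPreserves (eval _ _ i) hc').hom_ext fun j =>
      (@CochainComplex.isZero_of_isStrictlyGE _ _ _ ((C ⋙ L).obj j) n i hi (hL (C.obj j)).1).eq_of_src _ _
  haveI := isIso_unit_of_acyclic G RF α c'.pt n fun i p hp =>
    hJ _ _ (isColimitOfPreserves (eval _ _ i) hc') (fun j => ((hL (C.obj j)).2 (hC j)).2 i) p hp
  haveI := isIso_nu G RF α c'.pt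
  haveI := isIso_nuH G RF α m c'.pt
  haveI : ∀ j, IsIso ((Functor.whiskerLeft (C ⋙ L) (nuH G RF α m)).app j) := fun j => by
    haveI : ((C ⋙ L).obj j).IsStrictlyGE n := (hL (C.obj j)).1
    haveI : ∀ i, Injective (((C ⋙ L).obj j).X i) := ((hL (C.obj j)).2 (hC j)).2
    haveI := CochainComplex.isKInjective_of_injective ((C ⋙ L).obj j) n
    haveI := DerLib.KInjDerived.isIso_app RF α (DerLib.KInjDerived.enoughKInj A) ((C ⋙ L).obj j)
    haveI := isIso_nu G RF α ((C ⋙ L).obj j)
    exact isIso_nuH G RF α m ((C ⋙ L).obj j)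
  haveI : IsIso (Functor.whiskerLeft (C ⋙ L) (nuH G RF α m)) := NatIso.isIso_of_isIso_app _
  let hp : IsColimit ((G.mapHomologicalComplex (ComplexShape.up ℤ)).mapCocone c') :=
    HomologicalComplex.isColimitOfEval _ _ fun i =>
      isColimitOfPreserves G (isColimitOfPreserves (eval _ _ i) hc')
  let hG : IsColimit ((gH G m).mapCocone c') :=
    FreeResLib.isColimitHomology (C ⋙ L ⋙ G.mapHomologicalComplex (ComplexShape.up ℤ)) hp m
  let hR : IsColimit ((rH RF m).mapCocone c') :=
    ((IsColimit.precomposeInvEquiv (asIso (Functor.whiskerLeft (C ⋙ L) (nuH G RF α m))) _).symm hG).ofIsoColimit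
      (Cocone.ext (asIso ((nuH G RF α m).app c'.pt)) fun j => by
        simp only [Cocone.precompose_obj_ι, NatTrans.comp_app, asIso_hom, asIso_inv, NatIso.isIso_inv_app]
        refine (Category.assoc _ _ _).trans ?_
        rw [IsIso.inv_comp_eq]
        exact (nuH G RF α m).naturality (c'.ι.app j))
  haveI : ∀ j, IsIso ((Functor.whiskerRight τ (rH RF m)).app j) := fun j =>
    inferInstanceAs (IsIso ((DerivedCategory.homologyFunctor B m).map (RF.map (DerivedCategory.Q.map (τ.app j)))))
  haveI : IsIso (Functor.whiskerRight τ (rH RF m)) := NatIso.isIso_of_isIso_app _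
  haveI : IsIso ((rH RF m).map g) :=
    inferInstanceAs (IsIso ((DerivedCategory.homologyFunctor B m).map (RF.map (DerivedCategory.Q.map g))))
  exact ⟨((IsColimit.precomposeHomEquiv (asIso (Functor.whiskerRight τ (rH RF m))) _).symm hR).ofIsoColimit
    (Cocone.ext (asIso ((rH RF m).map g)).symm fun j => by
      simp only [Cocone.precompose_obj_ι, NatTrans.comp_app, asIso_hom, Iso.symm_hom, asIso_inv]
      refine (Category.assoc _ _ _).trans ?_
      rw [← Category.assoc, IsIso.comp_inv_eq]
      exact ((rH RF m).map_comp _ _).symm.trans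
        ((congrArg (rH RF m).map (w j).symm).trans ((rH RF m).map_comp _ _)))⟩

end IndCohLib.GenColim

end
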