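import Groth.Agent.IndCohLib.Derived
import Groth.Agent.IndCohLib.GenColim
import Groth.Agent.FiltSectLib.Sections
import Groth.Agent.FiltSectLib.Discrete
import Groth.Agent.FCohLib.PushCompl
import Groth.Agent.IndCohLib.Coreflect
import Groth.Agent.FRpushLib.CohFinal

/-!
# Direct images of formal schemes and colimits
-/

set_option autoImplicit false
set_option linter.style.haveILetI false
set_option maxHeartbeats 1000000
set_option synthInstance.maxHeartbeats 80000

universe u

open CategoryTheory CategoryTheory.Limits AlgebraicGeometry TopologicalSpace Opposite FSch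
open QCohLib (HU)
open FModLib (MSec mres)
open Groth.Agent

noncomputable section

attribute [local instance] HasDerivedCategory.standard

namespace IndCohLib

variable {𝔛 : Sys.{u}} (hloc : 𝔛.IsLocNoethFormal) [CompactSpace (𝔛.X 0)]

include hloc in
theorem isCompact_opens (U : (𝔛.X 0).Opens) : IsCompact (U : Set (𝔛.X 0)) := by
  haveI : IsLocallyNoetherian (𝔛.X 0) := hloc.2.2 0
  haveI : AlgebraicGeometry.IsNoetherian (𝔛.X 0) := {}
  exact NoetherianSpace.isCompact _

variable {𝔜 : Sys.{u}} (h𝔜 : 𝔜.IsFormal) (f : 𝔛 ⟶ 𝔜)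

include hloc in
/-- Direct images commute with filtered colimits. -/
theorem preservesFilteredColimit_push (J : Type u) [SmallCategory J] [IsFiltered J] :
    PreservesColimitsOfShape J (homMor f hloc.1 h𝔜).push := by
  refine ⟨fun {D} => ⟨fun {c} hc => ?_⟩⟩
  let F := (homMor f hloc.1 h𝔜).push
  let f0 := (f : Hom 𝔛 𝔜).app 0
  let c' := colimit.cocone (D ⋙ F)
  let hc' : IsColimit c' := colimit.isColimit (D ⋙ F)
  let φ := hc'.desc (F.mapCocone c)
  let hY := isColimitOfPreserves (SheafOfModules.toSheaf (ModSite.ringSh (𝔜.Osh h𝔜))) hc'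
  have hfac : ∀ (j : J) {V : (𝔜.X 0).Opens} (s : MSec (F.obj (D.obj j)) V),
      φ.val.app (op V) ((c'.ι.app j).val.app (op V) s) = (c.ι.app j).val.app (op (f0 ⁻¹ᵁ V)) s := fun j V s =>
    congrArg (fun ψ => ψ.val.app (op V) s) (hc'.fac (F.mapCocone c) j)
  haveI : IsIso φ := FCohLib.isIso_of_bijective_basis φ fun U p hp => by
    obtain ⟨V, hV, hpV, hVU⟩ := Opens.isBasis_iff_nbhd.mp (𝔜.X 0).isBasis_affineOpens hp
    refine ⟨V, hVU, hpV, ⟨?_, fun t => ?_⟩⟩
    · refine (injective_iff_map_eq_zero _).2 fun z hz => FCohLib.eq_zero_of_points _ z fun q hq => ?_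
      obtain ⟨j, W, hW, a, hqW, ha⟩ := FiltSectLib.exists_local_lift hY z q hq
      refine ⟨W, hW, hqW, ?_⟩
      have hz' : (c.ι.app j).val.app (op (f0 ⁻¹ᵁ W)) a = 0 := by
        refine (hfac j a).symm.trans ?_
        refine (congrArg (fun b => φ.val.app (op W) b) ha).trans ?_
        refine (PresheafOfModules.naturality_apply φ.val (homOfLE hW).op z).trans ?_
        exact (congrArg _ hz).trans (map_zero _)
      obtain ⟨k, g, hg⟩ := stage_eq hloc hc (isCompact_opens hloc _) a hz'
      refine ha.symm.trans ?_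
      refine (congrArg (fun ψ => ψ.val.app (op W) a) (c'.w g)).symm.trans ?_
      exact (congrArg ((c'.ι.app k).val.app (op W)) hg).trans (map_zero _)
    · obtain ⟨j, s, hs⟩ := stage_section hloc hc (isCompact_opens hloc (f0 ⁻¹ᵁ V)) t
      exact ⟨(c'.ι.app j).val.app (op V) s, (hfac j s).trans hs⟩
  exact ⟨IsColimit.ofPointIso (i := ‹IsIso φ›) hc'⟩

include hloc in
/-- Filtered colimits of injectives are acyclic for direct images. -/
theorem isZero_rightDerived_colimit (J : Type u) [SmallCategory J] [IsFiltered J]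
    [HasInjectiveResolutions (ModF 𝔛 hloc.1)]
    (D : J ⥤ ModF 𝔛 hloc.1) (c : Cocone D) (hc : IsColimit c) (hD : ∀ j, Injective (D.obj j))
    (i : ℕ) (hi : 0 < i) : IsZero (((homMor f hloc.1 h𝔜).push.rightDerived i).obj c.pt) := by
  refine isZero_rpush_of_acyclic hloc h𝔜 f _ (𝔜.X 0).isBasis_affineOpens 0 (fun V _ n _ => ?_) i hi
  have := quasiSeparated hloc
  have hc' := isColimitOfPreserves (SheafOfModules.toSheaf (ModSite.ringSh (𝔛.Osh hloc.1))) hc
  refine subsingleton_of_forall_eq 0 fun x => ?_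
  obtain ⟨j, y, hy⟩ := (CohTopLib.ColimCoh.prop₁ _ (isCompact_opens hloc _) (n + 1) _ _ hc').1 x
  have := hD j
  have := FRpushLib.subsingleton_HU_toAbS_injective (D.obj j) n (((f : Hom 𝔛 𝔜).app 0) ⁻¹ᵁ V)
  rw [← hy, @Subsingleton.elim (HU (tAb hloc (D.obj j)) (n + 1) _) this y 0]
  exact Abelian.Ext.zero_comp ..

include hloc in
/-- Coproducts of injectives are acyclic for direct images. -/
theorem isZero_rightDerived_coproduct (ι : Type u) [HasInjectiveResolutions (ModF 𝔛 hloc.1)]
    (D : Discrete ι ⥤ ModF 𝔛 hloc.1) (c : Cocone D) (hc : IsColimit c) (hD : ∀ j, Injective (D.obj j))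
    (i : ℕ) (hi : 0 < i) : IsZero (((homMor f hloc.1 h𝔜).push.rightDerived i).obj c.pt) := by
  let cc := CoproductsFromFiniteFiltered.liftToFinsetColimitCocone D
  refine IsZero.of_iso ?_ (((homMor f hloc.1 h𝔜).push.rightDerived i).mapIso (cc.isColimit.coconePointUniqueUpToIso hc)).symm
  refine isZero_rightDerived_colimit hloc h𝔜 f _ (CoproductsFromFiniteFiltered.liftToFinsetObj D) _
    (colimit.isColimit (CoproductsFromFiniteFiltered.liftToFinsetObj D)) (fun S => ?_) i hi
  haveI : ∀ x : S, Injective (D.obj x.1) := fun x => hD x.1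
  haveI : HasFiniteBiproducts (ModF 𝔛 hloc.1) := HasFiniteBiproducts.of_hasFiniteProducts
  haveI : Injective (⨁ fun x : S => D.obj x.1) := Injective.of_iso (biproduct.isoProduct _).symm inferInstance
  exact Injective.of_iso (biproduct.isoCoproduct fun x : S => D.obj x.1) inferInstance

include hloc in
/-- Direct images commute with coproducts. -/
theorem preservesCoproducts_push (ι : Type u) :
    PreservesColimitsOfShape (Discrete ι) (homMor f hloc.1 h𝔜).push := by
  let F := (homMor f hloc.1 h𝔜).push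
  haveI : PreservesFiniteBiproducts F := Functor.preservesFiniteBiproductsOfAdditive _
  haveI : PreservesFiniteCoproducts F :=
    ⟨fun n => preservesCoproductsOfShape_of_preservesBiproductsOfShape _⟩
  haveI := preservesFilteredColimit_push hloc h𝔜 f (Finset (Discrete ι))
  exact FiltSectLib.preservesColimitsOfShape_discrete F ι

theorem preservesFiniteLimits_push : PreservesFiniteLimits (homMor f hloc.1 h𝔜).push := by
  haveI : PreservesLimitsOfSize.{0, 0} (homMor f hloc.1 h𝔜).push :=
    (homMor f hloc.1 h𝔜).adj.rightAdjoint_preservesLimits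
  exact PreservesLimitsOfSize.preservesFiniteLimits _

/-- **Higher proper direct images of ind-coherent modules are ind-coherent.** -/
theorem isInd_rpush {𝔜 : Sys.{u}} (h𝔜 : 𝔜.IsLocNoethFormal) (f : 𝔛 ⟶ 𝔜) (hf : IsProperHom f)
    [SiteCmp.HasRpushD (homMor f hloc.1 h𝔜.1)] [HasInjectiveResolutions (ModF 𝔛 hloc.1)]
    {M : ModF 𝔛 hloc.1} (hM : IsInd hloc M) (q : ℕ) :
    IsInd h𝔜 ((RpushF f hloc.1 h𝔜.1 q).obj M) := by
  let fm := homMor f hloc.1 h𝔜.1
  let RF := SiteCmp.RpushD fm
  let α := (SiteCmp.pushKh fm).totalRightDerivedUnit DerivedCategory.Qh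
    (HomotopyCategory.quasiIso (ModF 𝔛 hloc.1) (ComplexShape.up ℤ))
  obtain ⟨J, _, _, pres, hp, -⟩ := exists_presentation_mono hloc hM
  haveI := preservesFilteredColimit_push hloc h𝔜.1 f J
  haveI := preservesFiniteLimits_push hloc h𝔜.1 f
  let S := CochainComplex.singleFunctor (ModF 𝔛 hloc.1) 0
  haveI : PreservesColimitsOfShape J S :=
    inferInstanceAs (PreservesColimitsOfShape J (HomologicalComplex.single (ModF 𝔛 hloc.1) (ComplexShape.up ℤ) 0))
  obtain ⟨hq⟩ := GenColim.nonempty_isColimit_rH_of_isGE fm.push RF α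
    (isZero_rightDerived_colimit hloc h𝔜.1 f J) (isColimitOfPreserves S pres.isColimit) 0
    (fun j => inferInstanceAs ((S.obj (pres.diag.obj j)).IsGE 0)) (q : ℤ)
  let e : ∀ N : ModF 𝔛 hloc.1, (GenColim.rH RF (q : ℤ)).obj (S.obj N) ≅ (RpushF f hloc.1 h𝔜.1 q).obj N := fun N =>
    (DerivedCategory.homologyFunctor (ModF 𝔜 h𝔜.1) (q : ℤ)).mapIso
      (RF.mapIso ((DerivedCategory.singleFunctorIsoCompQ (ModF 𝔛 hloc.1) 0).app N).symm) ≪≫
    (ModCohLib.nonempty_homology_rpush_single_iso fm RF α N q).some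
  exact isInd_of_iso h𝔜 (e M) (isInd_colimit h𝔜 hq fun j =>
    isInd_of_isCohF h𝔜 (FCohLib.isCohF_of_iso (e _).symm
      (FRpushLib.isCohF_rpush (hloc := hloc) (h𝔜 := h𝔜) hf (hp j) q)))

end IndCohLib

end
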