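import Groth.Agent.IndCohLib.QCClosure
import Groth.Agent.CohTopLib.ColimCoh
import Groth.Agent.ModSiteLib.Colimits

/-!
# Modules that are locally generated by images of coherent modules; filtered colimits
-/

set_option autoImplicit false
set_option linter.style.haveILetI false
set_option maxHeartbeats 800000

universe u

open CategoryTheory CategoryTheory.Limits AlgebraicGeometry TopologicalSpace Opposite FSch
open FModLib (MSec RSec mres rres lc)

noncomputable section

namespace IndCohLib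

variable {𝔛 : Sys.{u}} (hloc : 𝔛.IsLocNoethFormal) {M N : ModF 𝔛 hloc.1}

/-- Every section is locally the image of a section of a coherent module. -/
def Cov (M : ModF 𝔛 hloc.1) : Prop :=
  ∀ (W : (𝔛.X 0).Opens) (x : MSec M W), ∀ q ∈ W, ∃ (G : ModF 𝔛 hloc.1) (_ : IsCohF 𝔛 hloc.1 G) (θ : G ⟶ M)
    (W' : (𝔛.X 0).Opens) (hW' : W' ≤ W) (y : MSec G W'), q ∈ W' ∧ θ.val.app (op W') y = mres M hW' x

/-- Good on all affine opens and covered by coherent modules. -/
structure IsInd (M : ModF 𝔛 hloc.1) : Prop where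
  good : ∀ V : (𝔛.X 0).Opens, IsAffineOpen V → Good hloc M V
  cov : Cov hloc M

theorem isInd_of_isCohF (h : IsCohF 𝔛 hloc.1 M) : IsInd hloc M :=
  ⟨fun _ hV => good_of_isCohF hloc h hV, fun W x _ hq => ⟨M, h, 𝟙 M, W, le_rfl, x, hq, (mres_self M x).symm⟩⟩

theorem IsInd.isQC (h : IsInd hloc M) : IsQC hloc M := fun _ => ⟨⊤, trivial, fun V hV _ => h.good V hV⟩

theorem cov_of_epi (θ : M ⟶ N) [Epi θ] (h : Cov hloc M) : Cov hloc N := fun W x q hq => by
  obtain ⟨W₀, hW₀, y, hq₀, hy⟩ := exists_loc_lift hloc θ x hq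
  obtain ⟨G, hG, a, W', hW', z, hq', hz⟩ := h W₀ y q hq₀
  refine ⟨G, hG, a ≫ θ, W', hW'.trans hW₀, z, hq', ?_⟩
  refine ((app_comp hloc a θ _ rfl z).symm).trans ((congrArg (θ.val.app (op W')) hz).trans ?_)
  exact (app_mres hloc θ hW' y).trans ((congrArg (mres N hW') hy).trans (FModLib.mres_mres N hW' hW₀ x))

theorem isInd_of_iso (e : M ≅ N) (h : IsInd hloc M) : IsInd hloc N :=
  ⟨fun V hV => good_of_iso hloc e (h.good V hV), cov_of_epi hloc e.hom h.cov⟩

theorem isInd_cokernel (θ : M ⟶ N) (hM : IsInd hloc M) (hN : IsInd hloc N) : IsInd hloc (cokernel θ) :=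
  ⟨fun V hV => good_cokernel hloc θ (hM.good V hV) (hN.good V hV), cov_of_epi hloc (cokernel.π θ) hN.cov⟩

theorem isCohF_isZero (h : IsZero M) : IsCohF 𝔛 hloc.1 M := by
  refine FModLib.isFP_of_locPres fun p => ⟨⊤, PEmpty.{u + 1}, PEmpty.{u + 1}, inferInstance, inferInstance,
    PEmpty.elim, PEmpty.elim, trivial, ⟨fun j => j.elim, fun V hV x q hq => ⟨V, le_rfl, PEmpty.elim, hq, ?_⟩,
      fun V hV c _ q hq => ⟨V, le_rfl, PEmpty.elim, hq, fun i => i.elim⟩⟩⟩
  refine (mres_self M x).trans (Eq.trans ?_ (Finset.sum_empty (f := fun i : PEmpty.{u + 1} => (0 : MSec M V))).symm)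
  exact congr($(congrArg (fun a : M ⟶ M => a.val.app (op V)) (h.eq_of_src (𝟙 M) 0)) x)

section Filtered

variable {J : Type u} [SmallCategory J] [IsFiltered J] {D : J ⥤ ModF 𝔛 hloc.1} {c : Cocone D}

include hloc in
theorem quasiSeparated : QuasiSeparatedSpace (𝔛.X 0) := by
  have := hloc.2.2 0
  infer_instance

theorem stage_section (hc : IsColimit c) {U : (𝔛.X 0).Opens} (hU : IsCompact (U : Set (𝔛.X 0)))
    (s : MSec c.pt U) : ∃ (j : J) (t : MSec (D.obj j) U), (c.ι.app j).val.app (op U) t = s := by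
  have := quasiSeparated hloc
  obtain ⟨j, t, ht⟩ := CohTopLib.exists_stage_section
    (isColimitOfPreserves (SheafOfModules.toSheaf (ModSite.ringSh (𝔛.Osh hloc.1))) hc)
    CohTopLib.ColimCoh.qs_inf (Opens.isBasis_iff_nbhd.mpr fun {O x} hx => by
      obtain ⟨V, hV, hxV, hle⟩ := Opens.isBasis_iff_nbhd.mp (𝔛.X 0).isBasis_affineOpens hx
      exact ⟨V, hV.isCompact, hxV, hle⟩) U hU s
  exact ⟨j, t, ht⟩

theorem stage_eq (hc : IsColimit c) {U : (𝔛.X 0).Opens} (hU : IsCompact (U : Set (𝔛.X 0))) {i : J}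
    (s : MSec (D.obj i) U) (h : (c.ι.app i).val.app (op U) s = 0) :
    ∃ (k : J) (a : i ⟶ k), (D.map a).val.app (op U) s = 0 := by
  obtain ⟨k, a, ha⟩ := CohTopLib.exists_stage_eq
    (isColimitOfPreserves (SheafOfModules.toSheaf (ModSite.ringSh (𝔛.Osh hloc.1))) hc) U hU s 0
    (h.trans (map_zero _).symm)
  exact ⟨k, a, ha.trans (map_zero _)⟩

theorem good_colimit (hc : IsColimit c) {V : (𝔛.X 0).Opens} (hV : IsAffineOpen V)
    (h : ∀ j, Good hloc (D.obj j) V) : Good hloc c.pt V := by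
  classical
  refine ⟨hV, fun W hW x q hq => ?_, fun k _ f W hW e he q hq => ?_⟩
  · obtain ⟨W₀, hW₀, hqW₀, hle⟩ := Opens.isBasis_iff_nbhd.mp (𝔛.X 0).isBasis_affineOpens hq
    obtain ⟨j, y, hy⟩ := stage_section hloc hc hW₀.isCompact (mres c.pt hle x)
    obtain ⟨W', hW', k, _, f, e, hqW', hy'⟩ := (h j).gen W₀ (hle.trans hW) y q hqW₀
    refine ⟨W', hW'.trans hle, k, inferInstance, fun i => (c.ι.app j).val.app (op V) (f i), e, hqW', ?_⟩
    refine (FModLib.mres_mres c.pt hW' hle x).symm.trans ((congrArg (mres c.pt hW') hy.symm).trans ?_)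
    exact (app_mres hloc (c.ι.app j) hW' y).symm.trans
      ((congrArg ((c.ι.app j).val.app (op W')) hy').trans (FCohLib.app_lc (c.ι.app j) _ f e))
  · choose s g hg using fun i => stage_section hloc hc hV.isCompact (f i)
    obtain ⟨j, hj⟩ := IsFiltered.sup_objs_exists (Finset.univ.image s)
    let g' : k → MSec (D.obj j) V := fun i =>
      (D.map (hj (Finset.mem_image_of_mem s (Finset.mem_univ i))).some).val.app (op V) (g i)
    have hg' : ∀ i, (c.ι.app j).val.app (op V) (g' i) = f i := fun i =>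
      (app_comp hloc _ _ _ (c.w _) (g i)).trans (hg i)
    obtain ⟨W₀, hW₀, hqW₀, hle⟩ := Opens.isBasis_iff_nbhd.mp (𝔛.X 0).isBasis_affineOpens hq
    obtain ⟨j', a, ha⟩ := stage_eq hloc hc hW₀.isCompact (mres (D.obj j) hle (lc (D.obj j) hW g' e)) (by
      refine (app_mres hloc (c.ι.app j) hle _).trans ((congrArg (mres c.pt hle) ?_).trans (map_zero _))
      exact (FCohLib.app_lc (c.ι.app j) hW g' e).trans
        ((congrArg (fun t => lc c.pt hW t e) (funext hg')).trans he))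
    let g'' : k → MSec (D.obj j') V := fun i => (D.map a).val.app (op V) (g' i)
    obtain ⟨W₁, hW₁, Z, d, hqW₁, hZ, hd⟩ := (h j').rel k g'' W₀ (hle.trans hW) (fun i => rres _ hle (e i)) (by
      refine Eq.trans ?_ ((congrArg ((D.map a).val.app (op W₀)) (FModLib.mres_lc _ hle hW g' e).symm).trans ha)
      exact (FCohLib.app_lc (D.map a) (hle.trans hW) g' fun i => rres _ hle (e i)).symm) q hqW₀
    refine ⟨W₁, hW₁.trans hle, Z, d, hqW₁, fun z hz => ?_, fun i => (FModLib.rres_rres hW₁ hle (e i)).symm.trans (hd i)⟩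
    have h1 : ∀ i, (c.ι.app j').val.app (op V) (g'' i) = f i := fun i =>
      (app_comp hloc _ _ _ (c.w a) (g' i)).trans (hg' i)
    exact (congrArg (fun t => lc c.pt le_rfl t z) (funext h1).symm).trans
      ((FCohLib.app_lc (c.ι.app j') le_rfl g'' z).symm.trans ((congrArg _ (hZ z hz)).trans (map_zero _)))

theorem isInd_colimit (hc : IsColimit c) (h : ∀ j, IsInd hloc (D.obj j)) : IsInd hloc c.pt := by
  refine ⟨fun V hV => good_colimit hloc hc hV fun j => (h j).good V hV, fun W x q hq => ?_⟩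
  obtain ⟨W₀, hW₀, hqW₀, hle⟩ := Opens.isBasis_iff_nbhd.mp (𝔛.X 0).isBasis_affineOpens hq
  obtain ⟨j, y, hy⟩ := stage_section hloc hc hW₀.isCompact (mres c.pt hle x)
  obtain ⟨G, hG, θ, W', hW', z, hq', hz⟩ := (h j).cov W₀ y q hqW₀
  refine ⟨G, hG, θ ≫ c.ι.app j, W', hW'.trans hle, z, hq', ?_⟩
  refine (app_comp hloc θ _ _ rfl z).symm.trans ((congrArg ((c.ι.app j).val.app (op W')) hz).trans ?_)
  exact (app_mres hloc _ hW' y).trans ((congrArg (mres c.pt hW') hy).trans (FModLib.mres_mres _ hW' hle x))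

end Filtered

/-- Filtered colimits of coherent modules are good and covered. -/
theorem isInd_of_ind (h : (ObjectProperty.ind.{u} fun G : ModF 𝔛 hloc.1 => IsCohF 𝔛 hloc.1 G) M) :
    IsInd hloc M := by
  obtain ⟨J, _, _, pres, hp⟩ := h
  exact isInd_colimit hloc pres.isColimit fun j => isInd_of_isCohF hloc (hp j)

end IndCohLib

end
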