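import Groth.Agent.IndCohLib.Colim
import Mathlib.CategoryTheory.Abelian.GrothendieckCategory.Subobject
import Mathlib.CategoryTheory.ObjectProperty.Ind

/-!
# Covered good modules are directed unions of coherent submodules
-/

set_option autoImplicit false
set_option linter.style.haveILetI false
set_option maxHeartbeats 800000

universe u

open CategoryTheory CategoryTheory.Limits AlgebraicGeometry TopologicalSpace Opposite FSch
open FModLib (MSec RSec mres rres lc)

noncomputable section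

namespace IndCohLib

variable {𝔛 : Sys.{u}} (hloc : 𝔛.IsLocNoethFormal) {M F : ModF 𝔛 hloc.1}

/-- Images of coherent modules in quasi-coherent ones are coherent. -/
theorem isCohF_image_of_isQC (θ : M ⟶ F) (hM : IsCohF 𝔛 hloc.1 M) (hF : IsQC hloc F) :
    IsCohF 𝔛 hloc.1 (Abelian.image θ) := by
  have he : Epi (Abelian.factorThruImage θ) := inferInstance
  exact FCohLib.isCohF_of_finGen hloc _
    (isQuasicoherent_of_isQC hloc (isQC_image hloc θ (isInd_of_isCohF hloc hM).isQC hF))
    (@FCohLib.finGen_of_epi _ hloc _ _ hM (Abelian.factorThruImage θ) he)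

/-- The subobject which is the image of a map. -/
abbrev imSub (θ : M ⟶ F) : Subobject F := Subobject.mk (Abelian.image.ι θ)

theorem isCohF_imSub (θ : M ⟶ F) (hM : IsCohF 𝔛 hloc.1 M) (hF : IsQC hloc F) :
    IsCohF 𝔛 hloc.1 (imSub hloc θ : ModF 𝔛 hloc.1) :=
  (SheafOfModules.isFinitePresentation (ModSite.ringSh (𝔛.Osh hloc.1))).prop_of_iso
    (Subobject.underlyingIso _).symm (isCohF_image_of_isQC hloc θ hM hF)

theorem le_imSub_desc {P Q : Subobject F} :
    P ≤ imSub hloc (biprod.desc P.arrow Q.arrow) ∧ Q ≤ imSub hloc (biprod.desc P.arrow Q.arrow) :=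
  ⟨Subobject.le_mk_of_comm (biprod.inl ≫ Abelian.factorThruImage (biprod.desc P.arrow Q.arrow))
      (by rw [Category.assoc, Abelian.image.fac, biprod.inl_desc]),
    Subobject.le_mk_of_comm (biprod.inr ≫ Abelian.factorThruImage (biprod.desc P.arrow Q.arrow))
      (by rw [Category.assoc, Abelian.image.fac, biprod.inr_desc])⟩

/-- **A covered quasi-coherent module is the directed union of its coherent submodules.** -/
theorem exists_presentation_mono_of_cov (hc : Cov hloc F) (hQ : IsQC hloc F) :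
    ∃ (J : Type u) (_ : SmallCategory J) (_ : IsFiltered J) (pres : ColimitPresentation J F),
      (∀ j, IsCohF 𝔛 hloc.1 (pres.diag.obj j)) ∧ ∀ j, Mono (pres.ι.app j) := by
  classical
  let E := {P : Subobject F // IsCohF 𝔛 hloc.1 (P : ModF 𝔛 hloc.1)}
  have hwp : WellPowered.{u} (ModF 𝔛 hloc.1) :=
    IsGrothendieckAbelian.wellPowered.{u} (SheafOfModules.{u} (ModSite.ringSh (𝔛.Osh hloc.1)))
  obtain ⟨J, ⟨eJ⟩⟩ := Small.equiv_small.{u} (α := E)
  let o : PartialOrder J := PartialOrder.lift eJ.symm eJ.symm.injective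
  let sub : J → Subobject F := fun j => (eJ.symm j).1
  have hsub : ∀ j, IsCohF 𝔛 hloc.1 (sub j : ModF 𝔛 hloc.1) := fun j => (eJ.symm j).2
  have hmk : ∀ (P : Subobject F) (hP : IsCohF 𝔛 hloc.1 (P : ModF 𝔛 hloc.1)), sub (eJ ⟨P, hP⟩) = P :=
    fun P hP => congrArg Subtype.val (eJ.symm_apply_apply ⟨P, hP⟩)
  have : Nonempty J := ⟨eJ ⟨imSub hloc (0 : cokernel (𝟙 F) ⟶ F),
    isCohF_imSub hloc _ (isCohF_isZero hloc (isZero_cokernel_of_epi _)) hQ⟩⟩
  have : IsDirectedOrder J := ⟨fun a b => by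
    let R := imSub hloc (biprod.desc (sub a).arrow (sub b).arrow)
    have hR := isCohF_imSub hloc (biprod.desc (sub a).arrow (sub b).arrow)
      (isCohF_biprod hloc (hsub a) (hsub b)) hQ
    exact ⟨eJ ⟨R, hR⟩, (le_imSub_desc hloc).1.trans_eq (hmk R hR).symm,
      (le_imSub_desc hloc).2.trans_eq (hmk R hR).symm⟩⟩
  let D : J ⥤ ModF 𝔛 hloc.1 :=
    { obj := fun j => (sub j : ModF 𝔛 hloc.1)
      map := fun {i j} f => Subobject.ofLE (sub i) (sub j) (le_of_le_of_eq (leOfHom (x := i) (y := j) f : i ≤ j) rfl)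
      map_id := fun j => by simp
      map_comp := fun f g => by simp }
  let cc : Cocone D :=
    { pt := F
      ι := { app := fun j => (sub j).arrow
             naturality := fun i j f => (Subobject.ofLE_arrow _).trans (Category.comp_id _).symm } }
  let d : colimit D ⟶ F := colimit.desc D cc
  have hd : ∀ j, colimit.ι D j ≫ d = (sub j).arrow := fun j => colimit.ι_desc cc j
  have hepi : Epi d := by
    refine _root_.ModSiteLib.epi_of_loc_surjective d fun W x => ?_
    have hpt : ∀ q ∈ W, ∃ (W' : (𝔛.X 0).Opens) (hW' : W' ≤ W) (y : MSec (colimit D) W'),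
        q ∈ W' ∧ d.val.app (op W') y = mres F hW' x := fun q hq => by
      obtain ⟨G, hG, θ, W', hW', y, hq', hy⟩ := hc W x q hq
      let j : J := eJ ⟨imSub hloc θ, isCohF_imSub hloc θ hG hQ⟩
      let a : G ⟶ (sub j : ModF 𝔛 hloc.1) :=
        Abelian.factorThruImage θ ≫ (Subobject.underlyingIso _).inv ≫ Subobject.ofLE _ _ (hmk _ _).ge
      have ha : (a ≫ colimit.ι D j) ≫ d = θ := by
        rw [Category.assoc, hd]
        simp [a]
      exact ⟨W', hW', (a ≫ colimit.ι D j).val.app (op W') y, hq', (app_comp hloc _ d θ ha y).trans hy⟩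
    refine ⟨⟨fun W' => {g : W' ⟶ W | ∃ y : MSec (colimit D) W', d.val.app (op W') y = mres F g.le x},
      fun {W' W''} g hg k => ?_⟩, fun q hq => ?_, fun W' g hg => hg⟩
    · obtain ⟨y, hy⟩ := hg
      exact ⟨mres _ k.le y, (app_mres hloc d k.le y).trans ((congrArg (mres F k.le) hy).trans
        (FModLib.mres_mres F k.le g.le x))⟩
    · obtain ⟨W', hW', y, hq', hy⟩ := hpt q hq
      exact ⟨W', homOfLE hW', ⟨y, hy⟩, hq'⟩
  have hmono : Mono d := by
    refine _root_.ModSiteLib.mono_of_injective_ap d fun W a b hab => sub_eq_zero.1 ?_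
    refine FCohLib.eq_zero_of_points _ _ fun q hq => ?_
    obtain ⟨W₀, hW₀, hqW₀, hle⟩ := Opens.isBasis_iff_nbhd.mp (𝔛.X 0).isBasis_affineOpens hq
    obtain ⟨j, t, ht⟩ := stage_section hloc (c := colimit.cocone D) (colimit.isColimit D) hW₀.isCompact (mres (colimit D) hle (a - b))
    refine ⟨W₀, hle, hqW₀, ht.symm.trans ?_⟩
    have h0 : (sub j).arrow.val.app (op W₀) t = 0 := by
      refine (app_comp hloc _ d _ (hd j) t).symm.trans ((congrArg (d.val.app (op W₀)) ht).trans ?_)
      exact (app_mres hloc d hle (a - b)).trans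
        ((congrArg (mres F hle) ((map_sub _ a b).trans (sub_eq_zero.2 hab))).trans (map_zero _))
    exact (congrArg ((colimit.ι D j).val.app (op W₀))
      (inj_of_mono hloc (sub j).arrow (h0.trans (map_zero _).symm))).trans (map_zero _)
  have : IsIso d := isIso_of_mono_of_epi d
  have : IsIso ((colimit.isColimit D).desc cc) := this
  exact ⟨J, inferInstance, inferInstance, ⟨D, cc.ι, IsColimit.ofPointIso (t := cc) (colimit.isColimit D)⟩,
    hsub, fun j => inferInstanceAs (Mono (sub j).arrow)⟩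

theorem exists_presentation_mono (hF : IsInd hloc F) :
    ∃ (J : Type u) (_ : SmallCategory J) (_ : IsFiltered J) (pres : ColimitPresentation J F),
      (∀ j, IsCohF 𝔛 hloc.1 (pres.diag.obj j)) ∧ ∀ j, Mono (pres.ι.app j) :=
  exists_presentation_mono_of_cov hloc hF.cov hF.isQC

theorem ind_of_cov (hc : Cov hloc F) (hQ : IsQC hloc F) :
    (ObjectProperty.ind.{u} fun G : ModF 𝔛 hloc.1 => IsCohF 𝔛 hloc.1 G) F := by
  obtain ⟨J, i, j, p, h, -⟩ := exists_presentation_mono_of_cov hloc hc hQ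
  exact ⟨J, i, j, p, h⟩

theorem ind_of_isInd (hF : IsInd hloc F) :
    (ObjectProperty.ind.{u} fun G : ModF 𝔛 hloc.1 => IsCohF 𝔛 hloc.1 G) F := by
  obtain ⟨J, i, j, p, h, -⟩ := exists_presentation_mono hloc hF
  exact ⟨J, i, j, p, h⟩

theorem ind_iff : (ObjectProperty.ind.{u} fun G : ModF 𝔛 hloc.1 => IsCohF 𝔛 hloc.1 G) F ↔ IsInd hloc F :=
  ⟨isInd_of_ind hloc, ind_of_isInd hloc⟩

end IndCohLib

end
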