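import Groth.Agent.IndCohLib.Ind
import Groth.Agent.FCohLib.QcohFT
import Mathlib.CategoryTheory.Limits.Constructions.Filtered
import Mathlib.CategoryTheory.Limits.Constructions.LimitsOfProductsAndEqualizers
import Mathlib.CategoryTheory.ObjectProperty.FiniteProducts

/-!
# Colimits of modules locally generated by coherent modules
-/

set_option autoImplicit false
set_option linter.style.haveILetI false

universe u

open CategoryTheory CategoryTheory.Limits AlgebraicGeometry TopologicalSpace Opposite FSch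
open FModLib (MSec RSec mres rres lc)

noncomputable section

namespace IndCohLib

section

variable {C : Type*} [Category.{u} C] [Abelian C] [HasColimitsOfSize.{u, u} C]

/-- A property stable under cokernels, finite sums and filtered colimits is stable under colimits. -/
theorem closed_colimits (P : ObjectProperty C) (hiso : ∀ {X Y : C}, (X ≅ Y) → P X → P Y)
    (hzero : ∀ {X : C}, IsZero X → P X) (hbi : ∀ X Y : C, P X → P Y → P (X ⊞ Y))
    (hcok : ∀ {X Y : C} (f : X ⟶ Y), P X → P Y → P (cokernel f))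
    (hfil : ∀ {J : Type u} [SmallCategory J] [IsFiltered J] {D : J ⥤ C} {c : Cocone D},
      IsColimit c → (∀ j, P (D.obj j)) → P c.pt)
    (J : Type u) [SmallCategory J] : P.IsClosedUnderColimitsOfShape J := by
  classical
  have hfin : ∀ {α : Type u} (f : α → C) [Finite α], (∀ a, P (f a)) → P (∐ f) := by
    intro α f _ hf
    have hi : P.IsClosedUnderIsomorphisms := ⟨fun e h => hiso e h⟩
    have hb : P.IsClosedUnderBinaryProducts := ObjectProperty.IsClosedUnderLimitsOfShape.mk' (by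
      rintro X ⟨F, hF⟩
      refine hiso ?_ (hbi _ _ (hF ⟨WalkingPair.left⟩) (hF ⟨WalkingPair.right⟩))
      exact biprod.isoProd _ _ ≪≫ (IsLimit.conePointUniqueUpToIso (limit.isLimit _) (limit.isLimit _)) ≪≫
        (HasLimit.isoOfNatIso (diagramIsoPair F)).symm)
    have ht : P.IsClosedUnderLimitsOfShape (Discrete.{0} PEmpty) := ObjectProperty.IsClosedUnderLimitsOfShape.mk' (by
      rintro X ⟨F, hF⟩
      exact hzero (IsTerminal.isZero (IsTerminal.ofUnique _ (h := fun Y =>
        { default := limit.lift F { pt := Y, π := Discrete.natTrans fun j => j.as.elim }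
          uniq := fun g => limit.hom_ext fun j => j.as.elim }))))
    have hfp : P.IsClosedUnderFiniteProducts := ObjectProperty.IsClosedUnderFiniteProducts.mk'
    have := HasFiniteBiproducts.of_hasFiniteProducts (C := C)
    exact hiso ((biproduct.isoProduct f).symm ≪≫ biproduct.isoCoproduct f) (P.prop_product hf)
  have hcop : ∀ {α : Type u} (f : α → C), (∀ a, P (f a)) → P (∐ f) := fun {α} f hf => by
    let c := CoproductsFromFiniteFiltered.liftToFinsetColimitCocone (Discrete.functor f)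
    refine hiso (IsColimit.coconePointUniqueUpToIso c.isColimit (colimit.isColimit _)) ?_
    exact hfil (D := CoproductsFromFiniteFiltered.liftToFinsetObj (Discrete.functor f)) (c := colimit.cocone _)
      (colimit.isColimit _)
      fun s => hfin _ fun x => hf x.1.as
  have : P.IsClosedUnderIsomorphisms := ⟨fun e h => hiso e h⟩
  refine ObjectProperty.IsClosedUnderColimitsOfShape.mk' ?_
  rintro X ⟨F, hF⟩
  let f := fun g : (Σ p : J × J, p.1 ⟶ p.2) => F.obj g.1.1
  let s : (∐ f) ⟶ ∐ F.obj := Sigma.desc fun g => Sigma.ι F.obj g.1.1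
  let t : (∐ f) ⟶ ∐ F.obj := Sigma.desc fun g => F.map g.2 ≫ Sigma.ι F.obj g.1.2
  have hs : ∀ g, Sigma.ι f g ≫ s = Sigma.ι F.obj g.1.1 := fun g => Sigma.ι_desc _ g
  have ht : ∀ g, Sigma.ι f g ≫ t = F.map g.2 ≫ Sigma.ι F.obj g.1.2 := fun g => Sigma.ι_desc _ g
  have h0 : ∀ j k (a : j ⟶ k),
      F.map a ≫ Sigma.ι F.obj k ≫ cokernel.π (t - s) = Sigma.ι F.obj j ≫ cokernel.π (t - s) := fun j k a => by
    have := congrArg (fun q => Sigma.ι f ⟨(j, k), a⟩ ≫ q) (cokernel.condition (t - s))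
    simp only [Preadditive.sub_comp, Preadditive.comp_sub, comp_zero, ← Category.assoc, hs, ht] at this
    simpa [Category.assoc] using sub_eq_zero.1 this
  let e : colimit F ≅ cokernel (t - s) :=
    { hom := colimit.desc F ⟨_, { app := fun j => Sigma.ι F.obj j ≫ cokernel.π (t - s)
                                  naturality := fun j k a => (h0 j k a).trans (Category.comp_id _).symm }⟩
      inv := cokernel.desc (t - s) (Sigma.desc (colimit.ι F)) (Sigma.hom_ext _ _ fun g => by
        rw [← Category.assoc, Preadditive.comp_sub, Preadditive.sub_comp, hs, ht, Category.assoc,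
          Sigma.ι_desc, Sigma.ι_desc, colimit.w, sub_self, comp_zero])
      hom_inv_id := colimit.hom_ext fun j => by simp
      inv_hom_id := coequalizer.hom_ext (Sigma.hom_ext _ _ fun j => by simp) }
  exact hiso e.symm (hcok _ (hcop f fun g => hF g.1.1) (hcop F.obj hF))

end

variable {𝔛 : Sys.{u}} (hloc : 𝔛.IsLocNoethFormal) {M N : ModF 𝔛 hloc.1}

theorem good_biprod {V : (𝔛.X 0).Opens} (hM : Good hloc M V) (hN : Good hloc N V) : Good hloc (M ⊞ N) V :=
  good_extension hloc biprod.snd (good_of_iso hloc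
    (IsLimit.conePointUniqueUpToIso (biprod.isKernelSndKernelFork M N) (limit.isLimit _)) hM) hN

/-- Finite sums of coherent modules are coherent. -/
theorem isCohF_biprod (hM : IsCohF 𝔛 hloc.1 M) (hN : IsCohF 𝔛 hloc.1 N) : IsCohF 𝔛 hloc.1 (M ⊞ N) := by
  refine FCohLib.isCohF_of_finGen hloc _ (isQuasicoherent_of_isQC hloc fun p =>
    ⟨⊤, trivial, fun V hV _ => good_biprod hloc (good_of_isCohF hloc hM hV) (good_of_isCohF hloc hN hV)⟩) fun p => ?_
  obtain ⟨V, hV, hpV, -⟩ := Opens.isBasis_iff_nbhd.mp (𝔛.X 0).isBasis_affineOpens (U := ⊤) (x := p) trivial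
  obtain ⟨ι, _, _, _, ⟨D⟩⟩ := FCohLib.exists_presOn hloc hM hV
  obtain ⟨μ, _, _, _, ⟨E⟩⟩ := FCohLib.exists_presOn hloc hN hV
  let il : M ⟶ M ⊞ N := biprod.inl
  let ir : N ⟶ M ⊞ N := biprod.inr
  refine ⟨V, ι ⊕ μ, inferInstance, Sum.elim (fun i => il.val.app (op V) (D.e i)) (fun i => ir.val.app (op V) (E.e i)),
    hpV, fun W hW x q hq => ?_⟩
  obtain ⟨W₁, hW₁, a, hq₁, ha⟩ := D.pres.gen W hW ((biprod.fst : M ⊞ N ⟶ M).val.app (op W) x) q hq
  obtain ⟨W₂, hW₂, b, hq₂, hb⟩ := E.pres.gen W₁ (hW₁.trans hW)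
    ((biprod.snd : M ⊞ N ⟶ N).val.app (op W₁) (mres (M ⊞ N) hW₁ x)) q hq₁
  refine ⟨W₂, hW₂.trans hW₁, Sum.elim (fun i => rres _ hW₂ (a i)) b, hq₂, Eq.trans ?_ (lc_sumType _ _ _ _).symm⟩
  have hsum : ∀ (y : MSec (M ⊞ N) W₂), y = il.val.app (op W₂) ((biprod.fst : M ⊞ N ⟶ M).val.app (op W₂) y) +
      ir.val.app (op W₂) ((biprod.snd : M ⊞ N ⟶ N).val.app (op W₂) y) := fun y =>
    congr($(congrArg (fun g : M ⊞ N ⟶ M ⊞ N => g.val.app (op W₂)) (biprod.total (X := M) (Y := N)).symm) y)
  refine (hsum _).trans (congrArg₂ (fun s t => s + t) ?_ ?_)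
  · refine (congrArg (il.val.app (op W₂)) ?_).trans (FCohLib.app_lc il _ D.e _)
    refine (app_mres hloc _ (hW₂.trans hW₁) x).trans ((FModLib.mres_mres M hW₂ hW₁ _).symm.trans ?_)
    exact (congrArg (mres M hW₂) ha).trans (FModLib.mres_lc M hW₂ _ D.e a)
  · refine (congrArg (ir.val.app (op W₂)) ?_).trans (FCohLib.app_lc ir _ E.e b)
    refine (congrArg _ (FModLib.mres_mres _ hW₂ hW₁ x).symm).trans ?_
    exact (app_mres hloc _ hW₂ (mres (M ⊞ N) hW₁ x)).trans hb

theorem isInd_biprod (hM : IsInd hloc M) (hN : IsInd hloc N) : IsInd hloc (M ⊞ N) := by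
  refine ⟨fun V hV => good_biprod hloc (hM.good V hV) (hN.good V hV), fun W x q hq => ?_⟩
  obtain ⟨G, hG, a, W₁, hW₁, y, hq₁, hy⟩ := hM.cov W ((biprod.fst : M ⊞ N ⟶ M).val.app (op W) x) q hq
  obtain ⟨H, hH, b, W₂, hW₂, z, hq₂, hz⟩ := hN.cov W₁
    ((biprod.snd : M ⊞ N ⟶ N).val.app (op W₁) (mres (M ⊞ N) hW₁ x)) q hq₁
  let m : G ⊞ H ⟶ M ⊞ N := biprod.map a b
  refine ⟨G ⊞ H, isCohF_biprod hloc hG hH, m, W₂, hW₂.trans hW₁,
    (biprod.inl : G ⟶ G ⊞ H).val.app (op W₂) (mres G hW₂ y) + (biprod.inr : H ⟶ G ⊞ H).val.app (op W₂) z, hq₂, ?_⟩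
  refine (map_add _ _ _).trans ?_
  refine (congrArg₂ (fun s t => s + t)
    ((app_comp hloc _ m (a ≫ biprod.inl) (biprod.inl_map a b) (mres G hW₂ y)).trans
      (app_comp hloc a biprod.inl _ rfl _).symm)
    ((app_comp hloc _ m (b ≫ biprod.inr) (biprod.inr_map a b) z).trans (app_comp hloc b biprod.inr _ rfl _).symm)).trans ?_
  refine Eq.trans (congrArg₂ (fun s t => s + t) (congrArg _ ?_) (congrArg _ ?_))
    (congr($(congrArg (fun g : M ⊞ N ⟶ M ⊞ N => g.val.app (op W₂)) (biprod.total (X := M) (Y := N)))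
      (mres (M ⊞ N) (hW₂.trans hW₁) x)))
  · refine (app_mres hloc a hW₂ y).trans ((congrArg (mres M hW₂) hy).trans ?_)
    exact (FModLib.mres_mres M hW₂ hW₁ _).trans (app_mres hloc _ _ x).symm
  · refine hz.trans ((app_mres hloc _ hW₂ _).symm.trans (congrArg _ ?_))
    exact FModLib.mres_mres _ hW₂ hW₁ x

/-- **Colimits of covered good modules are covered and good.** -/
theorem isInd_closed_colimits (J : Type u) [SmallCategory J] :
    (ObjectProperty.IsClosedUnderColimitsOfShape (fun M : ModF 𝔛 hloc.1 => IsInd hloc M) J) :=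
  closed_colimits _ (fun e h => isInd_of_iso hloc e h) (fun h => isInd_of_isCohF hloc (isCohF_isZero hloc h))
    (fun _ _ h h' => isInd_biprod hloc h h') (fun f h h' => isInd_cokernel hloc f h h')
    (fun hc h => isInd_colimit hloc hc h) J

end IndCohLib

end
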