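import Groth.Agent.IndCohLib.Coreflect
import Groth.Agent.FCohLib.Ideals
import Groth.Agent.FComplLib.Spf

/-!
# Ind-coherent modules on an affine formal scheme are cokernels of maps of free modules
-/

set_option autoImplicit false
set_option linter.style.haveILetI false
set_option maxHeartbeats 800000

universe u

open CategoryTheory CategoryTheory.Limits AlgebraicGeometry TopologicalSpace Opposite FSch
open FModLib (MSec RSec mres rres lc)

noncomputable section

namespace IndCohLib

variable {𝔛 : Sys.{u}} (hloc : 𝔛.IsLocNoethFormal) {M : ModF 𝔛 hloc.1}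

theorem isInd_free (α : Type u) : IsInd hloc (SheafOfModules.free (R := ModSite.ringSh (𝔛.Osh hloc.1)) α) := by
  have := isInd_closed_colimits hloc (Discrete α)
  have h : IsCohF 𝔛 hloc.1 (unitF 𝔛 hloc.1) := FCohLib.isCohF_unitF hloc.1
  exact ObjectProperty.prop_of_isColimit (fun M => IsInd hloc M) (SheafOfModules.isColimitFreeCofan α)
    fun _ => isInd_of_isCohF hloc h

/-- On an affine formal scheme global sections generate. -/
theorem exists_epi_free (hT : IsAffineOpen (⊤ : (𝔛.X 0).Opens)) (hM : IsInd hloc M) :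
    ∃ (α : Type u) (π : SheafOfModules.free (R := ModSite.ringSh (𝔛.Osh hloc.1)) α ⟶ M), Epi π := by
  let F := SheafOfModules.free (R := ModSite.ringSh (𝔛.Osh hloc.1)) (MSec M (⊤ : (𝔛.X 0).Opens))
  let π : F ⟶ M := _root_.ModSiteLib.freeLift (T := (⊤ : (𝔛.X 0).Opens)) isTerminalTop' id
  refine ⟨_, π, _root_.ModSiteLib.epi_of_loc_surjective π fun W x => ?_⟩
  refine ⟨⟨fun W' => {g : W' ⟶ W | ∃ y : MSec F W', π.val.app (op W') y = mres M g.le x},
    fun {W' W''} g hg k => ?_⟩, fun q hq => ?_, fun W' g hg => hg⟩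
  · obtain ⟨y, hy⟩ := hg
    exact ⟨mres _ k.le y, (app_mres hloc π k.le y).trans ((congrArg (mres M k.le) hy).trans
      (FModLib.mres_mres M k.le g.le x))⟩
  · obtain ⟨W', hW', k, _, f, c, hq', hc⟩ := (hM.good ⊤ hT).gen W le_top x q hq
    refine ⟨W', homOfLE hW', ⟨lc F (hW'.trans le_top)
      (fun i => _root_.ModSiteLib.freeSec (𝔛.Osh hloc.1) (⊤ : (𝔛.X 0).Opens) _ (f i)) c, ?_⟩, hq'⟩
    refine (FCohLib.app_lc π _ _ c).trans (Eq.trans ?_ hc.symm)
    exact congrArg (fun t => lc M _ t c)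
      (funext fun i => _root_.ModSiteLib.ap_freeLift (T := (⊤ : (𝔛.X 0).Opens)) isTerminalTop' id (f i))
where
  isTerminalTop' : IsTerminal (⊤ : (𝔛.X 0).Opens) := Limits.isTerminalTop

theorem exists_cokernel_free (hT : IsAffineOpen (⊤ : (𝔛.X 0).Opens)) (hM : IsInd hloc M) :
    ∃ (α β : Type u) (φ : (SheafOfModules.free α : ModF 𝔛 hloc.1) ⟶ SheafOfModules.free β),
      Nonempty (cokernel φ ≅ M) := by
  obtain ⟨β, π, hπ⟩ := exists_epi_free hloc hT hM
  obtain ⟨α, ψ, hψ⟩ := exists_epi_free hloc hT (isInd_kernel hloc π (isInd_free hloc β) hM)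
  exact ⟨α, β, ψ ≫ kernel.ι π, ⟨cokernelEpiComp ψ (kernel.ι π) ≪≫
    IsColimit.coconePointUniqueUpToIso (cokernelIsCokernel (kernel.ι π))
      (Abelian.epiIsCokernelOfKernel _ (limit.isLimit _))⟩⟩

theorem isAffineOpen_top_spf (A : Type u) [CommRing A] (I : Ideal A) :
    IsAffineOpen (⊤ : ((spf A I).X 0).Opens) := by
  have : IsAffine ((spf A I).X 0) := by
    change IsAffine (Spec _)
    infer_instance
  exact isAffineOpen_top _

theorem isInd_cokernel_free {α β : Type u}
    (φ : (SheafOfModules.free α : ModF 𝔛 hloc.1) ⟶ SheafOfModules.free β) (e : cokernel φ ≅ M) : IsInd hloc M :=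
  isInd_of_iso hloc e (isInd_cokernel hloc φ (isInd_free hloc α) (isInd_free hloc β))

end IndCohLib

end
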