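import Groth.Agent.IndCohLib.GoodVanish
import Groth.Agent.QCohLib.Bound

/-!
# Uniform bounds on the cohomology of good modules
-/

set_option autoImplicit false
set_option linter.style.haveILetI false
set_option maxHeartbeats 800000
set_option synthInstance.maxHeartbeats 80000

universe u

open CategoryTheory CategoryTheory.Limits AlgebraicGeometry TopologicalSpace Opposite FSch
open FModLib (RSec)
open QCohLib (HU)

noncomputable section

namespace IndCohLib

variable {𝔛 : Sys.{u}} (hloc : 𝔛.IsLocNoethFormal)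

/-- Above the number of affines, with affine intersections, cohomology of a union vanishes. -/
theorem subsingleton_HU_finsetSup (M : ModF 𝔛 hloc.1) (hM : AGood hloc M) {ι : Type*} (s : Finset ι)
    (U : ι → (𝔛.X 0).Opens) (hU : ∀ t : Finset ι, t.Nonempty → t ⊆ s → IsAffineOpen (t.inf U))
    (n : ℕ) (hn : s.card ≤ n) : Subsingleton (HU (tAb hloc M) n (s.sup U)) := by
  classical
  induction s using Finset.induction generalizing U n with
  | empty => rw [Finset.sup_empty]; infer_instance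
  | @insert a s ha ih =>
    rw [Finset.card_insert_of_notMem ha] at hn
    obtain ⟨m, rfl⟩ : ∃ m, n = m + 1 := ⟨n - 1, by omega⟩
    rw [Finset.sup_insert]
    have hA : IsAffineOpen (U a) := by
      have := hU {a} (Finset.singleton_nonempty a)
        (Finset.singleton_subset_iff.mpr (Finset.mem_insert_self a s))
      rwa [Finset.inf_singleton] at this
    have h1 := subsingleton_HU_good hloc (hM _ hA) m hA le_rfl
    have h2 := ih U (fun t h1 h2 => hU t h1 (h2.trans (Finset.subset_insert a s))) (m + 1) (by omega)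
    have h3 := ih (fun i => U a ⊓ U i) (fun t h1 h2 => by
      have := hU (insert a t) (Finset.insert_nonempty a t) (Finset.insert_subset_insert a h2)
      rw [Finset.inf_insert] at this
      rw [show (fun i => U a ⊓ U i) = (fun _ => U a) ⊓ U from rfl, Finset.inf_inf, Finset.inf_const h1]
      exact this) m (by omega)
    rw [← Finset.sup_inf_distrib_left] at h3
    exact QCohLib.subsingleton_sup'

/-- `S ⊓ T` has cohomology bounded independently of `T`, when `T` cuts affines in affines. -/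
def BoundedT (S : (𝔛.X 0).Opens) : Prop :=
  ∃ d : ℕ, ∀ (T : (𝔛.X 0).Opens), (∀ A : (𝔛.X 0).Opens, IsAffineOpen A → A ≤ S → IsAffineOpen (A ⊓ T)) →
    ∀ M : ModF 𝔛 hloc.1, AGood hloc M → ∀ n, d ≤ n → Subsingleton (HU (tAb hloc M) n (S ⊓ T))

theorem boundedT_of_le_affine {S V : (𝔛.X 0).Opens} (hV : IsAffineOpen V) (hSV : S ≤ V)
    (hS : IsCompact (S : Set (𝔛.X 0))) : BoundedT hloc S := by
  classical
  have hb : ∀ p : (S : Set (𝔛.X 0)), ∃ g : RSec (𝔛.Osh hloc.1) V, p.1 ∈ Dg hloc g ∧ Dg hloc g ≤ S := fun p => by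
    obtain ⟨W', g, hb, hpW', hle⟩ := FCohLib.exists_basic hloc hV (V' := S) p.2 (hSV p.2)
    have e : Dg hloc g = W' := (hb.lvl 0).symm.trans (lvU_zero hloc W')
    exact ⟨g, e.ge hpW', e.le.trans hle⟩
  choose f hpf hf using hb
  obtain ⟨t, ht⟩ := hS.elim_finite_subcover (fun p => (Dg hloc (f p) : Set (𝔛.X 0)))
    (fun p => (Dg hloc (f p)).isOpen) fun p hp => Set.mem_iUnion.mpr ⟨⟨p, hp⟩, hpf ⟨p, hp⟩⟩
  refine ⟨t.card, fun T hT M hM n hn => ?_⟩
  have e : t.sup (fun p => Dg hloc (f p) ⊓ T) = S ⊓ T := by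
    refine le_antisymm (Finset.sup_le fun p _ => inf_le_inf (hf p) le_rfl) fun p hp => ?_
    obtain ⟨i, hi, hp'⟩ := Set.mem_iUnion₂.mp (ht hp.1)
    exact Finset.le_sup (f := fun p => Dg hloc (f p) ⊓ T) hi ⟨hp', hp.2⟩
  refine e ▸ subsingleton_HU_finsetSup hloc M hM t _ (fun s hs _ => ?_) n hn
  have h : ∀ s : Finset (S : Set (𝔛.X 0)), s.Nonempty →
      ∃ g : RSec (𝔛.Osh hloc.1) V, Dg hloc g ≤ S ∧ s.inf (fun p => Dg hloc (f p) ⊓ T) = Dg hloc g ⊓ T := by
    intro s hs
    induction hs using Finset.Nonempty.cons_induction with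
    | singleton a => exact ⟨f a, hf a, Finset.inf_singleton⟩
    | cons a s ha _ ih =>
      obtain ⟨g, hgS, hg⟩ := ih
      refine ⟨f a * g, ((Dg_mul hloc _ _).trans_le inf_le_left).trans (hf a), ?_⟩
      rw [Finset.inf_cons, hg, Dg_mul]
      exact le_antisymm (le_inf (le_inf (inf_le_left.trans inf_le_left) (inf_le_right.trans inf_le_left))
        (inf_le_right.trans inf_le_right)) (le_inf (le_inf (inf_le_left.trans inf_le_left) inf_le_right)
        (le_inf (inf_le_left.trans inf_le_right) inf_le_right))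
  obtain ⟨g, hgS, hg⟩ := h s hs
  rw [hg]
  exact hT _ (basic_Dg hloc hV g).affine hgS

/-- **Compact opens have bounded cohomology.** -/
theorem boundedT_of_isCompact (S : (𝔛.X 0).Opens) (hS : IsCompact (S : Set (𝔛.X 0))) : BoundedT hloc S := by
  have := quasiSeparated hloc
  refine compact_open_induction_on S hS ⟨0, fun T _ M _ n _ => by rw [bot_inf_eq]; infer_instance⟩ ?_
  rintro S hS ⟨V, hV⟩ ⟨d, hd⟩
  obtain ⟨e, he⟩ := boundedT_of_le_affine hloc (S := S ⊓ V) hV inf_le_right
    (QuasiSeparatedSpace.inter_isCompact _ _ S.isOpen hS V.isOpen hV.isCompact)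
  refine ⟨max d e + 1, fun T hT M hM n hn => ?_⟩
  obtain ⟨m, rfl⟩ : ∃ m, n = m + 1 := ⟨n - 1, by omega⟩
  have h1 := hd T (fun A hA hle => hT A hA (hle.trans le_sup_left)) M hM (m + 1) (by omega)
  have hVT : IsAffineOpen (V ⊓ T) := hT V hV le_sup_right
  have h2 := subsingleton_HU_good hloc (hM _ hVT) m hVT le_rfl
  have h3 := he T (fun A hA hle => hT A hA ((hle.trans inf_le_left).trans le_sup_left)) M hM m (by omega)
  have h3' : Subsingleton (HU (tAb hloc M) m (S ⊓ T ⊓ (V ⊓ T))) := by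
    rwa [inf_inf_inf_comm, inf_idem]
  rw [inf_sup_right]
  exact QCohLib.subsingleton_sup'

theorem exists_bound_compact (S : (𝔛.X 0).Opens) (hS : IsCompact (S : Set (𝔛.X 0))) :
    ∃ d : ℕ, ∀ M : ModF 𝔛 hloc.1, AGood hloc M → ∀ n, d ≤ n → Subsingleton (HU (tAb hloc M) n S) := by
  obtain ⟨d, hd⟩ := boundedT_of_isCompact hloc S hS
  refine ⟨d, fun M hM n hn => ?_⟩
  have := hd ⊤ (fun A hA _ => by rwa [inf_top_eq]) M hM n hn
  rwa [inf_top_eq] at this

/-- Preimages in an affine of affines cut affines in affines. -/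
theorem isAffineOpen_inf_preimage {X Y : Scheme.{u}} (g : X ⟶ Y) {V W : Y.Opens} (hV : IsAffineOpen V)
    (hW : IsAffineOpen W) (hWV : W ≤ V) {A : X.Opens} (hA : IsAffineOpen A) (hle : A ≤ g ⁻¹ᵁ V) :
    IsAffineOpen (A ⊓ g ⁻¹ᵁ W) := by
  have : IsAffine A := hA
  have : IsAffine V := hV
  let φ : A.toScheme ⟶ V.toScheme := g.resLE V A hle
  have h : IsAffineOpen (φ ⁻¹ᵁ (V.ι ⁻¹ᵁ W)) :=
    (hW.preimage_of_isOpenImmersion V.ι (by rw [Scheme.Opens.opensRange_ι]; exact hWV)).preimage φ
  have h' := h.image_of_isOpenImmersion A.ι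
  convert h' using 1
  rw [← Scheme.Hom.comp_preimage, Scheme.Hom.resLE_comp_ι, Scheme.Hom.comp_preimage,
    Scheme.Hom.image_preimage_eq_opensRange_inf, Scheme.Opens.opensRange_ι]

end IndCohLib

end
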