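import Groth.Agent.IndCohLib.Coprod
import Groth.Agent.IndCohLib.Coreflect
import Groth.Agent.IndCohLib.ModelChange
import Groth.Agent.DerLib.KInjDerived
import Groth.Agent.FiltSectLib.Resol

/-!
# The derived category of ind-coherent modules
-/

set_option autoImplicit false
set_option linter.style.haveILetI false
set_option linter.unusedSectionVars false
set_option maxHeartbeats 1000000
set_option synthInstance.maxHeartbeats 80000

universe u

open CategoryTheory CategoryTheory.Limits AlgebraicGeometry TopologicalSpace Opposite FSch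
open Groth.Agent

noncomputable section

attribute [local instance] HasDerivedCategory.standard

namespace IndCohLib

variable {𝔛 : Sys.{u}} (hloc : 𝔛.IsLocNoethFormal)

variable [(ObjectProperty.ind.{u} fun G : ModF 𝔛 hloc.1 => IsCohF 𝔛 hloc.1 G).ContainsZero] [(ObjectProperty.ind.{u} fun G : ModF 𝔛 hloc.1 => IsCohF 𝔛 hloc.1 G).IsClosedUnderKernels] [(ObjectProperty.ind.{u} fun G : ModF 𝔛 hloc.1 => IsCohF 𝔛 hloc.1 G).IsClosedUnderCokernels]
  [(ObjectProperty.ind.{u} fun G : ModF 𝔛 hloc.1 => IsCohF 𝔛 hloc.1 G).IsClosedUnderFiniteProducts] [PreservesFiniteLimits (ObjectProperty.ind.{u} fun G : ModF 𝔛 hloc.1 => IsCohF 𝔛 hloc.1 G).ι] [PreservesFiniteColimits (ObjectProperty.ind.{u} fun G : ModF 𝔛 hloc.1 => IsCohF 𝔛 hloc.1 G).ι]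

/-- Ind-coherent modules are closed under all colimits. -/
theorem ind_closed_colimits (J : Type u) [SmallCategory J] : (ObjectProperty.ind.{u} fun G : ModF 𝔛 hloc.1 => IsCohF 𝔛 hloc.1 G).IsClosedUnderColimitsOfShape J := by
  refine ⟨fun X hX => ?_⟩
  obtain ⟨⟨pres, hp⟩⟩ := hX
  have := isInd_closed_colimits hloc J
  exact (ind_iff hloc).2 (ObjectProperty.prop_of_isColimit (fun M => IsInd hloc M) pres.isColimit
    fun j => (ind_iff hloc).1 (hp j))

/-- The category of ind-coherent modules is Grothendieck abelian. -/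
theorem isGrothendieckAbelian_ind : IsGrothendieckAbelian.{u} (ObjectProperty.ind.{u} fun G : ModF 𝔛 hloc.1 => IsCohF 𝔛 hloc.1 G).FullSubcategory := by
  haveI := ind_closed_colimits hloc
  haveI : HasColimitsOfSize.{u, u} (ObjectProperty.ind.{u} fun G : ModF 𝔛 hloc.1 => IsCohF 𝔛 hloc.1 G).FullSubcategory := ⟨fun J _ => inferInstance⟩
  haveI : PreservesColimitsOfSize.{u, u} (ObjectProperty.ind.{u} fun G : ModF 𝔛 hloc.1 => IsCohF 𝔛 hloc.1 G).ι :=
    ⟨fun {J} _ => ⟨fun {K} => preservesColimit_of_createsColimit_and_hasColimit K (ObjectProperty.ind.{u} fun G : ModF 𝔛 hloc.1 => IsCohF 𝔛 hloc.1 G).ι⟩⟩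
  haveI : ∀ (J : Type u) [SmallCategory J] [IsFiltered J], HasExactColimitsOfShape J (ObjectProperty.ind.{u} fun G : ModF 𝔛 hloc.1 => IsCohF 𝔛 hloc.1 G).FullSubcategory :=
    fun J _ _ => HasExactColimitsOfShape.domain_of_functor J (ObjectProperty.ind.{u} fun G : ModF 𝔛 hloc.1 => IsCohF 𝔛 hloc.1 G).ι
  haveI : HasFilteredColimitsOfSize.{u, u} (ObjectProperty.ind.{u} fun G : ModF 𝔛 hloc.1 => IsCohF 𝔛 hloc.1 G).FullSubcategory := ⟨fun J _ _ => inferInstance⟩
  haveI : AB5OfSize.{u, u} (ObjectProperty.ind.{u} fun G : ModF 𝔛 hloc.1 => IsCohF 𝔛 hloc.1 G).FullSubcategory := ⟨fun J _ _ => inferInstance⟩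
  obtain ⟨T, g, hg⟩ := exists_separating hloc
  haveI : HasSeparator (ObjectProperty.ind.{u} fun G : ModF 𝔛 hloc.1 => IsCohF 𝔛 hloc.1 G).FullSubcategory := ⟨⟨∐ g, (isSeparator_sigma g).2 hg⟩⟩
  exact {}

/-- `D(ind-coherent) ⥤ D(modules)` has a right adjoint. -/
theorem isLeftAdjoint_mapDerived : (ObjectProperty.ind.{u} fun G : ModF 𝔛 hloc.1 => IsCohF 𝔛 hloc.1 G).ι.mapDerivedCategory.IsLeftAdjoint := by
  haveI := isLeftAdjoint_ι hloc
  let adj := Adjunction.ofIsLeftAdjoint (ObjectProperty.ind.{u} fun G : ModF 𝔛 hloc.1 => IsCohF 𝔛 hloc.1 G).ι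
  haveI : (ObjectProperty.ind.{u} fun G : ModF 𝔛 hloc.1 => IsCohF 𝔛 hloc.1 G).ι.rightAdjoint.Additive := adj.right_adjoint_additive
  let G := (ObjectProperty.ind.{u} fun G : ModF 𝔛 hloc.1 => IsCohF 𝔛 hloc.1 G).ι.rightAdjoint.mapHomotopyCategory (ComplexShape.up ℤ) ⋙ DerivedCategory.Qh
  have hA := DerLib.KInjDerived.enoughKInj (ModF 𝔛 hloc.1)
  haveI := DerLib.KInjDerived.hasRightDerivedFunctor G hA
  let β := G.totalRightDerivedUnit DerivedCategory.Qh
    (HomotopyCategory.quasiIso (ModF 𝔛 hloc.1) (ComplexShape.up ℤ))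
  exact (DerLib.KInjDerived.derivedAdj adj _ β hA).isLeftAdjoint

theorem isInd_hMod_mapDerived (X : DerivedCategory (ObjectProperty.ind.{u} fun G : ModF 𝔛 hloc.1 => IsCohF 𝔛 hloc.1 G).FullSubcategory) (n : ℤ) :
    IsInd hloc (SiteCmp.HMod ((ObjectProperty.ind.{u} fun G : ModF 𝔛 hloc.1 => IsCohF 𝔛 hloc.1 G).ι.mapDerivedCategory.obj X) n) := by
  let X₀ := DerivedCategory.Q.objPreimage X
  let eX := DerivedCategory.Q.objObjPreimageIso X
  exact isInd_of_iso hloc (((X₀.sc n).mapHomologyIso (ObjectProperty.ind.{u} fun G : ModF 𝔛 hloc.1 => IsCohF 𝔛 hloc.1 G).ι).symm ≪≫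
      ((DerivedCategory.homologyFunctorFactors (ModF 𝔛 hloc.1) n).app
        (((ObjectProperty.ind.{u} fun G : ModF 𝔛 hloc.1 => IsCohF 𝔛 hloc.1 G).ι.mapHomologicalComplex (ComplexShape.up ℤ)).obj X₀)).symm ≪≫
      (DerivedCategory.homologyFunctor (ModF 𝔛 hloc.1) n).mapIso
        (((ObjectProperty.ind.{u} fun G : ModF 𝔛 hloc.1 => IsCohF 𝔛 hloc.1 G).ι.mapDerivedCategoryFactors.app X₀).symm ≪≫ (ObjectProperty.ind.{u} fun G : ModF 𝔛 hloc.1 => IsCohF 𝔛 hloc.1 G).ι.mapDerivedCategory.mapIso eX))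
    ((ind_iff hloc).1 (X₀.homology n).property)

/-- `D(ind-coherent) ⥤ D(modules on the target)` has a right adjoint. -/
theorem isLeftAdjoint_mapDerived_rpushD [CompactSpace (𝔛.X 0)] {𝔜 : Sys.{u}} (h𝔜 : 𝔜.IsFormal)
    [CompactSpace (𝔜.X 0)] (f : 𝔛 ⟶ 𝔜) [SiteCmp.HasRpushD (homMor f hloc.1 h𝔜)] :
    ((ObjectProperty.ind.{u} fun G : ModF 𝔛 hloc.1 => IsCohF 𝔛 hloc.1 G).ι.mapDerivedCategory ⋙ SiteCmp.RpushD (homMor f hloc.1 h𝔜)).IsLeftAdjoint := by
  let fm := homMor f hloc.1 h𝔜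
  let RF := SiteCmp.RpushD fm
  let α := (SiteCmp.pushKh fm).totalRightDerivedUnit DerivedCategory.Qh
    (HomotopyCategory.quasiIso (ModF 𝔛 hloc.1) (ComplexShape.up ℤ))
  obtain ⟨_, _⟩ := DerLib.KInjDerived.exists_isTriangulated_map (DerLib.KInjDerived.enoughKInj _) fm.push RF α
  haveI := isGrothendieckAbelian_ind hloc
  haveI := isLeftAdjoint_mapDerived hloc
  refine isLeftAdjoint_of_preservesCoproducts _ fun ι => ⟨fun {K} => ?_⟩
  let D := (ObjectProperty.ind.{u} fun G : ModF 𝔛 hloc.1 => IsCohF 𝔛 hloc.1 G).ι.mapDerivedCategory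
  let E := fun a : ι => D.obj (K.obj ⟨a⟩)
  haveI : HasCoproduct E := DerLib.KInjUse.hasCoproduct E
  haveI : HasCoproduct fun a => RF.obj (E a) := DerLib.KInjUse.hasCoproduct _
  haveI : IsIso (sigmaComparison RF E) :=
    isIso_sigmaDesc_rpushD hloc h𝔜 f E fun a i => isInd_hMod_mapDerived hloc (K.obj ⟨a⟩) i
  haveI := PreservesCoproduct.of_iso_comparison RF E
  haveI : PreservesColimit (K ⋙ D) RF :=
    preservesColimit_of_iso_diagram RF (Discrete.natIso fun _ => Iso.refl _ : Discrete.functor E ≅ K ⋙ D)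
  haveI : PreservesColimit K D := inferInstance
  exact comp_preservesColimit D RF

end IndCohLib

end
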