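import Groth.Agent.IndCohLib.SubSheaf
import Groth.Agent.IndCohLib.Coreflect

/-!
# Extensions of ind-coherent modules on a quasi-compact formal scheme
-/

set_option autoImplicit false
set_option linter.style.haveILetI false
set_option maxHeartbeats 800000

universe u

open CategoryTheory CategoryTheory.Limits AlgebraicGeometry TopologicalSpace Opposite FSch
open FModLib (MSec RSec mres rres lc)

noncomputable section

namespace IndCohLib

theorem exists_finset_affines {X : Scheme.{u}} {U : X.Opens} (hU : IsCompact (U : Set X)) :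
    ∃ F : Finset X.Opens, (∀ V ∈ F, IsAffineOpen V ∧ V ≤ U) ∧ ∀ q ∈ U, ∃ V ∈ F, q ∈ V := by
  classical
  have h : ∀ q : U, ∃ V : X.Opens, IsAffineOpen V ∧ q.1 ∈ V ∧ V ≤ U := fun q => by
    obtain ⟨V, hV, hq, hle⟩ := Opens.isBasis_iff_nbhd.mp X.isBasis_affineOpens q.2
    exact ⟨V, hV, hq, hle⟩
  choose V hV hqV hle using h
  obtain ⟨t, ht⟩ := hU.elim_finite_subcover (fun q => (V q : Set X)) (fun q => (V q).2)
    (fun q hq => Set.mem_iUnion.2 ⟨⟨q, hq⟩, hqV ⟨q, hq⟩⟩)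
  refine ⟨t.image V, fun W hW => ?_, fun q hq => ?_⟩
  · obtain ⟨q, -, rfl⟩ := Finset.mem_image.1 hW
    exact ⟨hV q, hle q⟩
  · obtain ⟨p, hp, hqp⟩ := Set.mem_iUnion₂.1 (ht hq)
    exact ⟨V p, Finset.mem_image_of_mem V hp, hqp⟩

variable {𝔛 : Sys.{u}} (hloc : 𝔛.IsLocNoethFormal) {M N : ModF 𝔛 hloc.1}

/-- Finitely many sections over quasi-compact opens lie in the image of one coherent module. -/
theorem exists_coh_stage (hM : IsInd hloc M) {τ : Type u} [Finite τ] (U : τ → (𝔛.X 0).Opens)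
    (hU : ∀ t, IsCompact (U t : Set (𝔛.X 0))) (x : ∀ t, MSec M (U t)) :
    ∃ (A : ModF 𝔛 hloc.1) (_ : IsCohF 𝔛 hloc.1 A) (a : A ⟶ M),
      ∀ t, ∃ y : MSec A (U t), a.val.app (op (U t)) y = x t := by
  classical
  have := Fintype.ofFinite τ
  obtain ⟨J, _, _, pres, hp, -⟩ := exists_presentation_mono hloc hM
  choose s y hy using fun t => stage_section hloc pres.isColimit (hU t) (x t)
  obtain ⟨j, hj⟩ := IsFiltered.sup_objs_exists (Finset.univ.image s)
  refine ⟨pres.diag.obj j, hp j, pres.ι.app j, fun t => ?_⟩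
  let f : s t ⟶ j := (hj (Finset.mem_image_of_mem s (Finset.mem_univ t))).some
  exact ⟨(pres.diag.map f).val.app (op (U t)) (y t),
    (app_comp hloc (pres.diag.map f) (pres.ι.app j) (pres.ι.app (s t)) (pres.w f) (y t)).trans (hy t)⟩

/-- **Extensions of ind-coherent modules are ind-coherent.** -/
theorem isInd_extension [CompactSpace (𝔛.X 0)] (θ : M ⟶ N) [Epi θ] (hK : IsInd hloc (kernel θ))
    (hN : IsInd hloc N) : IsInd hloc M := by
  classical
  have hgood : ∀ V : (𝔛.X 0).Opens, IsAffineOpen V → Good hloc M V := fun V hV =>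
    good_extension hloc θ (hK.good V hV) (hN.good V hV)
  refine ⟨hgood, fun W x q hq => ?_⟩
  obtain ⟨G₀, hG₀, g, W', hW', y, hq', hy⟩ := hN.cov W (θ.val.app (op W) x) q hq
  obtain ⟨F₀, hF₀, hcov⟩ := exists_finset_affines (X := 𝔛.X 0) (U := ⊤) isCompact_univ
  let V : F₀ → (𝔛.X 0).Opens := fun a => a.1
  have hV : ∀ a, IsAffineOpen (V a) := fun a => (hF₀ a.1 a.2).1
  choose ι κ₀ hι hκ₀ hD using fun a => FCohLib.exists_presOn hloc hG₀ (hV a)
  let D := fun a => (hD a).some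
  choose b hb using fun (a : F₀) (i : ι a) =>
    exists_lift_sec hloc θ (hK.good _ (hV a)) (g.val.app (op (V a)) ((D a).e i))
  have hlift : ∀ (a : F₀) (U : (𝔛.X 0).Opens) (hU : U ≤ V a) (z : MSec M U) (c : ι a → RSec (𝔛.Osh hloc.1) U),
      θ.val.app (op U) z = g.val.app (op U) (@lc _ _ _ (hι a) G₀ _ _ hU (D a).e c) →
      ∃ k : MSec (kernel θ) U, (kernel.ι θ).val.app (op U) k = z - @lc _ _ _ (hι a) M _ _ hU (b a) c :=
    fun a U hU z c hz => by
      letI := hι a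
      refine _root_.ModSiteLib.exists_kernel_section θ U _ ((map_sub _ _ _).trans (sub_eq_zero.2 (hz.trans ?_)))
      exact (FCohLib.app_lc g hU _ c).trans ((congrArg (fun t => lc N hU t c) (funext (hb a)).symm).trans
        (FCohLib.app_lc θ hU _ c).symm)
  obtain ⟨a₀, ha₀, hqa₀⟩ := hcov q trivial
  obtain ⟨W₁, hW₁, hq₁, hle₁⟩ := Opens.isBasis_iff_nbhd.mp (𝔛.X 0).isBasis_affineOpens
    (U := W' ⊓ V ⟨a₀, ha₀⟩) (x := q) ⟨hq', hqa₀⟩
  let a₁ : F₀ := ⟨a₀, ha₀⟩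
  obtain ⟨c₁, hc₁⟩ := @FCohLib.exists_comb _ hloc _ hG₀ _ _ _ _ (hι a₁) (hκ₀ a₁) (D a₁) hW₁
    (hle₁.trans inf_le_right) (mres G₀ (hle₁.trans inf_le_left) y)
  obtain ⟨k₁, hk₁⟩ := hlift a₁ W₁ (hle₁.trans inf_le_right) (mres M ((hle₁.trans inf_le_left).trans hW') x) c₁ (by
    rw [hc₁]
    refine (app_mres hloc θ _ x).trans ?_
    refine (FModLib.mres_mres N (hle₁.trans inf_le_left) hW' _).symm.trans ?_
    exact (congrArg (mres N _) hy).symm.trans (app_mres hloc g _ y).symm)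
  have hpair : ∀ a a' : F₀, IsCompact ((V a ⊓ V a' : (𝔛.X 0).Opens) : Set (𝔛.X 0)) := fun a a' => by
    have := quasiSeparated hloc
    exact CohTopLib.ColimCoh.qs_inf _ _ (hV a).isCompact (hV a').isCompact
  choose F hF hFcov using fun a a' => exists_finset_affines (X := 𝔛.X 0) (hpair a a')
  let T : Type u := Σ p : F₀ × F₀, (F p.1 p.2 : Finset _) × ι p.2
  haveI : ∀ a, Finite (ι a) := fun a => @Finite.of_fintype _ (hι a)
  have hcomb : ∀ t : T, ∃ c : ι t.1.1 → RSec (𝔛.Osh hloc.1) t.2.1.1,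
      @lc _ _ _ (hι t.1.1) G₀ _ _ ((hF _ _ t.2.1.1 t.2.1.2).2.trans inf_le_left) (D t.1.1).e c =
        mres G₀ ((hF _ _ t.2.1.1 t.2.1.2).2.trans inf_le_right) ((D t.1.2).e t.2.2) := fun t =>
    @FCohLib.exists_comb _ hloc _ hG₀ _ _ _ _ (hι t.1.1) (hκ₀ t.1.1) (D t.1.1) (hF _ _ t.2.1.1 t.2.1.2).1 _ _
  choose c hc using hcomb
  have hker : ∀ t : T, ∃ k : MSec (kernel θ) t.2.1.1, (kernel.ι θ).val.app (op t.2.1.1) k =
      mres M ((hF _ _ t.2.1.1 t.2.1.2).2.trans inf_le_right) (b t.1.2 t.2.2) -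
        @lc _ _ _ (hι t.1.1) M _ _ ((hF _ _ t.2.1.1 t.2.1.2).2.trans inf_le_left) (b t.1.1) (c t) := fun t => by
    refine hlift _ _ _ _ _ ?_
    rw [hc t]
    exact (app_mres hloc θ _ _).trans ((congrArg (mres N _) (hb _ _)).trans (app_mres hloc g _ _).symm)
  choose k hk using hker
  let U : Option T → (𝔛.X 0).Opens := fun o => o.elim W₁ fun t => t.2.1.1
  let ks : ∀ o, MSec (kernel θ) (U o) := fun o => match o with
    | none => k₁
    | some t => k t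
  obtain ⟨A, hA, j, hj⟩ := exists_coh_stage hloc hK U (fun o => match o with
    | none => hW₁.isCompact
    | some t => (hF _ _ t.2.1.1 t.2.1.2).1.isCompact) ks
  let jM : A ⟶ M := j ≫ kernel.ι θ
  choose ν κA hν hκA hE using fun a => FCohLib.exists_presOn hloc hA (hV a)
  let E := fun a => (hE a).some
  letI : ∀ a, Fintype (ι a) := hι
  letI : ∀ a, Fintype (ν a) := hν
  let s : ∀ a, (ι a ⊕ ν a) → MSec M (V a) := fun a => Sum.elim (b a) fun i => jM.val.app (op (V a)) ((E a).e i)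
  have hjM : ∀ (a : F₀) (U : (𝔛.X 0).Opens) (z : MSec A U), LocGen M V (fun a => ι a ⊕ ν a) s U (jM.val.app (op U) z) :=
    fun _ U z a p hp hpa => by
      letI := hκA a
      obtain ⟨U₂, hU₂, e, hp₂, he⟩ := (E a).pres.gen (U ⊓ V a) inf_le_right (mres A inf_le_left z) p ⟨hp, hpa⟩
      refine ⟨U₂, hU₂.trans inf_le_left, hU₂.trans inf_le_right, Sum.elim 0 e, hp₂, ?_⟩
      refine Eq.trans ?_ (lc_sumType M _ (s a) (Sum.elim 0 e)).symm
      refine Eq.trans ?_ (congrArg₂ (fun u v => u + v) (lc_eq_zero M _ (b a))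
        (FCohLib.app_lc jM (hU₂.trans inf_le_right) (E a).e e).symm).symm
      refine Eq.trans ?_ (zero_add _).symm
      refine ((app_mres hloc jM _ z).symm.trans ?_)
      exact congrArg _ ((FModLib.mres_mres A hU₂ inf_le_left z).symm.trans he)
  have hb' : ∀ (a : F₀) (U : (𝔛.X 0).Opens) (hU : U ≤ V a) (z : MSec M U) (e : ι a → RSec (𝔛.Osh hloc.1) U)
      (w : MSec A U), z = lc M hU (b a) e + jM.val.app (op U) w → ∀ p ∈ U,
      ∃ (U' : (𝔛.X 0).Opens) (h : U' ≤ U) (e' : ι a ⊕ ν a → RSec (𝔛.Osh hloc.1) U'), p ∈ U' ∧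
        mres M h z = lc M (h.trans hU) (s a) e' := fun a U hU z e w hz p hp => by
    obtain ⟨U', h, h', e', hp', he'⟩ := hjM a U w a p hp (hU hp)
    refine ⟨U', h, Sum.elim (fun i => rres _ h (e i)) 0 + e', hp', ?_⟩
    refine (congrArg (mres M h) hz).trans ((map_add _ _ _).trans (Eq.trans ?_ (FModLib.lc_add M _ (s a) _ _).symm))
    refine congrArg₂ (fun u v => u + v) ?_ he'
    refine (FModLib.mres_lc M h hU (b a) e).trans ((add_zero _).symm.trans ?_)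
    refine Eq.trans ?_ (lc_sumType M _ (s a) _).symm
    exact congrArg₂ (fun u v => u + v) rfl (lc_eq_zero M _ _).symm
  have H : ∀ a i, LocGen M V (fun a => ι a ⊕ ν a) s (V a) (s a i) := by
    rintro a' (i | i)
    · intro a p hp hpa
      obtain ⟨U₁, hU₁, hp₁⟩ := hFcov a a' p ⟨hpa, hp⟩
      let t : T := ⟨(a, a'), ⟨U₁, hU₁⟩, i⟩
      obtain ⟨w, hw⟩ := hj (some t)
      obtain ⟨U', h, e', hp', he'⟩ := hb' a U₁ ((hF _ _ U₁ hU₁).2.trans inf_le_left)
        (mres M ((hF _ _ U₁ hU₁).2.trans inf_le_right) (b a' i)) (c t) w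
        ((sub_add_cancel _ _).symm.trans ((add_comm _ _).trans (congrArg₂ (fun u v => u + v) rfl
          ((hk t).symm.trans ((congrArg ((kernel.ι θ).val.app (op U₁)) hw.symm).trans (app_comp hloc j _ jM rfl w)))))) p hp₁
      exact ⟨U', h.trans ((hF _ _ U₁ hU₁).2.trans inf_le_right), _, e', hp',
        (FModLib.mres_mres M h _ _).symm.trans he'⟩
    · exact hjM a' _ _
  obtain ⟨G, hG, φ, hφ⟩ := exists_coh_sub hloc V hV
    (fun p => (hcov p trivial).elim fun a ha => ⟨⟨a, ha.1⟩, ha.2⟩) hgood _ s H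
  choose sy hsy using hφ
  obtain ⟨w, hw⟩ := hj none
  obtain ⟨U', h, e', hp', he'⟩ := hb' a₁ W₁ (hle₁.trans inf_le_right) _ c₁ w
    ((sub_add_cancel _ _).symm.trans ((add_comm _ _).trans (congrArg₂ (fun u v => u + v) rfl
      (hk₁.symm.trans ((congrArg ((kernel.ι θ).val.app (op W₁)) hw.symm).trans (app_comp hloc j _ jM rfl w)))))) q hq₁
  refine ⟨G, hG, φ, U', h.trans ((hle₁.trans inf_le_left).trans hW'), lc G (h.trans (hle₁.trans inf_le_right)) (sy a₁) e',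
    hp', ?_⟩
  refine (FCohLib.app_lc φ _ _ e').trans ((congrArg (fun t => lc M _ t e') (funext (hsy a₁))).trans ?_)
  exact he'.symm.trans (FModLib.mres_mres M h _ x)

/-- **The middle of an exact five term sequence of ind-coherent modules is ind-coherent.** -/
theorem isInd_five [CompactSpace (𝔛.X 0)] {M₀ M₁ M₂ M₃ M₄ : ModF 𝔛 hloc.1} (g₀ : M₀ ⟶ M₁) (g₁ : M₁ ⟶ M₂)
    (g₂ : M₂ ⟶ M₃) (g₃ : M₃ ⟶ M₄) (w₁ : g₀ ≫ g₁ = 0) (w₂ : g₁ ≫ g₂ = 0) (w₃ : g₂ ≫ g₃ = 0)
    (e₁ : (ShortComplex.mk g₀ g₁ w₁).Exact) (e₂ : (ShortComplex.mk g₁ g₂ w₂).Exact)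
    (e₃ : (ShortComplex.mk g₂ g₃ w₃).Exact) (h0 : IsInd hloc M₀) (h1 : IsInd hloc M₁) (h3 : IsInd hloc M₃)
    (h4 : IsInd hloc M₄) : IsInd hloc M₂ := by
  obtain ⟨i⟩ := nonempty_cokernel_iso_kernel g₀ g₁ g₂ w₁ w₂ e₁ e₂
  obtain ⟨q, hq, ⟨j⟩⟩ := exists_epi_kernel_iso g₂ g₃ w₃ e₃
  exact isInd_extension hloc q (isInd_of_iso hloc (i ≪≫ j) (isInd_cokernel hloc g₀ h0 h1))
    (isInd_kernel hloc g₃ h3 h4)

end IndCohLib

end
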