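import Groth.Agent.IndCohLib.Split
import Groth.Agent.FCohLib.QcohFT

/-!
# Modules generated and related by sections over affine opens of a formal scheme
-/

set_option autoImplicit false
set_option linter.style.haveILetI false
set_option maxHeartbeats 800000

universe u

open CategoryTheory CategoryTheory.Limits AlgebraicGeometry TopologicalSpace Opposite FSch
open FModLib (MSec RSec mres rres lc)

noncomputable section

namespace IndCohLib

section Lin

variable {X : TopCat.{u}} {O : Sheaf (Opens.grothendieckTopology X) CommRingCat.{u}} (M : ModSite.Mod O)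
  {n : Type u} [Fintype n] {U V W : Opens X}

theorem lc_mres (h : W ≤ V) (h' : V ≤ U) (e : n → MSec M U) (c : n → RSec O W) :
    lc M h (fun i => mres M h' (e i)) c = lc M (h.trans h') e c :=
  Finset.sum_congr rfl fun i _ => congrArg (fun z => c i • z) (FModLib.mres_mres M h h' (e i))

theorem lc_sub (h : W ≤ V) (e : n → MSec M V) (b b' : n → RSec O W) :
    lc M h e (b - b') = lc M h e b - lc M h e b' :=
  (Finset.sum_congr rfl fun i _ => sub_smul (b i) (b' i) (mres M h (e i))).trans (Finset.sum_sub_distrib _ _)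

theorem lc_sumType {m : Type u} [Fintype m] (h : W ≤ V) (e : n ⊕ m → MSec M V) (c : n ⊕ m → RSec O W) :
    lc M h e c = lc M h (e ∘ Sum.inl) (c ∘ Sum.inl) + lc M h (e ∘ Sum.inr) (c ∘ Sum.inr) :=
  Fintype.sum_sum_type fun i => (c i • mres M h (e i) : MSec M W)

theorem lc_eq_zero (h : W ≤ V) (e : n → MSec M V) : lc M h e (0 : n → RSec O W) = 0 :=
  Finset.sum_eq_zero fun i _ => zero_smul _ (mres M h (e i))

theorem mres_self (x : MSec M V) : mres M (le_refl V) x = x :=
  congr($((congrArg M.val.presheaf.map (Subsingleton.elim (homOfLE (le_refl V)).op (𝟙 (op V)))).trans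
    (M.val.presheaf.map_id _)) x)

theorem rres_self (x : RSec O V) : rres O (le_refl V) x = x :=
  congr($((congrArg O.obj.map (Subsingleton.elim (homOfLE (le_refl V)).op (𝟙 (op V)))).trans (O.obj.map_id _)) x)

theorem eq_of_pair {U Da Db : Opens X} (ha : Da ≤ U) (hb : Db ≤ U) (hU : U ≤ Da ⊔ Db) {x y : MSec M U}
    (h₁ : mres M ha x = mres M ha y) (h₂ : mres M hb x = mres M hb y) : x = y := by
  refine sub_eq_zero.1 (FCohLib.eq_zero_of_points M _ fun p hp => ?_)
  rcases hU hp with h | h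
  · exact ⟨Da, ha, h, (map_sub _ _ _).trans (sub_eq_zero.2 h₁)⟩
  · exact ⟨Db, hb, h, (map_sub _ _ _).trans (sub_eq_zero.2 h₂)⟩

theorem exists_glue_pair {U Da Db : Opens X} (ha : Da ≤ U) (hb : Db ≤ U) (hU : U ≤ Da ⊔ Db) (A : RSec O Da)
    (B : RSec O Db) (h : rres O (inf_le_left : Da ⊓ Db ≤ Da) A = rres O (inf_le_right : Da ⊓ Db ≤ Db) B) :
    ∃ C : RSec O U, rres O ha C = A ∧ rres O hb C = B := by
  let Ui : ULift.{u} Bool → Opens X := fun i => bif i.down then Da else Db
  let sf : ∀ i, RSec O (Ui i) := fun i => match i with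
    | ⟨true⟩ => A
    | ⟨false⟩ => B
  obtain ⟨C, hC, -⟩ := TopCat.Sheaf.existsUnique_gluing' (O : TopCat.Sheaf CommRingCat X) Ui U
    (fun i => homOfLE (by rcases i with ⟨_ | _⟩ <;> [exact hb; exact ha]))
    (fun p hp => (hU hp).elim (fun h => Opens.mem_iSup.mpr ⟨⟨true⟩, h⟩) fun h => Opens.mem_iSup.mpr ⟨⟨false⟩, h⟩)
    sf (fun i j => by
      rcases i with ⟨_ | _⟩ <;> rcases j with ⟨_ | _⟩
      · rfl
      · have h' := congrArg (rres O (show Db ⊓ Da ≤ Da ⊓ Db from le_inf inf_le_right inf_le_left)) h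
        exact ((FModLib.rres_rres _ inf_le_left A).symm.trans (h'.trans (FModLib.rres_rres _ inf_le_right B))).symm
      · exact h
      · rfl)
  exact ⟨C, hC ⟨true⟩, hC ⟨false⟩⟩

variable {σ : Type u}

/-- Sections locally generate below an open. -/
def GenBy (V : Opens X) (s : σ → MSec M V) : Prop :=
  ∀ (W : Opens X) (hW : W ≤ V) (x : MSec M W), ∀ q ∈ W, ∃ (W' : Opens X) (hW' : W' ≤ W) (k : Type u)
    (_ : Fintype k) (φ : k → σ) (c : k → RSec O W'), q ∈ W' ∧ mres M hW' x = lc M (hW'.trans hW) (s ∘ φ) c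

/-- Local relations are combinations of global ones. -/
def RelBy (V : Opens X) (s : σ → MSec M V) : Prop :=
  ∀ (k : Type u) [Fintype k] (φ : k → σ) (W : Opens X) (hW : W ≤ V) (c : k → RSec O W),
    lc M hW (s ∘ φ) c = 0 → ∀ q ∈ W, ∃ (W' : Opens X) (hW' : W' ≤ W) (Z : Finset (k → RSec O V))
      (d : (k → RSec O V) → RSec O W'), q ∈ W' ∧ (∀ z ∈ Z, lc M le_rfl (s ∘ φ) z = 0) ∧
        ∀ i, rres O hW' (c i) = ∑ z ∈ Z, d z * rres O (hW'.trans hW) (z i)

variable {M}

theorem GenBy.res {s : σ → MSec M V} (hg : GenBy M V s) (hWV : W ≤ V) : GenBy M W fun j => mres M hWV (s j) := by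
  intro W₀ hW₀ x q hq
  obtain ⟨W', hW', k, _, φ, c, hq', hc⟩ := hg W₀ (hW₀.trans hWV) x q hq
  exact ⟨W', hW', k, inferInstance, φ, c, hq', hc.trans (lc_mres M _ hWV (s ∘ φ) c).symm⟩

theorem RelBy.res {s : σ → MSec M V} (hr : RelBy M V s) (hWV : W ≤ V) : RelBy M W fun j => mres M hWV (s j) := by
  classical
  intro k _ φ W₀ hW₀ c hc q hq
  obtain ⟨W', hW', Z, d, hq', hZ, hd⟩ := hr k φ W₀ (hW₀.trans hWV) c ((lc_mres M hW₀ hWV (s ∘ φ) c).symm.trans hc) q hq
  let ρ : (k → RSec O V) → k → RSec O W := fun z i => rres O hWV (z i)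
  refine ⟨W', hW', Z.image ρ, fun z' => ∑ z ∈ Z.filter (fun z => ρ z = z'), d z, hq', fun z' hz' => ?_, fun i => ?_⟩
  · obtain ⟨z, hz, rfl⟩ := Finset.mem_image.1 hz'
    refine (lc_mres M le_rfl hWV (s ∘ φ) (ρ z)).trans ?_
    exact (FModLib.mres_lc M hWV le_rfl (s ∘ φ) z).symm.trans ((congrArg (mres M hWV) (hZ z hz)).trans (map_zero _))
  · refine (hd i).trans ?_
    rw [← Finset.sum_fiberwise_of_maps_to (g := ρ) (fun z hz => Finset.mem_image_of_mem ρ hz)]
    refine Finset.sum_congr rfl fun z' _ => ?_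
    rw [Finset.sum_mul]
    refine Finset.sum_congr rfl fun z hz => congrArg (fun e => d z * e) ?_
    rw [← (Finset.mem_filter.1 hz).2]
    exact (FModLib.rres_rres (hW'.trans hW₀) hWV (z i)).symm

end Lin

variable {𝔛 : Sys.{u}} (hloc : 𝔛.IsLocNoethFormal) {M : ModF 𝔛 hloc.1} {σ : Type u} {U V : (𝔛.X 0).Opens}
  {s : σ → MSec M V}

/-- Generated and related by its sections over an affine open. -/
structure Good (M : ModF 𝔛 hloc.1) (V : (𝔛.X 0).Opens) : Prop where
  affine : IsAffineOpen V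
  gen : GenBy M V (id : MSec M V → MSec M V)
  rel : RelBy M V (id : MSec M V → MSec M V)

theorem relation_on_affine (hr : RelBy M V s) {W : (𝔛.X 0).Opens} (hW : IsAffineOpen W) (hWV : W ≤ V) {k : Type u}
    [Fintype k] (φ : k → σ) (c : k → RSec (𝔛.Osh hloc.1) W) (hc : lc M hWV (s ∘ φ) c = 0) :
    ∃ (Z : Finset (k → RSec (𝔛.Osh hloc.1) V)) (d : Z → RSec (𝔛.Osh hloc.1) W),
      (∀ z ∈ Z, lc M le_rfl (s ∘ φ) z = 0) ∧ ∀ i, c i = ∑ z : Z, d z * rres (𝔛.Osh hloc.1) hWV (z.1 i) := by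
  classical
  let O := 𝔛.Osh hloc.1
  let rels : Set (k → RSec O V) := {z | lc M le_rfl (s ∘ φ) z = 0}
  obtain ⟨F, hF⟩ := FCohLib.exists_finset_cover (α := rels) hW.isCompact (fun W' hW' F =>
      ∃ d : rels → RSec O W', ∀ i, rres O hW' (c i) = ∑ z ∈ F, d z * rres O (hW'.trans hWV) (z.1 i)) fun q hq => by
    obtain ⟨W', hW', Z, d, hq', hZ, hd⟩ := hr k φ W hWV c hc q hq
    exact ⟨W', hW', Z.attach.image fun z => ⟨z.1, hZ z.1 z.2⟩, hq', fun z => d z.1, fun i => by
      rw [hd i, Finset.sum_image (fun a _ b _ e => Subtype.ext (Subtype.mk.inj e))]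
      exact (Finset.sum_attach Z fun z => d z * rres O (hW'.trans hWV) (z i)).symm⟩
  let Z : Finset (k → RSec O V) := F.image Subtype.val
  obtain ⟨d, hd⟩ := FCohLib.exists_comb_of_local_real hloc hW (fun (z : Z) i => rres O hWV (z.1 i)) c fun q hq => by
    obtain ⟨W', hW', F', hq', hF', d, hd⟩ := hF q hq
    refine ⟨W', hW', fun z => if h : ∃ y ∈ F', (y : rels).1 = z.1 then d h.choose else 0, hq', fun i => ?_⟩
    refine (hd i).trans (Eq.symm ?_)
    refine (Finset.sum_coe_sort Z fun z => (if h : ∃ y ∈ F', (y : rels).1 = z then d h.choose else 0) *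
      rres O hW' (rres O hWV (z i))).trans ?_
    rw [Finset.sum_image (fun a _ b _ e => Subtype.ext e)]
    refine (Finset.sum_subset hF' fun y _ hy => ?_).symm.trans (Finset.sum_congr rfl fun y hy => ?_)
    · rw [dif_neg, zero_mul]
      rintro ⟨y', hy', e⟩
      exact hy (Subtype.ext e ▸ hy')
    · have h : ∃ y' ∈ F', (y' : rels).1 = y.1 := ⟨y, hy, rfl⟩
      rw [dif_pos h, show h.choose = y from Subtype.ext h.choose_spec.2]
      exact congrArg (fun e => d y * e) (FModLib.rres_rres hW' hWV (y.1 i))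
  refine ⟨Z, d, fun z hz => ?_, hd⟩
  obtain ⟨y, -, rfl⟩ := Finset.mem_image.1 hz
  exact y.2

/-- Being a global combination of the sections. -/
def IsComb (s : σ → MSec M V) (U : (𝔛.X 0).Opens) (hU : U ≤ V) (x : MSec M U) : Prop :=
  ∃ (k : Type u) (_ : Fintype k) (φ : k → σ) (c : k → RSec (𝔛.Osh hloc.1) U), x = lc M hU (s ∘ φ) c

theorem isComb_glue (hr : RelBy M V s) (hU : IsAffineOpen U) (hUV : U ≤ V) (a b : RSec (𝔛.Osh hloc.1) U)
    (hab : U ≤ Dg hloc a ⊔ Dg hloc b) (x : MSec M U)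
    (ha : IsComb hloc s (Dg hloc a) ((Dg_le hloc a).trans hUV) (mres M (Dg_le hloc a) x))
    (hb : IsComb hloc s (Dg hloc b) ((Dg_le hloc b).trans hUV) (mres M (Dg_le hloc b) x)) :
    IsComb hloc s U hUV x := by
  classical
  obtain ⟨ka, _, φa, ca, hca⟩ := ha
  obtain ⟨kb, _, φb, cb, hcb⟩ := hb
  let O := 𝔛.Osh hloc.1
  let φ := Sum.elim φa φb
  let Ba : ka ⊕ kb → RSec O (Dg hloc a) := Sum.elim ca 0
  let Bb : ka ⊕ kb → RSec O (Dg hloc b) := Sum.elim 0 cb
  let la := (Dg_le hloc a).trans hUV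
  let lb := (Dg_le hloc b).trans hUV
  have hBa : lc M la (s ∘ φ) Ba = mres M (Dg_le hloc a) x :=
    (lc_sumType M la (s ∘ φ) Ba).trans ((congrArg₂ (fun p q => p + q) hca.symm (lc_eq_zero M la _)).trans (add_zero _))
  have hBb : lc M lb (s ∘ φ) Bb = mres M (Dg_le hloc b) x :=
    (lc_sumType M lb (s ∘ φ) Bb).trans ((congrArg₂ (fun p q => p + q) (lc_eq_zero M lb _) hcb.symm).trans (zero_add _))
  let D := Dg hloc a ⊓ Dg hloc b
  have hD : IsAffineOpen (Dg hloc a ⊓ Dg hloc b) := Dg_mul hloc a b ▸ (basic_Dg hloc hU (a * b)).affine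
  let hDV : D ≤ V := inf_le_left.trans la
  let e : ka ⊕ kb → RSec O D := (fun i => rres O inf_le_left (Ba i)) - fun i => rres O inf_le_right (Bb i)
  have he : lc M hDV (s ∘ φ) e = 0 := by
    refine (lc_sub M hDV (s ∘ φ) _ _).trans (sub_eq_zero.2 ?_)
    refine (FModLib.mres_lc M inf_le_left la (s ∘ φ) Ba).symm.trans ?_
    refine ((congrArg (mres M inf_le_left) hBa).trans ?_).trans (FModLib.mres_lc M inf_le_right lb (s ∘ φ) Bb)
    exact (FModLib.mres_mres M inf_le_left _ x).trans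
      ((FModLib.mres_mres M inf_le_right _ x).symm.trans (congrArg (mres M inf_le_right) hBb.symm))
  obtain ⟨Z, d, hZ, hd⟩ := relation_on_affine hloc hr hD hDV φ e he
  choose A B hAB using fun z : Z => exists_split hloc hU a b hab (d z)
  let Ba' : ka ⊕ kb → RSec O (Dg hloc a) := fun i => Ba i - ∑ z : Z, A z * rres O la (z.1 i)
  let Bb' : ka ⊕ kb → RSec O (Dg hloc b) := fun i => Bb i - ∑ z : Z, B z * rres O lb (z.1 i)
  have hagree : ∀ i, rres O (inf_le_left : D ≤ _) (Ba' i) = rres O (inf_le_right : D ≤ _) (Bb' i) := fun i => by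
    let ρa : RSec O (Dg hloc a) →+* RSec O D := (O.obj.map (homOfLE inf_le_left).op).hom
    let ρb : RSec O (Dg hloc b) →+* RSec O D := (O.obj.map (homOfLE inf_le_right).op).hom
    show ρa (Ba i - ∑ z : Z, A z * rres O la (z.1 i)) = ρb (Bb i - ∑ z : Z, B z * rres O lb (z.1 i))
    have h1 : ρa (Ba i) - ρb (Bb i) = ∑ z : Z, (ρa (A z) - ρb (B z)) * rres O hDV (z.1 i) :=
      (hd i).trans (Finset.sum_congr rfl fun z _ => congrArg (fun t => t * rres O hDV (z.1 i)) (hAB z).symm)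
    have ha' : ∀ z : Z, ρa (A z * rres O la (z.1 i)) = ρa (A z) * rres O hDV (z.1 i) := fun z =>
      (map_mul ρa _ _).trans (congrArg (fun t => ρa (A z) * t) (FModLib.rres_rres inf_le_left la (z.1 i)))
    have hb' : ∀ z : Z, ρb (B z * rres O lb (z.1 i)) = ρb (B z) * rres O hDV (z.1 i) := fun z =>
      (map_mul ρb _ _).trans (congrArg (fun t => ρb (B z) * t) (FModLib.rres_rres inf_le_right lb (z.1 i)))
    rw [map_sub, map_sub, map_sum, map_sum, Finset.sum_congr rfl fun z _ => ha' z,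
      Finset.sum_congr rfl fun z _ => hb' z, sub_eq_sub_iff_sub_eq_sub, h1, ← Finset.sum_sub_distrib]
    exact Finset.sum_congr rfl fun z _ => sub_mul _ _ _
  choose C hCa hCb using fun i => exists_glue_pair (Dg_le hloc a) (Dg_le hloc b) hab (Ba' i) (Bb' i) (hagree i)
  refine ⟨ka ⊕ kb, inferInstance, φ, C, eq_of_pair M (Dg_le hloc a) (Dg_le hloc b) hab ?_ ?_⟩
  · refine hBa.symm.trans (Eq.symm ?_)
    refine (FModLib.mres_lc M (Dg_le hloc a) hUV (s ∘ φ) C).trans ?_
    rw [show (fun i => rres O (Dg_le hloc a) (C i)) = Ba - fun i => ∑ z : Z, A z * rres O la (z.1 i) from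
      funext hCa]
    refine (lc_sub M la (s ∘ φ) Ba _).trans (sub_eq_self.2 ?_)
    refine (FCohLib.lc_sum M la A (fun z : Z => z.1) (s ∘ φ)).trans ?_
    exact Finset.sum_eq_zero fun z _ => (congrArg (fun t => A z • t) ((congrArg (mres M la) (hZ z.1 z.2)).trans
      (map_zero _))).trans (smul_zero _)
  · refine hBb.symm.trans (Eq.symm ?_)
    refine (FModLib.mres_lc M (Dg_le hloc b) hUV (s ∘ φ) C).trans ?_
    rw [show (fun i => rres O (Dg_le hloc b) (C i)) = Bb - fun i => ∑ z : Z, B z * rres O lb (z.1 i) from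
      funext hCb]
    refine (lc_sub M lb (s ∘ φ) Bb _).trans (sub_eq_self.2 ?_)
    refine (FCohLib.lc_sum M lb B (fun z : Z => z.1) (s ∘ φ)).trans ?_
    exact Finset.sum_eq_zero fun z _ => (congrArg (fun t => B z • t) ((congrArg (mres M lb) (hZ z.1 z.2)).trans
      (map_zero _))).trans (smul_zero _)

/-- **Over an affine open every section is a combination of generating sections.** -/
theorem exists_comb_sec (hg : GenBy M V s) (hr : RelBy M V s) (hU : IsAffineOpen U) (hUV : U ≤ V) (x : MSec M U) :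
    IsComb hloc s U hUV x := by
  suffices h : ∃ hle : U ≤ U, IsComb hloc s U (hle.trans hUV) (mres M hle x) by
    obtain ⟨_, h'⟩ := h
    rwa [mres_self] at h'
  refine affine_induction hloc hU (fun W => ∃ hle : W ≤ U, IsComb hloc s W (hle.trans hUV) (mres M hle x)) ?_ ?_ ?_ ?_
  · refine ⟨bot_le, PEmpty.{u+1}, inferInstance, PEmpty.elim, PEmpty.elim, ?_⟩
    exact sub_eq_zero.1 (FCohLib.eq_zero_of_points M _ fun p hp => absurd hp id)
  · rintro W W' hWW ⟨hle, k, _, φ, c, hc⟩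
    refine ⟨hWW.trans hle, k, inferInstance, φ, fun i => rres _ hWW (c i), ?_⟩
    refine (FModLib.mres_mres M hWW hle x).symm.trans ((congrArg (mres M hWW) hc).trans ?_)
    exact FModLib.mres_lc M hWW _ _ c
  · intro p hp
    obtain ⟨W, hW, k, _, φ, c, hpW, hc⟩ := hg U hUV x p hp
    exact ⟨W, hpW, hW, k, inferInstance, φ, c, hc⟩
  · rintro U' hU' hle a b hab ⟨ha', ha⟩ ⟨hb', hb⟩
    refine ⟨hle, isComb_glue hloc hr hU' _ a b hab _ ?_ ?_⟩
    · rw [FModLib.mres_mres]
      exact ha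
    · rw [FModLib.mres_mres]
      exact hb

theorem exists_finset_of_indexed {k κ : Type u} [Fintype k] [Fintype κ] {W' W : (𝔛.X 0).Opens} (h : W' ≤ W)
    (z : κ → k → RSec (𝔛.Osh hloc.1) W) (e : κ → RSec (𝔛.Osh hloc.1) W') (P : (k → RSec (𝔛.Osh hloc.1) W) → Prop)
    (hP : ∀ j, P (z j)) :
    ∃ (Z : Finset (k → RSec (𝔛.Osh hloc.1) W)) (d : (k → RSec (𝔛.Osh hloc.1) W) → RSec (𝔛.Osh hloc.1) W'),
      (∀ y ∈ Z, P y) ∧ ∀ i, ∑ j, e j * rres (𝔛.Osh hloc.1) h (z j i) =
        ∑ y ∈ Z, d y * rres (𝔛.Osh hloc.1) h (y i) := by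
  classical
  refine ⟨Finset.univ.image z, fun y => ∑ j ∈ Finset.univ.filter (fun j => z j = y), e j, fun y hy => ?_, fun i => ?_⟩
  · obtain ⟨j, -, rfl⟩ := Finset.mem_image.1 hy
    exact hP j
  · rw [← Finset.sum_fiberwise_of_maps_to (g := z) (fun j hj => Finset.mem_image_of_mem z hj)]
    refine Finset.sum_congr rfl fun y _ => ?_
    rw [Finset.sum_mul]
    refine Finset.sum_congr rfl fun j hj => ?_
    rw [← (Finset.mem_filter.1 hj).2]

/-- **Generation and relations by some sections over an affine open give them for all smaller affine opens.** -/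
theorem good_of_by (hg : GenBy M V s) (hr : RelBy M V s) (hU : IsAffineOpen U) (hUV : U ≤ V) : Good hloc M U := by
  classical
  refine ⟨hU, fun W hW x q hq => ?_, fun k _ f W hW c hc q hq => ?_⟩
  · obtain ⟨W', hW', k, _, φ, c, hq', hcx⟩ := hg.res hUV W hW x q hq
    exact ⟨W', hW', k, inferInstance, fun j => mres M hUV (s (φ j)), c, hq', hcx⟩
  let O := 𝔛.Osh hloc.1
  choose kk hkk φ B hB using fun i => exists_comb_sec hloc hg hr hU hUV (f i)
  let L := Σ i, kk i
  let Φ : L → σ := fun l => φ l.1 l.2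
  let s' : σ → MSec M U := fun j => mres M hUV (s j)
  let A : k → L → RSec O U := fun i l => if h : l.1 = i then B i (h ▸ l.2) else 0
  have hA : ∀ i, lc M le_rfl (s' ∘ Φ) (A i) = f i := fun i => by
    refine Eq.trans ?_ (hB i).symm
    refine (lc_mres M le_rfl hUV (s ∘ Φ) (A i)).trans ?_
    show ∑ l : L, (A i l • mres M hUV (s (Φ l)) : MSec M U) = _
    rw [Fintype.sum_sigma, Finset.sum_eq_single i]
    · exact Finset.sum_congr rfl fun l _ => by
        rw [show A i ⟨i, l⟩ = B i l from dif_pos rfl]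
        rfl
    · intro i' _ hi'
      exact Finset.sum_eq_zero fun l _ => by
        rw [show A i ⟨i', l⟩ = 0 from dif_neg hi']
        exact zero_smul _ (mres M hUV (s (Φ ⟨i', l⟩)))
    · exact fun h => absurd (Finset.mem_univ i) h
  let cA : L → RSec O W := fun l => ∑ i, c i * rres O hW (A i l)
  have hcA : lc M hW (s' ∘ Φ) cA = 0 := by
    refine (FCohLib.lc_comp M hW (s' ∘ Φ) A c).symm.trans ((congrArg (fun e => lc M hW e c) ?_).trans hc)
    exact funext hA
  obtain ⟨W₁, hW₁, Z, d, hqW₁, hZ, hd⟩ := (hr.res hUV) L Φ W hW cA hcA q hq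
  obtain ⟨τ, _, z, hz, hzloc⟩ := FCohLib.exists_local_solution hloc hU A (fun y : Z => y.1)
  obtain ⟨W₂, hW₂, e, hqW₂, he⟩ := hzloc W₁ (hW₁.trans hW) (fun i => rres O hW₁ (c i)) (fun y : Z => d y.1)
    (fun l => by
      refine Eq.trans ?_ ((hd l).trans (Finset.sum_coe_sort Z fun y => d y * rres O (hW₁.trans hW) (y l)).symm)
      refine Eq.trans ?_ (map_sum (O.obj.map (homOfLE hW₁).op).hom _ _).symm
      refine Finset.sum_congr rfl fun i _ => Eq.symm ((map_mul (O.obj.map (homOfLE hW₁).op).hom _ _).trans ?_)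
      exact congrArg (fun t => rres O hW₁ (c i) * t) (FModLib.rres_rres hW₁ hW (A i l))) q hqW₁
  obtain ⟨Z', d', hZ', hd'⟩ := exists_finset_of_indexed hloc (hW₂.trans (hW₁.trans hW)) z e
    (fun y => lc M le_rfl f y = 0) fun l => by
      obtain ⟨dd, hdd⟩ := hz l
      refine Eq.trans ((congrArg (fun t => lc M le_rfl t (z l)) (funext fun i => (hA i).symm)).trans
        (FCohLib.lc_comp M le_rfl (s' ∘ Φ) A (z l))) ?_
      rw [show (fun m => ∑ i, z l i * rres O le_rfl (A i m)) = fun m => ∑ y : Z, dd y * rres O le_rfl (y.1 m) from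
        funext fun m => by simp only [rres_self]; exact hdd m]
      refine (FCohLib.lc_sum M le_rfl dd (fun y : Z => y.1) (s' ∘ Φ)).trans ?_
      exact Finset.sum_eq_zero fun y _ => (congrArg (fun t => dd y • t) ((congrArg (mres M le_rfl) (hZ y.1 y.2)).trans
        (map_zero _))).trans (smul_zero _)
  exact ⟨W₂, hW₂.trans hW₁, Z', d', hqW₂, hZ',
    fun i => (FModLib.rres_rres hW₂ hW₁ (c i)).symm.trans ((he i).trans (hd' i))⟩

theorem Good.res {V : (𝔛.X 0).Opens} (h : Good hloc M V) (hU : IsAffineOpen U) (hUV : U ≤ V) : Good hloc M U :=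
  good_of_by hloc h.gen h.rel hU hUV

/-- Over an affine open every section is a combination of the sections there. -/
theorem Good.exists_comb {V : (𝔛.X 0).Opens} (h : Good hloc M V) (hU : IsAffineOpen U) (hUV : U ≤ V) (x : MSec M U) :
    IsComb hloc (id : MSec M V → MSec M V) U hUV x :=
  exists_comb_sec hloc h.gen h.rel hU hUV x

end IndCohLib

end
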