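import Groth.Agent.IndCohLib.Ind
import Groth.Agent.FModLib.LimTower
import Groth.Agent.FModLib.MilnorLim
import Groth.Agent.FRpushLib.LevelAc

/-!
# Vanishing of cohomology of ind-coherent modules on affine opens
-/

set_option autoImplicit false
set_option linter.style.haveILetI false
set_option maxHeartbeats 800000
set_option synthInstance.maxHeartbeats 80000

universe u

open CategoryTheory CategoryTheory.Limits AlgebraicGeometry TopologicalSpace Opposite FSch CategoryTheory.Abelian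
open QCohLib (AbSh HU)

noncomputable section

attribute [local instance] HasDerivedCategory.standard

namespace IndCohLib

variable {𝔛 : Sys.{u}} (hloc : 𝔛.IsLocNoethFormal) {M : ModF 𝔛 hloc.1}

/-- The underlying abelian sheaf. -/
abbrev tAb (M : ModF 𝔛 hloc.1) : AbSh (𝔛.X 0).toTopCat :=
  (SheafOfModules.toSheaf (ModSite.ringSh (𝔛.Osh hloc.1))).obj M

/-- Coherent modules are acyclic on affine opens. -/
theorem subsingleton_HU_coh (hM : IsCohF 𝔛 hloc.1 M) {U : (𝔛.X 0).Opens} (hU : IsAffineOpen U) (n : ℕ) :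
    Subsingleton (HU (tAb hloc M) (n + 1) U) := by
  have hB : U ∈ FModLib.presB hloc.1 M := by
    obtain ⟨ι, κ, _, _, ⟨D⟩⟩ := FCohLib.exists_presOn hloc hM hU
    exact ⟨hU, U, ι, κ, inferInstance, inferInstance, D, le_rfl⟩
  have hb := FModLib.bTower hloc M hM
  have hac : ∀ k m, Subsingleton (HU (FModLib.towG hloc M k) (m + 1) U) := fun k m => hb.acyclic k U hB m
  have hst : ∀ m, FModLib.Stable (M := fun k => Ext (QCohLib.zsh U) (FModLib.towG hloc M k) m)
      (FModLib.tE (G := FModLib.towG hloc M) (t := FModLib.towT hloc M) (QCohLib.zsh U) m) := by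
    intro m k
    refine ⟨0, fun L _ y => ?_⟩
    match m with
    | 0 =>
      obtain ⟨s, hs⟩ := hb.surj U hB (k + L) (QCohLib.h0 y)
      refine ⟨QCohLib.h0.symm s, congrArg (FModLib.comp _ k L) (QCohLib.h0.injective ?_)⟩
      exact (QCohLib.h0_comp (QCohLib.h0.symm s) _).trans ((congrArg _ (AddEquiv.apply_symm_apply _ s)).trans hs)
    | m + 1 =>
      have := hac k m
      exact ⟨0, Subsingleton.elim (α := HU (FModLib.towG hloc M k) (m + 1) U) _ _⟩
  refine subsingleton_of_forall_eq 0 fun x => ?_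
  refine (FModLib.ext_lim_bijective (FModLib.towP_towT hloc M) hb (QCohLib.zsh U) hst (n + 1)).1 x fun k => ?_
  have := hac k n
  exact Subsingleton.elim (α := HU (FModLib.towG hloc M k) (n + 1) U) _ _

/-- **Ind-coherent modules are acyclic on affine opens.** -/
theorem subsingleton_HU_ind (h : (ObjectProperty.ind.{u} fun G : ModF 𝔛 hloc.1 => IsCohF 𝔛 hloc.1 G) M)
    {U : (𝔛.X 0).Opens} (hU : IsAffineOpen U) (n : ℕ) : Subsingleton (HU (tAb hloc M) (n + 1) U) := by
  obtain ⟨J, _, _, pres, hp⟩ := h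
  have := quasiSeparated hloc
  have hc := isColimitOfPreserves (SheafOfModules.toSheaf (ModSite.ringSh (𝔛.Osh hloc.1))) pres.isColimit
  refine subsingleton_of_forall_eq 0 fun x => ?_
  obtain ⟨j, y, hy⟩ := (CohTopLib.ColimCoh.prop₁ U hU.isCompact (n + 1) _ _ hc).1 x
  have := subsingleton_HU_coh hloc (hp j) hU n
  rw [← hy, Subsingleton.elim (α := HU (tAb hloc (pres.diag.obj j)) (n + 1) U) y 0]
  exact Ext.zero_comp ..

open FRpushLib in
/-- Higher direct images along morphisms with affine preimages of affines vanish. -/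
theorem isZero_rpush {𝔜 : Sys.{u}} (h𝔜 : 𝔜.IsFormal) (g : 𝔛 ⟶ 𝔜) [IsAffineHom ((g : Hom 𝔛 𝔜).app 0)]
    [HasInjectiveResolutions (ModF 𝔛 hloc.1)]
    (h : (ObjectProperty.ind.{u} fun G : ModF 𝔛 hloc.1 => IsCohF 𝔛 hloc.1 G) M) (i : ℕ) (hi : 0 < i) :
    IsZero ((RpushF g hloc.1 h𝔜 i).obj M) := by
  let g0 := ((g : Hom 𝔛 𝔜).app 0).base
  let R : Res (tAb hloc M) := Res.ofInjective (injectiveResolution M)
  haveI := preservesFiniteLimits_pf g0
  obtain ⟨e⟩ := RpushLib.nonempty_rightDerived_iso_of_acyclic (QCohLib.pf g0) R.K R.single (fun n => by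
      rw [SpSeqLib.isSAcyclic_iff]
      intro p hp
      exact QCohLib.isZero_rightDerived (f := g0) (B := Set.univ)
        (Opens.isBasis_iff_nbhd.mpr fun {U x} hx => ⟨U, trivial, hx, le_rfl⟩) (d := 0)
        (fun V _ m _ => R.ac n m _) hp) i
  have hz : IsZero (((QCohLib.pf g0).rightDerived i).obj (tAb hloc M)) :=
    QCohLib.isZero_rightDerived (f := g0) (B := QCohLib.affSet (𝔜.X 0)) QCohLib.isBasis_affSet (d := 0)
      (fun V hV m _ => subsingleton_HU_ind hloc h (U := ((g : Hom 𝔛 𝔜).app 0) ⁻¹ᵁ V) (IsAffineOpen.preimage hV _) m) hi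
  let a : pushK g0 (Hom.sharp g hloc.1 h𝔜) M ≅ ((QCohLib.pf g0).mapHomologicalComplex _).obj R.K :=
    HomologicalComplex.Hom.isoOfComponents (fun _ => Iso.refl _) (fun i i' _ => by
      refine (Category.id_comp _).trans (Eq.trans ?_ (Category.comp_id _).symm)
      rfl)
  have hz' : IsZero ((toAbS (𝔜.Osh h𝔜)).obj ((RpushF g hloc.1 h𝔜 i).obj M)) :=
    hz.of_iso ((psi g0 (Hom.sharp g hloc.1 h𝔜) i M).symm ≪≫ HomologicalComplex.homologyMapIso a i ≪≫ e.symm)
  rw [IsZero.iff_id_eq_zero] at hz' ⊢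
  exact (toAbS (𝔜.Osh h𝔜)).map_injective (((toAbS (𝔜.Osh h𝔜)).map_id _).trans (hz'.trans ((toAbS (𝔜.Osh h𝔜)).map_zero _ _).symm))

end IndCohLib

end
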