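import Groth.Agent.IndCohLib.Ext
import Groth.Agent.IndCohLib.Vanish
import Groth.Agent.QCohLib.Vanishing
import Groth.Prelude.Def_WeakSerre

/-!
# Modules good on all affine opens: a weak Serre class of modules acyclic on affine opens
-/

set_option autoImplicit false
set_option linter.style.haveILetI false
set_option maxHeartbeats 800000
set_option synthInstance.maxHeartbeats 80000

universe u

open CategoryTheory CategoryTheory.Limits AlgebraicGeometry TopologicalSpace Opposite FSch
open FModLib (MSec RSec mres rres lc)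
open QCohLib (HU h0)

noncomputable section

namespace IndCohLib

variable {𝔛 : Sys.{u}} (hloc : 𝔛.IsLocNoethFormal) {M : ModF 𝔛 hloc.1}

/-- Sections over an overlap of a two-term cover of an affine open are differences. -/
theorem exists_sub_good {V : (𝔛.X 0).Opens} (hM : Good hloc M V) {U : (𝔛.X 0).Opens} (hU : IsAffineOpen U)
    (hUV : U ≤ V) (a b : RSec (𝔛.Osh hloc.1) U) (hab : U ≤ Dg hloc a ⊔ Dg hloc b)
    (y : MSec M (Dg hloc a ⊓ Dg hloc b)) :
    ∃ (A : MSec M (Dg hloc a)) (B : MSec M (Dg hloc b)),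
      mres M inf_le_left A - mres M inf_le_right B = y := by
  classical
  have hla := (Dg_le hloc a).trans hUV
  have hlb := (Dg_le hloc b).trans hUV
  have hD : IsAffineOpen (Dg hloc a ⊓ Dg hloc b) := Dg_mul hloc a b ▸ (basic_Dg hloc hU (a * b)).affine
  obtain ⟨k, _, g, c, hc⟩ := hM.exists_comb hloc hD (inf_le_left.trans hla) y
  choose A B hAB using fun i : k => exists_split hloc hU a b hab (c i)
  refine ⟨lc M hla g A, lc M hlb g B, ?_⟩
  refine Eq.trans ?_ hc.symm
  refine (congrArg₂ (fun p q => p - q) (FModLib.mres_lc M inf_le_left hla g A)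
    (FModLib.mres_lc M inf_le_right hlb g B)).trans ?_
  refine (lc_sub M _ _ _ _).symm.trans ?_
  exact congrArg (lc M _ _) (funext fun i => hAB i)

/-- **Good modules are acyclic on affine opens.** -/
theorem subsingleton_HU_good {V : (𝔛.X 0).Opens} (hM : Good hloc M V) (n : ℕ) {U : (𝔛.X 0).Opens}
    (hU : IsAffineOpen U) (hUV : U ≤ V) : Subsingleton (HU (tAb hloc M) (n + 1) U) := by
  induction n using Nat.strong_induction_on generalizing U with
  | _ n ih =>
    refine subsingleton_of_forall_eq 0 fun x => ?_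
    suffices h : ∃ hle : U ≤ U, QCohLib.res (homOfLE hle) x = 0 by
      obtain ⟨_, h⟩ := h
      have h' : QCohLib.res (𝟙 U) x = 0 := h
      rwa [QCohLib.res_apply, QCohLib.zmap, CategoryTheory.Functor.map_id, Functor.whiskerRight_id',
        CategoryTheory.Functor.map_id, Abelian.Ext.mk₀_id_comp] at h'
    refine affine_induction hloc hU (fun W => ∃ hle : W ≤ U, QCohLib.res (homOfLE hle) x = 0) ?_ ?_ ?_ ?_
    · exact ⟨bot_le, Subsingleton.elim _ _⟩
    · rintro W W' hWW ⟨hle, h⟩
      refine ⟨hWW.trans hle, ?_⟩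
      have := congrArg (QCohLib.res (homOfLE hWW)) h
      rwa [map_zero, QCohLib.res_res] at this
    · intro p hp
      obtain ⟨W, i, hpW, hW⟩ := QCohLib.exists_res_eq_zero n x hp
      exact ⟨W, hpW, i.le, hW⟩
    · rintro U' hU' hU'U a b hab ⟨hla, ha⟩ ⟨hlb, hb⟩
      have two : ∀ y : HU (tAb hloc M) n (Dg hloc a ⊓ Dg hloc b),
          ∃ (A : HU (tAb hloc M) n (Dg hloc a)) (B : HU (tAb hloc M) n (Dg hloc b)),
            QCohLib.res (homOfLE inf_le_left) A - QCohLib.res (homOfLE inf_le_right) B = y := by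
        intro y
        cases n with
        | zero =>
          obtain ⟨A, B, hAB⟩ := exists_sub_good hloc hM hU' (hU'U.trans hUV) a b hab (h0 y)
          obtain ⟨A', rfl⟩ := (h0 (F := tAb hloc M) (U := Dg hloc a)).surjective A
          obtain ⟨B', rfl⟩ := (h0 (F := tAb hloc M) (U := Dg hloc b)).surjective B
          refine ⟨A', B', h0.injective ?_⟩
          rw [map_sub, QCohLib.h0_res, QCohLib.h0_res]
          exact hAB
        | succ k =>
          have := ih k (Nat.lt_succ_self k) (U := Dg hloc a ⊓ Dg hloc b)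
            (Dg_mul hloc a b ▸ (basic_Dg hloc hU' (a * b)).affine) ((inf_le_left.trans hla).trans hUV)
          exact ⟨0, 0, Subsingleton.elim _ _⟩
      have hsup : Dg hloc a ⊔ Dg hloc b = U' := le_antisymm (sup_le (Dg_le hloc a) (Dg_le hloc b)) hab
      have key : QCohLib.res (homOfLE (hsup.le.trans hU'U)) x = 0 := by
        refine QCohLib.mv_eq_zero _ ?_ ?_ two
        · rw [QCohLib.res_res]; exact ha
        · rw [QCohLib.res_res]; exact hb
      refine ⟨hU'U, ?_⟩
      have := congrArg (QCohLib.res (homOfLE hsup.ge)) key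
      rwa [map_zero, QCohLib.res_res] at this

/-- Good on all affine opens. -/
def AGood : ObjectProperty (ModF 𝔛 hloc.1) :=
  fun M => ∀ V : (𝔛.X 0).Opens, IsAffineOpen V → Good hloc M V

theorem aGood_of_ind (h : (ObjectProperty.ind.{u} fun G : ModF 𝔛 hloc.1 => IsCohF 𝔛 hloc.1 G) M) :
    AGood hloc M := (isInd_of_ind hloc h).good

theorem isWeakSerre_aGood : WSerre.IsWeakSerre (AGood hloc) where
  exists_zero := ⟨_, isZero_zero _, (isInd_of_isCohF hloc (isCohF_isZero hloc (isZero_zero (ModF 𝔛 hloc.1)))).good⟩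
  kernels_le M h := by
    obtain @⟨X, Y, f, k, hlim, hX, hY⟩ := h
    exact fun V hV => good_of_iso hloc (IsLimit.conePointUniqueUpToIso (kernelIsKernel f) hlim)
      (good_kernel hloc f (hX V hV) (hY V hV).rel)
  cokernels_le M h := by
    obtain @⟨X, Y, f, k, hcol, hX, hY⟩ := h
    exact fun V hV => good_of_iso hloc (IsColimit.coconePointUniqueUpToIso (cokernelIsCokernel f) hcol)
      (good_cokernel hloc f (hX V hV) (hY V hV))
  prop_X₂_of_shortExact {S} hS h₁ h₃ V hV := by
    haveI := hS.epi_g
    exact good_extension hloc S.g (good_of_iso hloc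
      (IsLimit.conePointUniqueUpToIso hS.fIsKernel (limit.isLimit _)) (h₁ V hV)) (h₃ V hV)

end IndCohLib

end
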