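import Groth.Agent.IndCohLib.Derived
import Groth.Agent.ModSiteLib.FreeOn

/-!
# A bound on hypercohomology of complexes with ind-coherent cohomology
-/

set_option autoImplicit false
set_option linter.style.haveILetI false
set_option maxHeartbeats 800000
set_option synthInstance.maxHeartbeats 80000

universe u

open CategoryTheory CategoryTheory.Limits AlgebraicGeometry TopologicalSpace Opposite FSch
open QCohLib (HU)
open Groth.Agent

noncomputable section

attribute [local instance] HasDerivedCategory.standard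

namespace IndCohLib

variable {𝔛 : Sys.{u}} (hloc : 𝔛.IsLocNoethFormal)

/-- Global sections are sections over the whole space. -/
def topSectionsEquiv {X : TopCat.{u}} {O : Sheaf (Opens.grothendieckTopology X) CommRingCat.{u}}
    (M : ModSite.Mod O) : M.sections ≃ M.val.obj (op ⊤) where
  toFun s := s.val (op ⊤)
  invFun m := ⟨fun V => M.val.map (homOfLE (le_top : V.unop ≤ ⊤)).op m, fun {V W} g => by
    change M.val.map g (M.val.map (homOfLE (le_top : V.unop ≤ ⊤)).op m) =
      M.val.map (homOfLE (le_top : W.unop ≤ ⊤)).op m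
    rw [← PresheafOfModules.map_comp_apply]
    exact PresheafOfModules.congr_map_apply M.val (Subsingleton.elim _ _) m⟩
  left_inv s := by
    refine Subtype.ext (funext fun V => ?_)
    exact s.2 (homOfLE (le_top : V.unop ≤ ⊤)).op
  right_inv m := by
    change M.val.map (homOfLE (le_top : (⊤ : Opens X) ≤ ⊤)).op m = m
    rw [show (homOfLE (le_top : (⊤ : Opens X) ≤ ⊤)).op = 𝟙 (op ⊤) from Subsingleton.elim _ _,
      PresheafOfModules.map_id]
    rfl

/-- The free module on the whole space is the structure sheaf. -/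
def freeTopIso {X : TopCat.{u}} (O : Sheaf (Opens.grothendieckTopology X) CommRingCat.{u}) :
    ModSite.freeOn O ⊤ ≅ ModSite.unit O :=
  ModSiteLib.isoOfHomEquiv
    (fun M => ((ModSiteLib.freeOnEquiv M ⊤).trans (topSectionsEquiv M).symm).trans M.unitHomEquiv.symm)
    (fun {M N} a p => by
      refine N.unitHomEquiv.injective ?_
      rw [SheafOfModules.unitHomEquiv_comp_apply]
      simp only [Equiv.trans_apply, Equiv.apply_symm_apply, ModSiteLib.freeOnEquiv_comp]
      refine (topSectionsEquiv N).injective ?_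
      rw [Equiv.apply_symm_apply]
      exact congrArg _ ((topSectionsEquiv M).apply_symm_apply _).symm)

open DerivedCategory DerivedCategory.TStructure in
/-- **Hypercohomology of complexes with good cohomology is bounded above.** -/
theorem exists_bound_hom [CompactSpace (𝔛.X 0)] :
    ∃ e : ℕ, ∀ (G : DerivedCategory (ModF 𝔛 hloc.1)), (∀ i : ℤ, AGood hloc (SiteCmp.HMod G i)) →
      ∀ i₀ : ℤ, (∀ i : ℤ, i₀ ≤ i → IsZero (SiteCmp.HMod G i)) → ∀ i : ℤ, i₀ + e ≤ i →
        Subsingleton (SiteCmp.inD (𝔛.Osh hloc.1) (unitF 𝔛 hloc.1) ⟶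
          (shiftFunctor (DerivedCategory (ModF 𝔛 hloc.1)) i).obj G) := by
  obtain ⟨e, he⟩ := exists_bound_compact hloc ⊤ isCompact_univ
  refine ⟨e, fun G hG i₀ hz i hi => ?_⟩
  have hHU : ∀ (F : ModF 𝔛 hloc.1), AGood hloc F → ∀ k : ℕ, e ≤ k →
      Subsingleton (ModSite.HU (𝔛.Osh hloc.1) F k (⊤ : (𝔛.X 0).Opens)) := fun F hF k hk => he F hF k hk
  haveI : HasInjectiveResolutions (ModF 𝔛 hloc.1) := inferInstance
  have hv : ModCohLib.TowerVanish G {W | IsAffineOpen W} := fun j V _ =>
    ⟨(0 - j).toNat, (cofinal_affine hloc V).mono _ fun W hW n hn k hk => hW _ (hG _) k (by omega)⟩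
  let n₀ : ℕ := (e - i : ℤ).toNat
  have hb := ModCohLib.genBij_toTruncTower G {W | IsAffineOpen W}
    (exists_cover_basis (𝔛.X 0).isBasis_affineOpens) hv (⊤ : (𝔛.X 0).Opens) i n₀
    (fun n hn k hk => hHU _ (hG _) k (by omega)) n₀ le_rfl
  have key : ∀ x : ModCohLib.dgen (𝔛.Osh hloc.1) (⊤ : (𝔛.X 0).Opens) i ⟶ G, x = 0 := by
    intro x
    refine hb.injective (Eq.trans ?_ (zero_comp).symm)
    haveI : (CohCx.truncTower G n₀).IsGE (-(n₀ : ℤ)) :=
      inferInstanceAs (t.IsGE ((t.truncGE (-(n₀ : ℤ))).obj G) _)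
    refine ModCohLib.dgen_hom_eq_zero (⊤ : (𝔛.X 0).Opens) i (-(n₀ : ℤ)) _ (fun m k hmk => ?_) _
    by_cases hm : -(n₀ : ℤ) ≤ m
    · haveI := ModCohLib.isIso_homology_truncGEπ G (-(n₀ : ℤ)) m hm
      refine ModCohLib.subsingleton_HU_of_iso
        (asIso ((homologyFunctor (ModF 𝔛 hloc.1) m).map (CohCx.toTruncTower G n₀))).symm k _ ?_
      by_cases hm' : i₀ ≤ m
      · exact ModCohLib.subsingleton_HU_of_isZero (hz m hm') k _
      · exact hHU _ (hG m) k (by omega)
    · exact ModCohLib.subsingleton_HU_of_isZero (ModCohLib.isZero_homology_truncTower G n₀ m (by omega)) k _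
  let sI := ((singleFunctors (ModF 𝔛 hloc.1)).shiftIso i 0 i (by omega)).app (unitF 𝔛 hloc.1)
  let dI := (singleFunctor (ModF 𝔛 hloc.1) i).mapIso (freeTopIso (𝔛.Osh hloc.1))
  refine subsingleton_of_forall_eq 0 fun y => ?_
  obtain ⟨z, hz'⟩ := (shiftFunctor (DerivedCategory (ModF 𝔛 hloc.1)) i).map_surjective (sI.hom ≫ y)
  have h0 : z = 0 := (cancel_epi dI.hom).mp ((key _).trans comp_zero.symm)
  rw [h0, Functor.map_zero] at hz'
  exact (cancel_epi sI.hom).mp (hz'.symm.trans comp_zero.symm)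

end IndCohLib

end
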