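import Groth.Agent.IndCohLib.Sources
import Groth.Agent.ModSiteLib.PullFlat

/-!
# Kernels, cokernels and extensions of modules generated and related over an affine open
-/

set_option autoImplicit false
set_option linter.style.haveILetI false
set_option maxHeartbeats 800000

universe u

open CategoryTheory CategoryTheory.Limits AlgebraicGeometry TopologicalSpace Opposite FSch
open FModLib (MSec RSec mres rres lc)

noncomputable section

namespace IndCohLib

variable {𝔛 : Sys.{u}} (hloc : 𝔛.IsLocNoethFormal) {M N : ModF 𝔛 hloc.1} {V : (𝔛.X 0).Opens}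

theorem app_mres {W V : (𝔛.X 0).Opens} (θ : M ⟶ N) (h : W ≤ V) (x : MSec M V) :
    θ.val.app (op W) (mres M h x) = mres N h (θ.val.app (op V) x) :=
  PresheafOfModules.naturality_apply θ.val (homOfLE h).op x

theorem inj_of_mono (θ : M ⟶ N) [Mono θ] {W : (𝔛.X 0).Opens} {a b : MSec M W}
    (h : θ.val.app (op W) a = θ.val.app (op W) b) : a = b :=
  _root_.ModSiteLib.injective_ap_of_mono θ W h

theorem app_comp {P : ModF 𝔛 hloc.1} (θ : M ⟶ N) (η : N ⟶ P) (χ : M ⟶ P) (e : θ ≫ η = χ) {W : (𝔛.X 0).Opens}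
    (x : MSec M W) : η.val.app (op W) (θ.val.app (op W) x) = χ.val.app (op W) x :=
  congr($(congrArg (fun a : M ⟶ P => a.val.app (op W)) e) x)

theorem exists_loc_lift (θ : M ⟶ N) [Epi θ] {W : (𝔛.X 0).Opens} (x : MSec N W) {q : 𝔛.X 0} (hq : q ∈ W) :
    ∃ (W₀ : (𝔛.X 0).Opens) (hW₀ : W₀ ≤ W) (y : MSec M W₀), q ∈ W₀ ∧ θ.val.app (op W₀) y = mres N hW₀ x := by
  obtain ⟨W₀, g, ⟨y, hy⟩, hqW₀⟩ := FCohLib.exists_of_loc_opens (_root_.ModSiteLib.loc_of_epi θ (V := W) x) hq
  exact ⟨W₀, g.le, y, hqW₀, hy⟩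

/-- Relations pull back along monomorphisms. -/
theorem relBy_of_mono (θ : M ⟶ N) [Mono θ] (h : RelBy N V (id : MSec N V → MSec N V)) :
    RelBy M V (id : MSec M V → MSec M V) := by
  intro k _ f W hW c hc q hq
  obtain ⟨W', hW', Z, d, hqW, hZ, hd⟩ := h k (fun i => θ.val.app (op V) (f i)) W hW c
    ((FCohLib.app_lc θ hW f c).symm.trans ((congrArg _ hc).trans (map_zero _))) q hq
  refine ⟨W', hW', Z, d, hqW, fun z hz => inj_of_mono hloc θ ?_, hd⟩
  exact (FCohLib.app_lc θ le_rfl f z).trans ((hZ z hz).trans (map_zero _).symm)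

/-- Generation passes to epimorphic images. -/
theorem genBy_of_epi (θ : M ⟶ N) [Epi θ] (h : GenBy M V (id : MSec M V → MSec M V)) :
    GenBy N V (id : MSec N V → MSec N V) := by
  intro W hW x q hq
  obtain ⟨W₀, hW₀, y, hqW₀, hy⟩ := exists_loc_lift hloc θ x hq
  obtain ⟨W', hW', k, _, f, c, hqW', hc⟩ := h W₀ (hW₀.trans hW) y q hqW₀
  refine ⟨W', hW'.trans hW₀, k, inferInstance, fun i => θ.val.app (op V) (f i), c, hqW', ?_⟩
  refine (FModLib.mres_mres N hW' hW₀ x).symm.trans ((congrArg (mres N hW') hy.symm).trans ?_)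
  exact (app_mres hloc θ hW' y).symm.trans ((congrArg (θ.val.app (op W')) hc).trans (FCohLib.app_lc θ _ f c))

theorem good_of_iso (e : M ≅ N) (h : Good hloc M V) : Good hloc N V :=
  ⟨h.affine, genBy_of_epi hloc e.hom h.gen, relBy_of_mono hloc e.inv h.rel⟩

/-- Kernels. -/
theorem good_kernel (θ : M ⟶ N) (hM : Good hloc M V) (hN : RelBy N V (id : MSec N V → MSec N V)) :
    Good hloc (kernel θ) V := by
  classical
  refine ⟨hM.affine, fun W hW x q hq => ?_, relBy_of_mono hloc (kernel.ι θ) hM.rel⟩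
  let κ := kernel.ι θ
  obtain ⟨W₁, hW₁, k, _, f, c, hq₁, hc⟩ := hM.gen W hW (κ.val.app (op W) x) q hq
  have h0 : lc N (hW₁.trans hW) (fun i => θ.val.app (op V) (f i)) c = 0 := by
    refine (FCohLib.app_lc θ (hW₁.trans hW) f c).symm.trans ?_
    refine (congrArg (θ.val.app (op W₁)) hc).symm.trans ((app_mres hloc θ hW₁ _).trans ?_)
    exact (congrArg (mres N hW₁) ((app_comp hloc κ θ 0 (kernel.condition θ) x))).trans (map_zero _)
  obtain ⟨W₂, hW₂, Z, d, hq₂, hZ, hd⟩ := hN k _ W₁ (hW₁.trans hW) c h0 q hq₁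
  choose g hg using fun z : Z => _root_.ModSiteLib.exists_kernel_section θ V (lc M le_rfl f z.1)
    ((FCohLib.app_lc θ le_rfl f z.1).trans (hZ z.1 z.2))
  refine ⟨W₂, hW₂.trans hW₁, Z, inferInstance, g, fun z => d z.1, hq₂, inj_of_mono hloc κ ?_⟩
  have h21 := hW₂.trans (hW₁.trans hW)
  refine Eq.trans ?_ (FCohLib.app_lc κ h21 g (fun z => d z.1)).symm
  refine Eq.trans ?_ (congrArg (fun t => lc M h21 t fun z : Z => d z.1) (funext hg).symm)
  refine Eq.trans ?_ (FCohLib.lc_sum M h21 (fun z : Z => d z.1) (fun z : Z => z.1) f)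
  refine (app_mres hloc κ (hW₂.trans hW₁) x).trans ((FModLib.mres_mres M hW₂ hW₁ _).symm.trans ?_)
  refine (congrArg (mres M hW₂) hc).trans ((FModLib.mres_lc M hW₂ _ f c).trans ?_)
  exact congrArg (lc M h21 f) (funext fun i => (hd i).trans (Finset.sum_coe_sort Z _).symm)

/-- Sections of the target lift over an affine open when the kernel is good. -/
theorem exists_lift_sec (θ : M ⟶ N) [Epi θ] (hK : Good hloc (kernel θ) V) (t : MSec N V) :
    ∃ b : MSec M V, θ.val.app (op V) b = t := by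
  classical
  let κ := kernel.ι θ
  suffices h : ∃ (hle : V ≤ V) (b : MSec M V), θ.val.app (op V) b = mres N hle t by
    obtain ⟨_, b, hb⟩ := h
    exact ⟨b, hb.trans (mres_self N t)⟩
  refine affine_induction hloc hK.affine
    (fun W => ∃ (hle : W ≤ V) (b : MSec M W), θ.val.app (op W) b = mres N hle t) ?_ ?_ ?_ ?_
  · refine ⟨bot_le, 0, (map_zero _).trans (Eq.symm ?_)⟩
    exact FCohLib.eq_zero_of_points N _ fun p hp => absurd hp id
  · rintro W W' hWW ⟨hle, b, hb⟩
    refine ⟨hWW.trans hle, mres M hWW b, (app_mres hloc θ hWW b).trans ?_⟩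
    exact (congrArg (mres N hWW) hb).trans (FModLib.mres_mres N hWW hle t)
  · intro p hp
    obtain ⟨W, hW, y, hpW, hy⟩ := exists_loc_lift hloc θ t hp
    exact ⟨W, hpW, hW, y, hy⟩
  rintro U hU hUV a b hab ⟨hla, xa, hxa⟩ ⟨hlb, xb, hxb⟩
  refine ⟨hUV, ?_⟩
  let D := Dg hloc a ⊓ Dg hloc b
  have hD : IsAffineOpen (Dg hloc a ⊓ Dg hloc b) := Dg_mul hloc a b ▸ (basic_Dg hloc hU (a * b)).affine
  have h0 : θ.val.app (op D) (mres M (inf_le_left : D ≤ _) xa - mres M (inf_le_right : D ≤ _) xb) = 0 := by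
    refine (map_sub _ _ _).trans (sub_eq_zero.2 ?_)
    refine (app_mres hloc θ inf_le_left xa).trans ((congrArg (mres N inf_le_left) hxa).trans ?_)
    refine ((FModLib.mres_mres N inf_le_left hla t).trans (FModLib.mres_mres N inf_le_right hlb t).symm).trans ?_
    exact (congrArg (mres N inf_le_right) hxb).symm.trans (app_mres hloc θ inf_le_right xb).symm
  obtain ⟨y, hy⟩ := _root_.ModSiteLib.exists_kernel_section θ D _ h0
  obtain ⟨k, _, g, c, hc⟩ := hK.exists_comb hloc hD (inf_le_left.trans hla) y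
  choose A B hAB using fun i : k => exists_split hloc hU a b hab (c i)
  let ga := lc M hla (fun i => κ.val.app (op V) (g i)) A
  let gb := lc M hlb (fun i => κ.val.app (op V) (g i)) B
  have hga : θ.val.app (op _) ga = 0 := (FCohLib.app_lc θ hla _ A).trans (Finset.sum_eq_zero fun i _ =>
    (congrArg (fun t => A i • t) ((congrArg (mres N hla) (app_comp hloc κ θ 0 (kernel.condition θ) (g i))).trans
      (map_zero _))).trans (smul_zero _))
  have hgb : θ.val.app (op _) gb = 0 := (FCohLib.app_lc θ hlb _ B).trans (Finset.sum_eq_zero fun i _ =>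
    (congrArg (fun t => B i • t) ((congrArg (mres N hlb) (app_comp hloc κ θ 0 (kernel.condition θ) (g i))).trans
      (map_zero _))).trans (smul_zero _))
  have hagree : mres M (inf_le_left : D ≤ _) (xa - ga) = mres M (inf_le_right : D ≤ _) (xb - gb) := by
    refine (map_sub _ _ _).trans (Eq.trans ?_ (map_sub _ _ _).symm)
    refine sub_eq_sub_iff_sub_eq_sub.2 ?_
    refine hy.symm.trans ((congrArg (κ.val.app (op D)) hc).trans ((FCohLib.app_lc κ _ g c).trans ?_))
    refine Eq.trans ?_ (congrArg₂ (fun p q => p - q) (FModLib.mres_lc M inf_le_left hla _ A)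
      (FModLib.mres_lc M inf_le_right hlb _ B)).symm
    refine Eq.trans ?_ (lc_sub M _ _ _ _)
    exact congrArg (lc M _ _) (funext fun i => (hAB i).symm)
  obtain ⟨x, hx, hx'⟩ : ∃ x : MSec M U, mres M (Dg_le hloc a) x = xa - ga ∧ mres M (Dg_le hloc b) x = xb - gb := by
    let Ui : ULift.{u} Bool → Opens (𝔛.X 0) := fun i => bif i.down then Dg hloc a else Dg hloc b
    let sf : ∀ i, MSec M (Ui i) := fun i => match i with
      | ⟨true⟩ => xa - ga
      | ⟨false⟩ => xb - gb
    obtain ⟨C, hC, -⟩ := TopCat.Sheaf.existsUnique_gluing'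
      ((SheafOfModules.toSheaf (ModSite.ringSh (𝔛.Osh hloc.1))).obj M : TopCat.Sheaf AddCommGrpCat _) Ui U
      (fun i => homOfLE (by rcases i with ⟨_ | _⟩ <;> [exact Dg_le hloc b; exact Dg_le hloc a]))
      (fun p hp => (hab hp).elim (fun h => Opens.mem_iSup.mpr ⟨⟨true⟩, h⟩) fun h => Opens.mem_iSup.mpr ⟨⟨false⟩, h⟩)
      sf (fun i j => by
        rcases i with ⟨_ | _⟩ <;> rcases j with ⟨_ | _⟩
        · rfl
        · have h' := congrArg (mres M (show Dg hloc b ⊓ Dg hloc a ≤ D from le_inf inf_le_right inf_le_left)) hagree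
          exact ((FModLib.mres_mres M _ inf_le_left (xa - ga)).symm.trans
            (h'.trans (FModLib.mres_mres M _ inf_le_right (xb - gb)))).symm
        · exact hagree
        · rfl)
    exact ⟨C, hC ⟨true⟩, hC ⟨false⟩⟩
  refine ⟨x, eq_of_pair N (Dg_le hloc a) (Dg_le hloc b) hab ?_ ?_⟩
  · refine (app_mres hloc θ (Dg_le hloc a) x).symm.trans ((congrArg (θ.val.app (op _)) hx).trans ?_)
    refine (map_sub _ _ _).trans ((congrArg₂ (fun p q => p - q) hxa hga).trans ((sub_zero _).trans ?_))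
    exact (FModLib.mres_mres N (Dg_le hloc a) hUV t).symm
  · refine (app_mres hloc θ (Dg_le hloc b) x).symm.trans ((congrArg (θ.val.app (op _)) hx').trans ?_)
    refine (map_sub _ _ _).trans ((congrArg₂ (fun p q => p - q) hxb hgb).trans ((sub_zero _).trans ?_))
    exact (FModLib.mres_mres N (Dg_le hloc b) hUV t).symm

/-- Images. -/
theorem good_image (θ : M ⟶ N) (hM : Good hloc M V) (hN : RelBy N V (id : MSec N V → MSec N V)) :
    Good hloc (Abelian.image θ) V :=
  ⟨hM.affine, @genBy_of_epi _ hloc _ _ _ (Abelian.factorThruImage θ) inferInstance hM.gen,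
    relBy_of_mono hloc (kernel.ι (cokernel.π θ)) hN⟩

/-- Cokernels. -/
theorem good_cokernel (θ : M ⟶ N) (hM : Good hloc M V) (hN : Good hloc N V) : Good hloc (cokernel θ) V := by
  classical
  refine ⟨hM.affine, genBy_of_epi hloc (cokernel.π θ) hN.gen, fun k _ f W hW c hc q hq => ?_⟩
  let π := cokernel.π θ
  choose f' hf' using fun i => exists_lift_sec hloc π (good_image hloc θ hM hN.rel) (f i)
  have hπ0 : ∀ (W : (𝔛.X 0).Opens) (y : MSec M W), π.val.app (op W) (θ.val.app (op W) y) = 0 := fun W y =>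
    app_comp hloc θ π 0 (cokernel.condition θ) y
  obtain ⟨x, hx⟩ := _root_.ModSiteLib.exists_kernel_section π W (lc N hW f' c)
    ((FCohLib.app_lc π hW f' c).trans ((congrArg (fun t => lc (cokernel θ) hW t c) (funext hf')).trans hc))
  have he : Epi (Abelian.factorThruImage θ) := inferInstance
  obtain ⟨W₀, hW₀, y, hq₀, hy⟩ := @exists_loc_lift _ hloc _ _ (Abelian.factorThruImage θ) he W x q hq
  obtain ⟨W₁, hW₁, m, _, g, e, hq₁, he₁⟩ := hM.gen W₀ (hW₀.trans hW) y q hq₀
  have h10 := hW₁.trans hW₀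
  let F : k ⊕ m → MSec N V := Sum.elim f' fun j => θ.val.app (op V) (g j)
  let E : k ⊕ m → RSec (𝔛.Osh hloc.1) W₁ := Sum.elim (fun i => rres _ h10 (c i)) fun j => -e j
  have hE : lc N (h10.trans hW) F E = 0 := by
    refine (lc_sumType N _ F E).trans ?_
    have h2 : lc N (h10.trans hW) (fun j => θ.val.app (op V) (g j)) (fun j => -e j) =
        -lc N (h10.trans hW) (fun j => θ.val.app (op V) (g j)) e :=
      (Finset.sum_congr rfl fun j _ => neg_smul (e j) (mres N (h10.trans hW) (θ.val.app (op V) (g j)))).trans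
        (Finset.sum_neg_distrib _)
    refine (congrArg₂ (fun p q => p + q) rfl h2).trans ((sub_eq_add_neg _ _).symm.trans (sub_eq_zero.2 ?_))
    refine (FModLib.mres_lc N h10 hW f' c).symm.trans ?_
    refine Eq.trans ?_ (FCohLib.app_lc θ (h10.trans hW) g e)
    refine Eq.trans ?_ (congrArg (θ.val.app (op W₁)) he₁)
    refine Eq.trans ?_ (app_mres hloc θ hW₁ y).symm
    refine (FModLib.mres_mres N hW₁ hW₀ _).symm.trans (congrArg (mres N hW₁) ?_)
    refine Eq.trans ?_ (app_comp hloc (Abelian.factorThruImage θ) (kernel.ι π) θ (Abelian.image.fac θ) y)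
    refine Eq.trans ?_ (congrArg ((kernel.ι π).val.app (op W₀)) hy).symm
    exact (congrArg (mres N hW₀) hx.symm).trans (app_mres hloc (kernel.ι π) hW₀ x).symm
  obtain ⟨W₂, hW₂, Z, d, hq₂, hZ, hd⟩ := hN.rel (k ⊕ m) F W₁ (h10.trans hW) E hE q hq₁
  obtain ⟨Z', d', hZ', hd'⟩ := exists_finset_of_indexed hloc (hW₂.trans (h10.trans hW)) (fun z : Z => z.1 ∘ Sum.inl)
    (fun z : Z => d z.1) (fun y => lc (cokernel θ) le_rfl f y = 0) fun z => by
      have h0 := (FCohLib.app_lc π le_rfl F z.1).symm.trans ((congrArg _ (hZ z.1 z.2)).trans (map_zero _))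
      refine Eq.trans ?_ ((lc_sumType (cokernel θ) le_rfl _ z.1).symm.trans h0)
      refine Eq.trans (add_zero _).symm (congrArg₂ (fun p q => p + q) ?_ ?_)
      · exact congrArg (fun t => lc (cokernel θ) le_rfl t (z.1 ∘ Sum.inl)) (funext fun i => (hf' i).symm)
      · refine (Finset.sum_eq_zero fun j _ => ?_).symm
        exact (congrArg (fun t => (z.1 (Sum.inr j) • t : MSec (cokernel θ) V))
          ((congrArg (mres (cokernel θ) le_rfl) (hπ0 V (g j))).trans (map_zero _))).trans (smul_zero _)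
  refine ⟨W₂, hW₂.trans h10, Z', d', hq₂, hZ', fun i => ?_⟩
  exact (FModLib.rres_rres hW₂ h10 (c i)).symm.trans ((hd (Sum.inl i)).trans
    ((Finset.sum_coe_sort Z _).symm.trans (hd' i)))

/-- Extensions. -/
theorem good_extension (θ : M ⟶ N) [Epi θ] (hK : Good hloc (kernel θ) V) (hN : Good hloc N V) : Good hloc M V := by
  classical
  let κ := kernel.ι θ
  refine ⟨hK.affine, fun W hW x q hq => ?_, fun k _ f W hW c hc q hq => ?_⟩
  · obtain ⟨W₁, hW₁, k, _, h, c, hq₁, hc⟩ := hN.gen W hW (θ.val.app (op W) x) q hq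
    choose h' hh' using fun i => exists_lift_sec hloc θ hK (h i)
    have h0 : θ.val.app (op W₁) (mres M hW₁ x - lc M (hW₁.trans hW) h' c) = 0 := by
      refine (map_sub _ _ _).trans (sub_eq_zero.2 ((app_mres hloc θ hW₁ x).trans (hc.trans ?_)))
      exact ((FCohLib.app_lc θ _ h' c).trans (congrArg (fun t => lc N _ t c) (funext hh'))).symm
    obtain ⟨y, hy⟩ := _root_.ModSiteLib.exists_kernel_section θ W₁ _ h0
    obtain ⟨W₂, hW₂, m, _, g, e, hq₂, he⟩ := hK.gen W₁ (hW₁.trans hW) y q hq₁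
    have h20 := hW₂.trans (hW₁.trans hW)
    refine ⟨W₂, hW₂.trans hW₁, k ⊕ m, inferInstance, Sum.elim h' fun j => κ.val.app (op V) (g j),
      Sum.elim (fun i => rres _ hW₂ (c i)) e, hq₂, ?_⟩
    refine Eq.trans ?_ (lc_sumType M h20 _ _).symm
    refine (FModLib.mres_mres M hW₂ hW₁ x).symm.trans ?_
    have h1 : mres M hW₂ (mres M hW₁ x) - mres M hW₂ (lc M (hW₁.trans hW) h' c) =
        lc M h20 (fun j => κ.val.app (op V) (g j)) e := by
      refine (map_sub _ _ _).symm.trans ?_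
      refine (congrArg (mres M hW₂) hy.symm).trans ((app_mres hloc κ hW₂ y).symm.trans ?_)
      exact (congrArg (κ.val.app (op W₂)) he).trans (FCohLib.app_lc κ h20 g e)
    rw [FModLib.mres_lc M hW₂ (hW₁.trans hW) h' c] at h1
    exact (sub_eq_iff_eq_add'.1 h1)
  · obtain ⟨W₁, hW₁, Z, d, hq₁, hZ, hd⟩ := hN.rel k (fun i => θ.val.app (op V) (f i)) W hW c
      ((FCohLib.app_lc θ hW f c).symm.trans ((congrArg _ hc).trans (map_zero _))) q hq
    choose g hg using fun z : Z => _root_.ModSiteLib.exists_kernel_section θ V (lc M le_rfl f z.1)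
      ((FCohLib.app_lc θ le_rfl f z.1).trans (hZ z.1 z.2))
    have h10 := hW₁.trans hW
    have h0 : lc (kernel θ) h10 g (fun z : Z => d z.1) = 0 := inj_of_mono hloc κ (by
      refine (FCohLib.app_lc κ h10 g (fun z : Z => d z.1)).trans ?_
      refine (congrArg (fun t => lc M h10 t fun z : Z => d z.1) (funext hg)).trans ?_
      refine (FCohLib.lc_sum M h10 (fun z : Z => d z.1) (fun z : Z => z.1) f).symm.trans ?_
      refine Eq.trans ?_ (map_zero _).symm
      refine (congrArg (lc M h10 f) (funext fun i => ((hd i).trans (Finset.sum_coe_sort Z _).symm).symm)).trans ?_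
      exact (FModLib.mres_lc M hW₁ hW f c).symm.trans ((congrArg (mres M hW₁) hc).trans (map_zero _)))
    obtain ⟨W₂, hW₂, Z₂, e, hq₂, hZ₂, he⟩ := hK.rel Z g W₁ h10 (fun z => d z.1) h0 q hq₁
    let w : Z₂ → k → RSec (𝔛.Osh hloc.1) V := fun y i => ∑ z : Z, y.1 z * rres _ le_rfl (z.1 i)
    obtain ⟨Z', d', hZ', hd'⟩ := exists_finset_of_indexed hloc (hW₂.trans h10) w (fun y : Z₂ => e y.1)
      (fun y => lc M le_rfl f y = 0) fun y => by
        refine (FCohLib.lc_sum M le_rfl y.1 (fun z : Z => z.1) f).trans ?_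
        refine (congrArg (fun t => lc M le_rfl t y.1) (funext hg).symm).trans ?_
        exact (FCohLib.app_lc κ le_rfl g y.1).symm.trans ((congrArg _ (hZ₂ y.1 y.2)).trans (map_zero _))
    refine ⟨W₂, hW₂.trans hW₁, Z', d', hq₂, hZ', fun i => ?_⟩
    refine (FModLib.rres_rres hW₂ hW₁ (c i)).symm.trans (Eq.trans ?_ (hd' i))
    let ρ : RSec (𝔛.Osh hloc.1) W₁ →+* RSec (𝔛.Osh hloc.1) W₂ := ((𝔛.Osh hloc.1).obj.map (homOfLE hW₂).op).hom
    let ρV : RSec (𝔛.Osh hloc.1) V →+* RSec (𝔛.Osh hloc.1) W₂ :=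
      ((𝔛.Osh hloc.1).obj.map (homOfLE (hW₂.trans h10)).op).hom
    have h1 : rres (𝔛.Osh hloc.1) hW₂ (rres (𝔛.Osh hloc.1) hW₁ (c i)) =
        ∑ z : Z, ρ (d z.1) * ρV (z.1 i) := by
      refine ((congrArg ρ ((hd i).trans (Finset.sum_coe_sort Z _).symm)).trans (map_sum ρ _ _)).trans ?_
      exact Finset.sum_congr rfl fun z _ => (map_mul ρ _ _).trans
        (congrArg (fun t => ρ (d z.1) * t) (FModLib.rres_rres hW₂ h10 (z.1 i)))
    refine h1.trans ?_
    refine (Finset.sum_congr rfl fun z _ => congrArg (fun t => t * ρV (z.1 i))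
      ((he z).trans (Finset.sum_coe_sort Z₂ _).symm)).trans ?_
    show ∑ z : Z, (∑ y : Z₂, e y.1 * ρV (y.1 z)) * ρV (z.1 i) = ∑ y : Z₂, e y.1 * ρV (w y i)
    simp only [w, map_sum, map_mul, rres_self, Finset.mul_sum, Finset.sum_mul, mul_assoc]
    exact Finset.sum_comm

end IndCohLib

end
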