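import Groth.Agent.IndCohLib.Ext
import Groth.Agent.IndCohLib.Coreflect
import Groth.Agent.FCohLib.AlgzVan
import Groth.Prelude.Def_WeakSerre

/-!
# Coherent and ind-coherent modules form weak Serre classes
-/

set_option autoImplicit false
set_option linter.style.haveILetI false
set_option maxHeartbeats 800000
set_option synthInstance.maxHeartbeats 80000

universe u

open CategoryTheory CategoryTheory.Limits AlgebraicGeometry TopologicalSpace Opposite FSch
open FModLib (MSec RSec mres rres lc)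

noncomputable section

namespace IndCohLib

variable {𝔛 : Sys.{u}} (hloc : 𝔛.IsLocNoethFormal) [CompactSpace (𝔛.X 0)] {M N : ModF 𝔛 hloc.1}

/-- Extensions of coherent modules are coherent. -/
theorem isCohF_extension (θ : M ⟶ N) [Epi θ] (hK : IsCohF 𝔛 hloc.1 (kernel θ)) (hN : IsCohF 𝔛 hloc.1 N) :
    IsCohF 𝔛 hloc.1 M := by
  classical
  have hM : IsInd hloc M := isInd_extension hloc θ (isInd_of_isCohF hloc hK) (isInd_of_isCohF hloc hN)
  refine FCohLib.isCohF_of_finGen hloc M (isQuasicoherent_of_isQC hloc hM.isQC) fun p => ?_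
  obtain ⟨V, hV, hpV, -⟩ := Opens.isBasis_iff_nbhd.mp (𝔛.X 0).isBasis_affineOpens (U := ⊤) (x := p) trivial
  obtain ⟨ι, κ, _, _, ⟨D⟩⟩ := FCohLib.exists_presOn hloc hN hV
  obtain ⟨ν, κ', _, _, ⟨E⟩⟩ := FCohLib.exists_presOn hloc hK hV
  choose b hb using fun i => exists_lift_sec hloc θ ((isInd_of_isCohF hloc hK).good V hV) (D.e i)
  refine ⟨V, ι ⊕ ν, inferInstance, Sum.elim b fun j => (kernel.ι θ).val.app (op V) (E.e j), hpV,
    fun W hW x q hq => ?_⟩
  obtain ⟨W₁, hW₁, c, hq₁, hc⟩ := D.pres.gen W hW (θ.val.app (op W) x) q hq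
  have h0 : θ.val.app (op W₁) (mres M hW₁ x - lc M (hW₁.trans hW) b c) = 0 := by
    refine (map_sub _ _ _).trans (sub_eq_zero.2 ((app_mres hloc θ hW₁ x).trans (hc.trans ?_)))
    exact ((FCohLib.app_lc θ _ b c).trans (congrArg (fun t => lc N _ t c) (funext hb))).symm
  obtain ⟨y, hy⟩ := _root_.ModSiteLib.exists_kernel_section θ W₁ _ h0
  obtain ⟨W₂, hW₂, e, hq₂, he⟩ := E.pres.gen W₁ (hW₁.trans hW) y q hq₁
  have h20 := hW₂.trans (hW₁.trans hW)
  refine ⟨W₂, hW₂.trans hW₁, Sum.elim (fun i => rres _ hW₂ (c i)) e, hq₂, ?_⟩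
  refine Eq.trans ?_ (lc_sumType M h20 _ _).symm
  refine (FModLib.mres_mres M hW₂ hW₁ x).symm.trans ?_
  have h1 : mres M hW₂ (mres M hW₁ x) - mres M hW₂ (lc M (hW₁.trans hW) b c) =
      lc M h20 (fun j => (kernel.ι θ).val.app (op V) (E.e j)) e := by
    refine (map_sub _ _ _).symm.trans ?_
    refine (congrArg (mres M hW₂) hy.symm).trans ((app_mres hloc (kernel.ι θ) hW₂ y).symm.trans ?_)
    exact (congrArg ((kernel.ι θ).val.app (op W₂)) he).trans (FCohLib.app_lc (kernel.ι θ) h20 E.e e)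
  rw [FModLib.mres_lc M hW₂ (hW₁.trans hW) b c] at h1
  exact (sub_eq_iff_eq_add'.1 h1)

theorem isWeakSerre_isCohF : WSerre.IsWeakSerre (fun G : ModF 𝔛 hloc.1 => IsCohF 𝔛 hloc.1 G) where
  exists_zero := ⟨_, isZero_zero _, isCohF_isZero hloc (isZero_zero (ModF 𝔛 hloc.1))⟩
  kernels_le M h := by
    obtain @⟨X, Y, f, k, hlim, hX, hY⟩ := h
    exact FCohLib.isCohF_of_iso (IsLimit.conePointUniqueUpToIso (kernelIsKernel f) hlim)
      (FCohLib.isCohF_kernel hloc hX hY f)
  cokernels_le M h := by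
    obtain @⟨X, Y, f, k, hcol, hX, hY⟩ := h
    exact FCohLib.isCohF_of_iso (IsColimit.coconePointUniqueUpToIso (cokernelIsCokernel f) hcol)
      (FCohLib.isCohF_cokernel hloc hX hY f)
  prop_X₂_of_shortExact {S} hS h₁ h₃ := by
    haveI := hS.epi_g
    exact isCohF_extension hloc S.g (FCohLib.isCohF_of_iso
      (IsLimit.conePointUniqueUpToIso hS.fIsKernel (limit.isLimit _)) h₁) h₃

theorem isWeakSerre_isInd : WSerre.IsWeakSerre (fun G : ModF 𝔛 hloc.1 => IsInd hloc G) where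
  exists_zero := ⟨_, isZero_zero _, isInd_of_isCohF hloc (isCohF_isZero hloc (isZero_zero (ModF 𝔛 hloc.1)))⟩
  kernels_le M h := by
    obtain @⟨X, Y, f, k, hlim, hX, hY⟩ := h
    exact isInd_of_iso hloc (IsLimit.conePointUniqueUpToIso (kernelIsKernel f) hlim)
      (isInd_kernel hloc f hX hY)
  cokernels_le M h := by
    obtain @⟨X, Y, f, k, hcol, hX, hY⟩ := h
    exact isInd_of_iso hloc (IsColimit.coconePointUniqueUpToIso (cokernelIsCokernel f) hcol)
      (isInd_cokernel hloc f hX hY)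
  prop_X₂_of_shortExact {S} hS h₁ h₃ := by
    haveI := hS.epi_g
    exact isInd_extension hloc S.g (isInd_of_iso hloc
      (IsLimit.conePointUniqueUpToIso hS.fIsKernel (limit.isLimit _)) h₁) h₃

end IndCohLib

end
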