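import Groth.Agent.IndCohLib.PushColim
import Groth.Agent.IndCohLib.WeakSerre

/-!
# Derived proper direct images of complexes with (ind-)coherent cohomology
-/

set_option autoImplicit false
set_option linter.style.haveILetI false
set_option maxHeartbeats 1000000
set_option synthInstance.maxHeartbeats 80000

universe u

open CategoryTheory CategoryTheory.Limits AlgebraicGeometry TopologicalSpace Opposite FSch
open QCohLib (HU)
open Groth.Agent

noncomputable section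

attribute [local instance] HasDerivedCategory.standard

namespace IndCohLib

variable {𝔛 : Sys.{u}} (hloc : 𝔛.IsLocNoethFormal) [CompactSpace (𝔛.X 0)] {𝔜 : Sys.{u}}
  (h𝔜 : 𝔜.IsLocNoethFormal) [CompactSpace (𝔜.X 0)] (f : 𝔛 ⟶ 𝔜)
  [SiteCmp.HasRpushD (homMor f hloc.1 h𝔜.1)]

/-- Derived direct images keep weak Serre classes kept by higher direct images. -/
theorem cohIn_rpushD (A : ObjectProperty (ModF 𝔛 hloc.1)) [WSerre.IsWeakSerre A]
    (A' : ObjectProperty (ModF 𝔜 h𝔜.1)) [WSerre.IsWeakSerre A'] (hAG : ∀ F, A F → AGood hloc F)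
    [HasInjectiveResolutions (ModF 𝔛 hloc.1)]
    (h3 : ∀ F, A F → ∀ p : ℕ, A' ((RpushF f hloc.1 h𝔜.1 p).obj F))
    (G : DerivedCategory (ModF 𝔛 hloc.1)) (hG : ∀ i : ℤ, A (SiteCmp.HMod G i)) (i : ℤ) :
    A' (SiteCmp.HMod ((SiteCmp.RpushD (homMor f hloc.1 h𝔜.1)).obj G) i) := by
  let fm := homMor f hloc.1 h𝔜.1
  let RF := SiteCmp.RpushD fm
  let α := (SiteCmp.pushKh fm).totalRightDerivedUnit DerivedCategory.Qh
    (HomotopyCategory.quasiIso (ModF 𝔛 hloc.1) (ComplexShape.up ℤ))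
  obtain ⟨B, d, hB, h⟩ := exists_basis_bound hloc f
  exact ModCohLib.cohIn_rpush fm RF α A A' h3 {W | IsAffineOpen W} B
    (exists_cover_basis (𝔛.X 0).isBasis_affineOpens)
    (fun V _ => ⟨0, (cofinal_affine hloc V).mono _ fun W hW F hF => hW F (hAG F hF)⟩)
    (exists_cover_basis hB)
    (fun V _ => ⟨d, ModCohLib.cofinalCover_of_forall _ B (exists_cover_basis hB)
      (fun W hW F hF k hk => by
        obtain ⟨n, rfl⟩ : ∃ n, k = n + 1 := ⟨k - 1, by omega⟩
        exact h W hW F (hAG F hF) n (by omega)) V⟩)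
    (d : ℤ) (fun F hF p hp => isZero_rpush_of_acyclic hloc h𝔜.1 f B hB d
      (fun V hV => h V hV F (hAG F hF)) p (by omega)) G hG i

/-- **Proper derived direct images keep coherent cohomology.** -/
theorem isCohF_hMod_rpushD (hf : IsProperHom f) (G : DerivedCategory (ModF 𝔛 hloc.1))
    (hG : ∀ i : ℤ, IsCohF 𝔛 hloc.1 (SiteCmp.HMod G i)) (i : ℤ) :
    IsCohF 𝔜 h𝔜.1 (SiteCmp.HMod ((SiteCmp.RpushD (homMor f hloc.1 h𝔜.1)).obj G) i) := by
  haveI : EnoughInjectives (ModF 𝔛 hloc.1) := inferInstance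
  haveI := isWeakSerre_isCohF hloc
  haveI := isWeakSerre_isCohF h𝔜
  exact cohIn_rpushD hloc h𝔜 f (fun G => IsCohF 𝔛 hloc.1 G) (fun G => IsCohF 𝔜 h𝔜.1 G)
    (fun F hF => (isInd_of_isCohF hloc hF).good)
    (fun F hF p => FRpushLib.isCohF_rpush (hloc := hloc) (h𝔜 := h𝔜) hf hF p) G hG i

/-- **Proper derived direct images keep ind-coherent cohomology.** -/
theorem isInd_hMod_rpushD (hf : IsProperHom f) (G : DerivedCategory (ModF 𝔛 hloc.1))
    (hG : ∀ i : ℤ, IsInd hloc (SiteCmp.HMod G i)) (i : ℤ) :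
    IsInd h𝔜 (SiteCmp.HMod ((SiteCmp.RpushD (homMor f hloc.1 h𝔜.1)).obj G) i) := by
  haveI : EnoughInjectives (ModF 𝔛 hloc.1) := inferInstance
  haveI := isWeakSerre_isInd hloc
  haveI := isWeakSerre_isInd h𝔜
  exact cohIn_rpushD hloc h𝔜 f (fun G => IsInd hloc G) (fun G => IsInd h𝔜 G)
    (fun F hF => hF.good) (fun F hF p => isInd_rpush hloc h𝔜 f hf hF p) G hG i

end IndCohLib

end
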