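import Groth.Agent.FComplLib.Levels
import Groth.Prelude.Def_FSch5

/-!
# Levels of a pseudo-proper morphism of locally Noetherian formal systems are proper
-/

set_option autoImplicit false
set_option linter.style.haveILetI false

universe u

open CategoryTheory CategoryTheory.Limits AlgebraicGeometry

namespace IndCohLib

/-- A map whose composite with a quotient by a nilpotent finitely generated ideal is of finite type is of finite type. -/
theorem finiteType_of_nilpotent_quotient {A B C : Type u} [CommRing A] [CommRing B] [CommRing C] (φ : A →+* B)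
    (π : B →+* C) (hπ : Function.Surjective π) (hn : IsNilpotent (RingHom.ker π)) (hfg : (RingHom.ker π).FG)
    (hft : (π.comp φ).FiniteType) : φ.FiniteType := by
  classical
  algebraize [φ, π.comp φ]
  let πa : B →ₐ[A] C := ⟨π, fun _ => rfl⟩
  obtain ⟨T, hT⟩ := (inferInstance : Algebra.FiniteType A C).out
  obtain ⟨G, hG⟩ := hfg
  let g : C → B := Function.surjInv hπ
  let S := Algebra.adjoin A ((T.image g ∪ G : Finset B) : Set B)
  refine ⟨⟨T.image g ∪ G, ?_⟩⟩
  let ψ : S →+* B := S.subtype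
  let J : Ideal S := (RingHom.ker π).comap ψ
  have hsurj : Function.Surjective (π.comp ψ) := fun c => by
    have hc : c ∈ (Algebra.adjoin A ((T : Set C))) := hT.ge Algebra.mem_top
    have hmap : Algebra.adjoin A (T : Set C) ≤ S.map πa := by
      refine Algebra.adjoin_le fun t ht => ⟨g t, Algebra.subset_adjoin ?_, Function.surjInv_eq hπ t⟩
      exact Finset.mem_coe.2 (Finset.mem_union_left _ (Finset.mem_image_of_mem g ht))
    obtain ⟨b, hb, hbc⟩ := hmap hc
    exact ⟨⟨b, hb⟩, hbc⟩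
  have hJ : IsNilpotent J := by
    obtain ⟨n, hn⟩ := hn
    refine ⟨n, bot_unique fun x hx => ?_⟩
    have h1 : ψ x ∈ (RingHom.ker π) ^ n :=
      Ideal.pow_right_mono Ideal.map_comap_le n ((Ideal.map_pow ψ J n) ▸ Ideal.mem_map_of_mem ψ hx)
    rw [hn, Ideal.zero_eq_bot, Ideal.mem_bot] at h1
    exact Ideal.mem_bot.2 (Subtype.ext h1)
  have hle : RingHom.ker π ≤ J.map ψ := by
    rw [← hG, Ideal.span_le]
    intro x hx
    have hxS : x ∈ S := Algebra.subset_adjoin (Finset.mem_coe.2 (Finset.mem_union_right _ hx))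
    exact Ideal.mem_map_of_mem ψ (x := (⟨x, hxS⟩ : S))
      (show ψ ⟨x, hxS⟩ ∈ RingHom.ker π from hG ▸ Ideal.subset_span hx)
  refine eq_top_iff.2 fun b _ => ?_
  obtain ⟨s, rfl⟩ := FComplLib.surjective_of_thickening ψ π J hJ hsurj hle b
  exact s.2

variable {X₀ Y₀ X Y : Scheme.{u}} {i₀ : X₀ ⟶ X} {f₀ : X₀ ⟶ Y₀} {f : X ⟶ Y} {j : Y₀ ⟶ Y}

theorem locallyOfFiniteType_of_square [IsLocallyNoetherian X] [IsClosedImmersion i₀] [Surjective i₀]
    [IsClosedImmersion j] (sq : i₀ ≫ f = f₀ ≫ j) [LocallyOfFiniteType f₀] : LocallyOfFiniteType f := by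
  refine ⟨fun {V} hV {W} hW e => ?_⟩
  have := IsLocallyNoetherian.component_noetherian ⟨W, hW⟩
  have hker : RingHom.ker (i₀.app W).hom = i₀.ker.ideal ⟨W, hW⟩ := (Scheme.Hom.ker_apply i₀ ⟨W, hW⟩).symm
  refine finiteType_of_nilpotent_quotient _ (i₀.app W).hom (i₀.app_surjective W hW) ?_ (IsNoetherian.noetherian _) ?_
  · rw [hker]
    exact FComplLib.isNilpotent_ker ⟨W, hW⟩
  have hle : i₀ ⁻¹ᵁ W ≤ f₀ ⁻¹ᵁ (j ⁻¹ᵁ V) := fun x hx => by
    have := e hx
    change f (i₀ x) ∈ V at this
    change j (f₀ x) ∈ V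
    rwa [← Scheme.Hom.comp_apply, ← sq, Scheme.Hom.comp_apply]
  have hc : f.appLE V W e ≫ i₀.app W = j.app V ≫ f₀.appLE (j ⁻¹ᵁ V) (i₀ ⁻¹ᵁ W) hle := by
    rw [Scheme.Hom.app_eq_appLE, Scheme.Hom.app_eq_appLE, Scheme.Hom.appLE_comp_appLE, Scheme.Hom.appLE_comp_appLE]
    simp only [sq]
  rw [← CommRingCat.hom_comp, hc, CommRingCat.hom_comp]
  exact RingHom.FiniteType.comp (LocallyOfFiniteType.finiteType_appLE f₀ (hV.preimage j) (hW.preimage i₀) _)
    (RingHom.FiniteType.of_surjective _ (j.app_surjective V hV))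

theorem isSeparated_of_square [IsClosedImmersion i₀] [Surjective i₀] [IsClosedImmersion j]
    (sq : i₀ ≫ f = f₀ ≫ j) [IsSeparated f₀] : IsSeparated f := by
  have hsep : IsSeparated (i₀ ≫ f) := by rw [sq]; infer_instance
  let m := pullback.map (i₀ ≫ f) (i₀ ≫ f) f f i₀ i₀ (𝟙 Y) (by simp) (by simp)
  have hm : IsClosedImmersion m :=
    MorphismProperty.pullbackMap (P := @IsClosedImmersion) ‹_› ‹_› rfl rfl
  have hd : pullback.diagonal (i₀ ≫ f) ≫ m = i₀ ≫ pullback.diagonal f := by
    apply pullback.hom_ext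
    · simp only [m, Category.assoc, pullback.lift_fst, pullback.diagonal_fst_assoc,
        pullback.diagonal_fst, Category.comp_id]
    · simp only [m, Category.assoc, pullback.lift_snd, pullback.diagonal_snd_assoc,
        pullback.diagonal_snd, Category.comp_id]
  refine ⟨IsClosedImmersion.of_isPreimmersion _ ?_⟩
  have he : Set.range (pullback.diagonal f) = Set.range (pullback.diagonal (i₀ ≫ f) ≫ m) := by
    rw [hd, Scheme.Hom.comp_base, TopCat.coe_comp, Set.range_comp, i₀.surjective.range_eq,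
      Set.image_univ]
  rw [he]
  exact (pullback.diagonal (i₀ ≫ f) ≫ m).isClosedEmbedding.isClosed_range

theorem isProper_of_square [IsLocallyNoetherian X] [IsClosedImmersion i₀] [Surjective i₀] [IsClosedImmersion j]
    (sq : i₀ ≫ f = f₀ ≫ j) [IsProper f₀] : IsProper f where
  toIsSeparated := isSeparated_of_square sq
  toUniversallyClosed := by
    have : UniversallyClosed (i₀ ≫ f) := by rw [sq]; infer_instance
    exact UniversallyClosed.of_comp_surjective i₀ f
  toLocallyOfFiniteType := locallyOfFiniteType_of_square sq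

/-- Every level of a pseudo-proper morphism is proper. -/
theorem isProper_app {𝔛 𝔜 : FSch.Sys.{u}} (h𝔛 : 𝔛.IsLocNoethFormal) (h𝔜 : 𝔜.IsFormal) (f : 𝔛 ⟶ 𝔜)
    [IsProper ((f : FSch.Hom 𝔛 𝔜).app 0)] (n : ℕ) : IsProper ((f : FSch.Hom 𝔛 𝔜).app n) := by
  have := h𝔛.2.2 n
  have := FComplLib.isClosedImmersion_toX h𝔛.1 n
  have := FComplLib.surjective_toX h𝔛.1 n
  have := FComplLib.isClosedImmersion_toX h𝔜 n
  exact isProper_of_square (FSch.Hom.toX_comm f n)

end IndCohLib
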