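import Groth.Agent.IndCohLib.QCTCoreflect

/-!
# The coreflection to quasi-coherent torsion modules commutes with filtered colimits
-/

set_option autoImplicit false
set_option linter.style.haveILetI false
set_option maxHeartbeats 800000

universe u

open CategoryTheory CategoryTheory.Limits AlgebraicGeometry TopologicalSpace Opposite FSch

noncomputable section

namespace IndCohLib

variable {𝔛 : Sys.{u}} (hloc : 𝔛.IsLocNoethFormal) [CompactSpace (𝔛.X 0)]

theorem preservesColimit_coreflection (Q : ModF 𝔛 hloc.1 ⥤ (FTors.IsQCT 𝔛 hloc.1).FullSubcategory)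
    (adj : (FTors.IsQCT 𝔛 hloc.1).ι ⊣ Q) {J : Type u} [SmallCategory J] [IsFiltered J]
    (K : J ⥤ ModF 𝔛 hloc.1) : PreservesColimit K Q := by
  let P := FTors.IsQCT 𝔛 hloc.1
  obtain ⟨hz, hk, hcok, hfp⟩ := qct_closed hloc
  have : P.IsClosedUnderIsomorphisms := ⟨fun e h => isQCT_of_iso hloc e h⟩
  have := isQCT_closed_colimits hloc J
  have : HasColimitsOfShape J P.FullSubcategory := inferInstance
  have : PreservesColimit (K ⋙ Q) P.ι := preservesColimit_of_createsColimit_and_hasColimit _ P.ι
  obtain ⟨T, g, hg, hsep⟩ := exists_separating_qct hloc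
  let c := colimit.cocone K
  let hc : IsColimit c := colimit.isColimit K
  let c' := colimit.cocone (K ⋙ Q)
  let hc' : IsColimit c' := colimit.isColimit (K ⋙ Q)
  let φ : c'.pt ⟶ (Q.mapCocone c).pt := hc'.desc (Q.mapCocone c)
  have hfac : ∀ j, c'.ι.app j ≫ φ = Q.map (c.ι.app j) := fun j => hc'.fac (Q.mapCocone c) j
  have hsurj : ∀ t (h : g t ⟶ Q.obj c.pt), ∃ k : g t ⟶ c'.pt, k ≫ φ = h := fun t h => by
    haveI := preservesColimit_coyoneda_coh hloc K (hg t)
    obtain ⟨j, a, ha⟩ := Types.jointly_surjective _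
      (isColimitOfPreserves (coyoneda.obj (op (g t).obj)) hc) ((adj.homEquiv _ _).symm h)
    refine ⟨adj.homEquiv _ _ a ≫ c'.ι.app j, ?_⟩
    rw [Category.assoc, hfac]
    refine (adj.homEquiv_naturality_right a (c.ι.app j)).symm.trans ?_
    exact (congrArg (adj.homEquiv _ _) (show a ≫ c.ι.app j = _ from ha)).trans (Equiv.apply_symm_apply _ _)
  have hinj : ∀ t (h : g t ⟶ c'.pt), h ≫ φ = 0 → h = 0 := fun t h h0 => by
    haveI := preservesColimit_coyoneda_coh hloc ((K ⋙ Q) ⋙ P.ι) (hg t)
    obtain ⟨j, a, ha⟩ := Types.jointly_surjective _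
      (isColimitOfPreserves (coyoneda.obj (op (g t).obj)) (isColimitOfPreserves P.ι hc')) h.hom
    let a' : g t ⟶ Q.obj (K.obj j) := P.homMk a
    have hh : a' ≫ c'.ι.app j = h := P.ι.map_injective ((P.ι.map_comp _ _).trans ha)
    have hb : (adj.homEquiv _ _).symm a' ≫ c.ι.app j = 0 := by
      refine (adj.homEquiv _ _).injective ?_
      rw [adj.homEquiv_naturality_right, Equiv.apply_symm_apply, ← hfac, ← Category.assoc, hh, h0]
      haveI : Q.Additive := adj.right_adjoint_additive
      haveI : Q.PreservesZeroMorphisms := inferInstance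
      exact ((adj.homEquiv_unit _ _ _).trans ((congrArg (fun x => adj.unit.app (g t) ≫ x) (Q.map_zero _ _)).trans comp_zero)).symm
    haveI := preservesColimit_coyoneda_coh hloc K (hg t)
    obtain ⟨k, f, f', hf⟩ := (Types.FilteredColimit.isColimit_eq_iff _
      (isColimitOfPreserves (coyoneda.obj (op (g t).obj)) hc)
      (xi := (adj.homEquiv _ _).symm a') (xj := (0 : (g t).obj ⟶ K.obj j))).1 (hb.trans zero_comp.symm)
    have hf' : (adj.homEquiv _ _).symm a' ≫ K.map f = 0 := hf.trans (zero_comp : (0 : (g t).obj ⟶ K.obj j) ≫ K.map f' = 0)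
    rw [← hh, ← c'.w f, ← Category.assoc]
    rw [show a' ≫ (K ⋙ Q).map f = 0 from (adj.homEquiv _ _).symm.injective (by
      rw [Functor.comp_map, adj.homEquiv_naturality_right_symm, hf']
      exact ((adj.homEquiv_counit _ _ _).trans ((congrArg (fun x => x ≫ adj.counit.app (K.obj k)) (P.ι.map_zero _ _)).trans zero_comp)).symm), zero_comp]
  haveI : Mono φ := Preadditive.mono_of_cancel_zero φ fun u hu => hsep _ _ fun G hG a => by
    obtain ⟨t⟩ := hG
    refine (hinj t (a ≫ u) ?_).trans comp_zero.symm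
    rw [Category.assoc, hu, comp_zero]
  haveI : Epi φ := Preadditive.epi_of_cancel_zero φ fun u hu => hsep _ _ fun G hG a => by
    obtain ⟨t⟩ := hG
    obtain ⟨k, rfl⟩ := hsurj t a
    rw [Category.assoc, hu, comp_zero, comp_zero]
  haveI : IsIso (hc'.desc (Q.mapCocone c)) := isIso_of_mono_of_epi φ
  exact preservesColimit_of_preserves_colimit_cocone hc (IsColimit.ofPointIso (t := Q.mapCocone c) hc')

end IndCohLib

end
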