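import Groth.Agent.IndCohLib.QCTClosure
import Groth.Agent.S6840
import Mathlib.CategoryTheory.Presentable.Directed

/-!
# The category of quasi-coherent torsion modules
-/

set_option autoImplicit false
set_option linter.style.haveILetI false
set_option maxHeartbeats 800000

universe u

open CategoryTheory CategoryTheory.Limits AlgebraicGeometry TopologicalSpace Opposite FSch
open FModLib (MSec RSec oK mres rres lc)

noncomputable section

namespace IndCohLib

variable {𝔛 : Sys.{u}} (hloc : 𝔛.IsLocNoethFormal)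

/-- Sections of quasi-coherent torsion modules lie in coherent torsion submodules. -/
theorem exists_coh_qct {M : ModF 𝔛 hloc.1} (hM : FTors.IsQCT 𝔛 hloc.1 M) (W : (𝔛.X 0).Opens) (x : MSec M W)
    {q : 𝔛.X 0} (hq : q ∈ W) :
    ∃ (G : ModF 𝔛 hloc.1) (_ : IsCohF 𝔛 hloc.1 G) (_ : FTors.IsQCT 𝔛 hloc.1 G) (θ : G ⟶ M)
      (W' : (𝔛.X 0).Opens) (hW' : W' ≤ W) (y : MSec G W'), q ∈ W' ∧ θ.val.app (op W') y = mres M hW' x := by
  obtain ⟨J, _, _, pres, hp, hm⟩ := exists_presentation_mono hloc (isInd_of_isQCT hloc hM)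
  obtain ⟨V, hV, hqV, hle⟩ := Opens.isBasis_iff_nbhd.mp (𝔛.X 0).isBasis_affineOpens hq
  obtain ⟨j, y, hy⟩ := stage_section hloc pres.isColimit hV.isCompact (mres M hle x)
  exact ⟨pres.diag.obj j, hp j,
    isQCT_of_isInd hloc (isInd_of_isCohF hloc (hp j)) (@isTors_of_mono _ hloc _ _ (pres.ι.app j) (hm j) hM.1),
    pres.ι.app j, V, hle, y, hqV, hy⟩

/-- Coherent torsion modules separate the quasi-coherent torsion ones. -/
theorem exists_separating_qct :
    ∃ (T : Type u) (g : T → (FTors.IsQCT 𝔛 hloc.1).FullSubcategory),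
      (∀ t, IsCohF 𝔛 hloc.1 (g t).obj) ∧ (ObjectProperty.ofObj g).IsSeparating := by
  let Q := FTors.IsQCT 𝔛 hloc.1
  have hwp : WellPowered.{u} (ModF 𝔛 hloc.1) :=
    IsGrothendieckAbelian.wellPowered.{u} (SheafOfModules.{u} (ModSite.ringSh (𝔛.Osh hloc.1)))
  obtain ⟨P, hP⟩ := exists_cover_all hloc
  let S := {K : Subobject P // IsCohF 𝔛 hloc.1 (cokernel K.arrow) ∧ Q (cokernel K.arrow)}
  obtain ⟨T, ⟨eT⟩⟩ := Small.equiv_small.{u} (α := S)
  let g : T → Q.FullSubcategory := fun t => ⟨cokernel (eT.symm t).1.arrow, (eT.symm t).2.2⟩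
  refine ⟨T, g, fun t => (eT.symm t).2.1, ?_⟩
  intro A B a b hab
  refine Q.ι.map_injective (SheafOfModules.hom_ext (PresheafOfModules.hom_ext fun ⟨W⟩ =>
    ModuleCat.hom_ext (LinearMap.ext fun x => sub_eq_zero.1 ?_)))
  refine FCohLib.eq_zero_of_points _ _ fun q hq => ?_
  obtain ⟨G, hG, hGt, θ, W', hW', y, hq', hy⟩ := exists_coh_qct hloc A.property W x hq
  obtain ⟨t, ⟨i⟩⟩ : ∃ t, Nonempty ((g t).obj ≅ G) := by
    obtain ⟨φ, hφ⟩ := hP G hG
    obtain ⟨i⟩ := cokernel_kernelSubobject φ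
    let K : S := ⟨kernelSubobject φ, (SheafOfModules.isFinitePresentation (ModSite.ringSh (𝔛.Osh hloc.1))).prop_of_iso i.symm hG,
      isQCT_of_iso hloc i.symm hGt⟩
    refine ⟨eT K, ⟨?_⟩⟩
    show cokernel (eT.symm (eT K)).1.arrow ≅ G
    rw [eT.symm_apply_apply]
    exact i
  have h1 : Q.ι.map (Q.homMk (i.hom ≫ θ)) ≫ Q.ι.map a = Q.ι.map (Q.homMk (i.hom ≫ θ)) ≫ Q.ι.map b :=
    (Q.ι.map_comp _ _).symm.trans ((congrArg Q.ι.map (hab (g t) (ObjectProperty.ofObj_apply g t) _)).trans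
      (Q.ι.map_comp _ _))
  have hθ : θ ≫ Q.ι.map a = θ ≫ Q.ι.map b := by
    refine (cancel_epi i.hom).1 ?_
    simpa [Category.assoc] using h1
  refine ⟨W', hW', hq', ?_⟩
  refine (map_sub _ _ _).trans (sub_eq_zero.2 ?_)
  refine (app_mres hloc (Q.ι.map a) hW' x).symm.trans (Eq.trans ?_ (app_mres hloc (Q.ι.map b) hW' x))
  refine (congrArg ((Q.ι.map a).val.app (op W')) hy.symm).trans ?_
  exact (app_comp hloc θ _ _ hθ y).trans ((app_comp hloc θ _ _ rfl y).symm.trans (congrArg _ hy))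

/-- The abelian subcategory structure of quasi-coherent torsion modules. -/
theorem qct_closed :
    (FTors.IsQCT 𝔛 hloc.1).ContainsZero ∧ (FTors.IsQCT 𝔛 hloc.1).IsClosedUnderKernels ∧
      (FTors.IsQCT 𝔛 hloc.1).IsClosedUnderCokernels ∧ (FTors.IsQCT 𝔛 hloc.1).IsClosedUnderFiniteProducts := by
  let Q := FTors.IsQCT 𝔛 hloc.1
  have hz : ∀ {X : ModF 𝔛 hloc.1}, IsZero X → Q X := fun h =>
    isQCT_of_isInd hloc (isInd_of_isCohF hloc (isCohF_isZero hloc h)) (isTors_of_isZero hloc h)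
  have : Q.IsClosedUnderIsomorphisms := ⟨fun e h => isQCT_of_iso hloc e h⟩
  refine ⟨⟨⟨_, isZero_zero _, hz (isZero_zero _)⟩⟩, ⟨fun {M} h => ?_⟩, ⟨fun {M} h => ?_⟩, ?_⟩
  · obtain @⟨X, Y, f, k, hlim, hX, hY⟩ := h
    exact isQCT_of_iso hloc (IsLimit.conePointUniqueUpToIso (kernelIsKernel f) hlim) (isQCT_kernel hloc f hX hY)
  · obtain @⟨X, Y, f, k, hcol, hX, hY⟩ := h
    exact isQCT_of_iso hloc (IsColimit.coconePointUniqueUpToIso (cokernelIsCokernel f) hcol)
      (isQCT_of_isInd hloc (isInd_cokernel hloc f (isInd_of_isQCT hloc hX) (isInd_of_isQCT hloc hY))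
        (isTors_of_epi hloc (cokernel.π f) hY.1))
  · have : Q.IsClosedUnderBinaryProducts := ObjectProperty.IsClosedUnderLimitsOfShape.mk' (by
      rintro X ⟨F, hF⟩
      exact isQCT_of_iso hloc (biprod.isoProd _ _ ≪≫ (HasLimit.isoOfNatIso (diagramIsoPair F)).symm)
        (isQCT_of_isInd hloc (isInd_biprod hloc (isInd_of_isQCT hloc (hF ⟨WalkingPair.left⟩))
          (isInd_of_isQCT hloc (hF ⟨WalkingPair.right⟩)))
          (isTors_biprod hloc (hF ⟨WalkingPair.left⟩).1 (hF ⟨WalkingPair.right⟩).1)))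
    have : Q.IsClosedUnderLimitsOfShape (Discrete.{0} PEmpty) := ObjectProperty.IsClosedUnderLimitsOfShape.mk' (by
      rintro X ⟨F, hF⟩
      exact hz (IsTerminal.isZero (IsTerminal.ofUnique _ (h := fun Y =>
        { default := limit.lift F { pt := Y, π := Discrete.natTrans fun j => j.as.elim }
          uniq := fun g => limit.hom_ext fun j => j.as.elim }))))
    exact ObjectProperty.IsClosedUnderFiniteProducts.mk'

/-- **The coreflection.** -/
theorem isLeftAdjoint_qct_ι : (FTors.IsQCT 𝔛 hloc.1).ι.IsLeftAdjoint := by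
  let Q := FTors.IsQCT 𝔛 hloc.1
  obtain ⟨hz, hk, hc, hfp⟩ := qct_closed hloc
  have : Q.IsClosedUnderIsomorphisms := ⟨fun e h => isQCT_of_iso hloc e h⟩
  have := isQCT_closed_colimits hloc
  have : HasColimitsOfSize.{u, u} Q.FullSubcategory := ⟨fun J _ => inferInstance⟩
  have : PreservesColimitsOfSize.{u, u} Q.ι := ⟨fun {J} _ => ⟨fun {K} => preservesColimit_of_createsColimit_and_hasColimit K Q.ι⟩⟩
  have hwp : WellPowered.{u} (ModF 𝔛 hloc.1) :=
    IsGrothendieckAbelian.wellPowered.{u} (SheafOfModules.{u} (ModSite.ringSh (𝔛.Osh hloc.1)))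
  have hmono : Q.ι.PreservesMonomorphisms := Q.preservesMonomorphisms_ι_of_isNormalEpiCategory
  have hwpQ : WellPowered.{u} Q.FullSubcategory := ⟨fun X => by
    let t : Subobject X → Subobject X.obj :=
      Subobject.lift (fun A f _ => Subobject.mk (Q.ι.map f)) fun A B f g _ _ i hi =>
        Subobject.mk_eq_mk_of_comm _ _ (Q.ι.mapIso i) (by
          rw [← hi, Q.ι.map_comp]
          rfl)
    refine small_of_injective (f := t) ?_
    intro a b
    induction a using Subobject.ind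
    induction b using Subobject.ind
    rename_i A f _ B g _
    intro h
    let i := Subobject.isoOfMkEqMk (Q.ι.map f) (Q.ι.map g) h
    refine Subobject.mk_eq_mk_of_comm _ _ (Q.fullyFaithfulι.preimageIso i) (Q.ι.map_injective ?_)
    rw [Q.ι.map_comp, Functor.FullyFaithful.preimageIso_hom, Functor.FullyFaithful.map_preimage]
    exact Subobject.ofMkLEMk_comp _⟩
  have : WellPowered.{u} Q.FullSubcategoryᵒᵖ := @Abelian.wellPowered_opposite _ _ _ _ hwpQ
  obtain ⟨T, g, -, hg⟩ := exists_separating_qct hloc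
  exact isLeftAdjoint_of_preservesColimits_of_isSeparating (P := ObjectProperty.ofObj g) hg Q.ι

include hloc in
theorem exists_refinement [CompactSpace (𝔛.X 0)] (ι : Type u) (V : ι → Opens (𝔛.X 0).toTopCat) (hV : iSup V = ⊤) :
    ∃ (J : Type u) (_ : Finite J) (U : J → Opens (𝔛.X 0).toTopCat), iSup U = ⊤ ∧ (∀ j, ∃ i, U j ≤ V i) ∧
      ∀ j j', IsCompact ((U j ⊓ U j' : Opens (𝔛.X 0).toTopCat) : Set (𝔛.X 0).toTopCat) := by
  classical
  have hp : ∀ p : 𝔛.X 0, ∃ U : (𝔛.X 0).Opens, IsAffineOpen U ∧ p ∈ U ∧ ∃ i, U ≤ V i := fun p => by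
    obtain ⟨i, hi⟩ := Opens.mem_iSup.1 (hV.ge (trivial : p ∈ (⊤ : Opens _)))
    obtain ⟨U, hU, hpU, hle⟩ := Opens.isBasis_iff_nbhd.mp (𝔛.X 0).isBasis_affineOpens hi
    exact ⟨U, hU, hpU, i, hle⟩
  choose U hU hpU i hi using hp
  obtain ⟨t, ht⟩ := isCompact_univ.elim_finite_subcover (fun p => (U p : Set (𝔛.X 0))) (fun p => (U p).isOpen)
    fun p _ => Set.mem_iUnion.mpr ⟨p, hpU p⟩
  refine ⟨t, inferInstance, fun p => U p.1, eq_top_iff.2 fun p _ => ?_, fun p => ⟨i p.1, hi p.1⟩,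
    fun p p' => isCompact_inf_affine hloc (hU p.1) (U p'.1)⟩
  obtain ⟨q, hq, hpq⟩ := Set.mem_iUnion₂.mp (ht (Set.mem_univ p))
  exact Opens.mem_iSup.2 ⟨⟨q, hq⟩, hpq⟩

/-- Maps out of coherent modules commute with filtered colimits. -/
theorem preservesColimit_coyoneda_coh [CompactSpace (𝔛.X 0)] {J : Type u} [SmallCategory J] [IsFiltered J]
    (K : J ⥤ ModF 𝔛 hloc.1) {G : ModF 𝔛 hloc.1} (hG : IsCohF 𝔛 hloc.1 G) :
    PreservesColimit K (coyoneda.obj (op G)) := by
  obtain ⟨I, _, _, _, F, _⟩ := IsFiltered.exists_directed J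
  haveI : SheafOfModules.IsFinitePresentation (R := ModSite.ringSh (𝔛.Osh hloc.1)) G := hG
  haveI : PreservesColimit (F ⋙ K) (coyoneda.obj (op G)) :=
    Groth.Agent.S6840.result (X := (𝔛.X 0).toTopCat) (𝔛.Osh hloc.1) (exists_refinement hloc) (F ⋙ K) G
  exact Functor.Final.preservesColimit_of_comp F

end IndCohLib

end
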