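import Groth.Agent.IndCohLib.QCTRpush
import Groth.Agent.IndCohLib.Proper

/-!
# Derived direct images of complexes with quasi-coherent torsion cohomology
-/

set_option autoImplicit false
set_option linter.style.haveILetI false
set_option maxHeartbeats 1000000
set_option synthInstance.maxHeartbeats 80000

universe u

open CategoryTheory CategoryTheory.Limits AlgebraicGeometry TopologicalSpace Opposite FSch
open Groth.Agent

noncomputable section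

attribute [local instance] HasDerivedCategory.standard

namespace IndCohLib

variable {𝔛 : Sys.{u}} (hloc : 𝔛.IsLocNoethFormal) [CompactSpace (𝔛.X 0)]

theorem isWeakSerre_qct : WSerre.IsWeakSerre (FTors.IsQCT 𝔛 hloc.1) where
  exists_zero := ⟨_, isZero_zero _, isQCT_of_isInd hloc
    (isInd_of_isCohF hloc (isCohF_isZero hloc (isZero_zero (ModF 𝔛 hloc.1)))) (isTors_of_isZero hloc (isZero_zero _))⟩
  kernels_le M h := by
    obtain @⟨X, Y, f, k, hlim, hX, hY⟩ := h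
    exact isQCT_of_iso hloc (IsLimit.conePointUniqueUpToIso (kernelIsKernel f) hlim) (isQCT_kernel hloc f hX hY)
  cokernels_le M h := by
    obtain @⟨X, Y, f, k, hcol, hX, hY⟩ := h
    exact isQCT_of_iso hloc (IsColimit.coconePointUniqueUpToIso (cokernelIsCokernel f) hcol)
      (isQCT_of_isInd hloc (isInd_cokernel hloc f (isInd_of_isQCT hloc hX) (isInd_of_isQCT hloc hY))
        (isTors_of_epi hloc (cokernel.π f) hY.1))
  prop_X₂_of_shortExact {S} hS h₁ h₃ := by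
    haveI := hS.epi_g
    have h₁' := isQCT_of_iso hloc (IsLimit.conePointUniqueUpToIso hS.fIsKernel (limit.isLimit _)) h₁
    exact isQCT_of_isInd hloc (isInd_extension hloc S.g (isInd_of_isQCT hloc h₁') (isInd_of_isQCT hloc h₃))
      (isTors_extension hloc S.g h₁'.1 h₃.1)

theorem isWeakSerre_cohTors :
    WSerre.IsWeakSerre (fun M : ModF 𝔛 hloc.1 => IsCohF 𝔛 hloc.1 M ∧ FTors.IsQCT 𝔛 hloc.1 M) :=
  have hc := isWeakSerre_isCohF hloc
  have ht := isWeakSerre_qct hloc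
  { exists_zero := ⟨_, isZero_zero _, isCohF_isZero hloc (isZero_zero _), isQCT_of_isInd hloc
      (isInd_of_isCohF hloc (isCohF_isZero hloc (isZero_zero (ModF 𝔛 hloc.1)))) (isTors_of_isZero hloc (isZero_zero _))⟩
    kernels_le := fun M h => by
      obtain @⟨X, Y, f, k, hlim, hX, hY⟩ := h
      exact ⟨hc.kernels_le _ ⟨f, k, hlim, hX.1, hY.1⟩, ht.kernels_le _ ⟨f, k, hlim, hX.2, hY.2⟩⟩
    cokernels_le := fun M h => by
      obtain @⟨X, Y, f, k, hcol, hX, hY⟩ := h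
      exact ⟨hc.cokernels_le _ ⟨f, k, hcol, hX.1, hY.1⟩, ht.cokernels_le _ ⟨f, k, hcol, hX.2, hY.2⟩⟩
    prop_X₂_of_shortExact := fun hS h₁ h₃ =>
      ⟨hc.prop_X₂_of_shortExact hS h₁.1 h₃.1, ht.prop_X₂_of_shortExact hS h₁.2 h₃.2⟩ }

variable {𝔜 : Sys.{u}} (h𝔜 : 𝔜.IsLocNoethFormal) [CompactSpace (𝔜.X 0)] (f : 𝔛 ⟶ 𝔜)
  [SiteCmp.HasRpushD (homMor f hloc.1 h𝔜.1)]

theorem isDQCT_rpushD (G : DerivedCategory (ModF 𝔛 hloc.1)) (hG : FTors.IsDQCT 𝔛 hloc.1 G) :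
    FTors.IsDQCT 𝔜 h𝔜.1 ((SiteCmp.RpushD (homMor f hloc.1 h𝔜.1)).obj G) := fun i => by
  haveI : EnoughInjectives (ModF 𝔛 hloc.1) := inferInstance
  haveI : HasInjectiveResolutions (ModF 𝔛 hloc.1) := inferInstance
  haveI := isWeakSerre_qct hloc
  haveI := isWeakSerre_qct h𝔜
  exact cohIn_rpushD hloc h𝔜 f (FTors.IsQCT 𝔛 hloc.1) (FTors.IsQCT 𝔜 h𝔜.1)
    (fun F hF => (isInd_of_isQCT hloc hF).good) (fun F hF p => isQCT_rpush hloc h𝔜 f hF p) G hG i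

theorem isCohF_hMod_rpushD_tors [IsProper ((f : Hom 𝔛 𝔜).app 0)] (G : DerivedCategory (ModF 𝔛 hloc.1))
    (hG : FTors.IsDQCT 𝔛 hloc.1 G) (hGc : ∀ i : ℤ, IsCohF 𝔛 hloc.1 (SiteCmp.HMod G i)) (i : ℤ) :
    IsCohF 𝔜 h𝔜.1 (SiteCmp.HMod ((SiteCmp.RpushD (homMor f hloc.1 h𝔜.1)).obj G) i) := by
  haveI : EnoughInjectives (ModF 𝔛 hloc.1) := inferInstance
  haveI : HasInjectiveResolutions (ModF 𝔛 hloc.1) := inferInstance
  haveI := isWeakSerre_cohTors hloc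
  haveI := isWeakSerre_isCohF h𝔜
  exact cohIn_rpushD hloc h𝔜 f (fun M => IsCohF 𝔛 hloc.1 M ∧ FTors.IsQCT 𝔛 hloc.1 M)
    (fun M => IsCohF 𝔜 h𝔜.1 M) (fun F hF => (isInd_of_isCohF hloc hF.1).good)
    (fun F hF p => isCohF_rpush_coh hloc h𝔜 f hF.1 hF.2.1 p) G (fun j => ⟨hGc j, hG j⟩) i

omit [CompactSpace (𝔜.X 0)] [SiteCmp.HasRpushD (homMor f hloc.1 h𝔜.1)] in
theorem isQCT_pushF (M : ModF 𝔛 hloc.1) (hM : FTors.IsQCT 𝔛 hloc.1 M) :
    FTors.IsQCT 𝔜 h𝔜.1 ((pushF f hloc.1 h𝔜.1).obj M) := by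
  haveI : EnoughInjectives (ModF 𝔛 hloc.1) := inferInstance
  haveI : HasInjectiveResolutions (ModF 𝔛 hloc.1) := inferInstance
  haveI := preservesFiniteLimits_push hloc h𝔜.1 f
  haveI : SiteCmp.HasRpushD (homMor f hloc.1 h𝔜.1) :=
    DerLib.KInjDerived.hasRightDerivedFunctor _ (DerLib.KInjDerived.enoughKInj _)
  exact isQCT_of_iso h𝔜 ((pushF f hloc.1 h𝔜.1).rightDerivedZeroIsoSelf.app M) (isQCT_rpush hloc h𝔜 f hM 0)

omit [CompactSpace (𝔜.X 0)] [SiteCmp.HasRpushD (homMor f hloc.1 h𝔜.1)] in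
theorem isCohF_pushF [IsProper ((f : Hom 𝔛 𝔜).app 0)] (M : ModF 𝔛 hloc.1) (hc : IsCohF 𝔛 hloc.1 M)
    (ht : FTors.IsTorsF 𝔛 hloc.1 M) : IsCohF 𝔜 h𝔜.1 ((pushF f hloc.1 h𝔜.1).obj M) := by
  haveI : EnoughInjectives (ModF 𝔛 hloc.1) := inferInstance
  haveI : HasInjectiveResolutions (ModF 𝔛 hloc.1) := inferInstance
  haveI := preservesFiniteLimits_push hloc h𝔜.1 f
  exact FCohLib.isCohF_of_iso ((pushF f hloc.1 h𝔜.1).rightDerivedZeroIsoSelf.app M)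
    (isCohF_rpush_coh hloc h𝔜 f hc ht 0)

end IndCohLib

end
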