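import Groth.Agent.IndCohLib.QCTClosure
import Groth.Agent.FRpushLib.LevelMod
import Groth.Agent.QCohLib.AffineFinite
import Groth.Agent.FCohLib.Stable
import Groth.Agent.FModLib.AffSpan

/-!
# Modules on the levels as quasi-coherent torsion modules on the formal scheme
-/

set_option autoImplicit false
set_option linter.style.haveILetI false
set_option maxHeartbeats 800000

universe u

open CategoryTheory CategoryTheory.Limits AlgebraicGeometry TopologicalSpace Opposite FSch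
open FModLib (MSec RSec oK piSec mres rres lc)
open FCohLib (Basic)

noncomputable section

namespace IndCohLib

variable {𝔛 : Sys.{u}} (hloc : 𝔛.IsLocNoethFormal) (k : ℕ) (N : (𝔛.X k).Modules)

/-- The direct image of a module on a level. -/
abbrev lP : ModF 𝔛 hloc.1 := (FRpushLib.lPush hloc.1 k).obj N

/-- A section as a section on the level. -/
abbrev toN {U : (𝔛.X 0).Opens} (x : MSec (lP hloc k N) U) : Γ(N, 𝔛.lvU hloc.1 k U) := x

theorem killed_lPush {U : (𝔛.X 0).Opens} (x : MSec (lP hloc k N) U) : Killed hloc k (lP hloc k N) x :=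
  fun W h a ha => (congrArg (fun c : Γ(𝔛.X k, 𝔛.lvU hloc.1 k W) =>
    (c • toN hloc k N (mres (lP hloc k N) h x) : Γ(N, 𝔛.lvU hloc.1 k W))) ha).trans (zero_smul _ _)

theorem lP_smul_congr {U : (𝔛.X 0).Opens} {a b : RSec (𝔛.Osh hloc.1) U}
    (hab : oK hloc.1 k U a = oK hloc.1 k U b) (x : MSec (lP hloc k N) U) :
    (a • x : MSec (lP hloc k N) U) = (b • x : MSec (lP hloc k N) U) :=
  congrArg (fun c : Γ(𝔛.X k, 𝔛.lvU hloc.1 k U) =>
    (c • toN hloc k N x : Γ(N, 𝔛.lvU hloc.1 k U))) hab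

variable [Coh.IsQCoh N]

/-- Sections over a basic open extend after clearing denominators. -/
theorem exists_ext_lP {V W : (𝔛.X 0).Opens} (hV : IsAffineOpen V) {g : RSec (𝔛.Osh hloc.1) V} (hb : Basic hloc W g)
    (x : MSec (lP hloc k N) W) :
    ∃ (E : ℕ) (t : MSec (lP hloc k N) V),
      mres (lP hloc k N) hb.le t = (rres (𝔛.Osh hloc.1) hb.le g ^ E • x : MSec (lP hloc k N) W) := by
  have key : ∀ (Wk : (𝔛.X k).Opens) (hle : Wk ≤ 𝔛.lvU hloc.1 k V), Wk = (𝔛.X k).basicOpen (oK hloc.1 k V g) →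
      ∀ y : Γ(N, Wk), ∃ (E : ℕ) (t : Γ(N, 𝔛.lvU hloc.1 k V)),
        N.presheaf.map (homOfLE hle).op t = ((𝔛.X k).presheaf.map (homOfLE hle).op (oK hloc.1 k V g)) ^ E • y := by
    intro Wk hle e y
    subst e
    exact (QCohLib.localizingAt_of_isQCoh (FModLib.isAffineOpen_lvU hloc.1 hV k) N (oK hloc.1 k V g)).exists_extend y
  obtain ⟨E, t, ht⟩ := key _ ((Opens.map (𝔛.gInv hloc.1 k)).monotone hb.le) (hb.lvl k) x
  refine ⟨E, t, ht.trans ?_⟩
  refine congrArg (fun c : Γ(𝔛.X k, 𝔛.lvU hloc.1 k W) => (c • toN hloc k N x : Γ(N, 𝔛.lvU hloc.1 k W))) ?_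
  refine Eq.trans ?_ (map_pow ((𝔛.OshProj hloc.1 k).hom.app (op W)).hom _ E).symm
  exact congrArg (fun c => c ^ E) (FModLib.oK_rres hloc.1 k hb.le g)

/-- Sections vanishing on a basic open are killed by a power. -/
theorem exists_pow_kill_lP {V W : (𝔛.X 0).Opens} (hV : IsAffineOpen V) {g : RSec (𝔛.Osh hloc.1) V}
    (hb : Basic hloc W g) (t : MSec (lP hloc k N) V) (ht : mres (lP hloc k N) hb.le t = 0) :
    ∃ E : ℕ, (g ^ E • t : MSec (lP hloc k N) V) = 0 := by
  have key : ∀ (Wk : (𝔛.X k).Opens) (hle : Wk ≤ 𝔛.lvU hloc.1 k V), Wk = (𝔛.X k).basicOpen (oK hloc.1 k V g) →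
      N.presheaf.map (homOfLE hle).op (toN hloc k N t) = 0 →
        ∃ E : ℕ, (show Γ(𝔛.X k, 𝔛.lvU hloc.1 k V) from oK hloc.1 k V g) ^ E • toN hloc k N t = 0 := by
    intro Wk hle e h0
    subst e
    obtain ⟨E, hE⟩ :=
      (QCohLib.localizingAt_of_isQCoh (FModLib.isAffineOpen_lvU hloc.1 hV k) N (oK hloc.1 k V g)).eq_zero _ h0
    simp only [homOfLE_refl, op_id, CategoryTheory.Functor.map_id] at hE
    exact ⟨E, hE⟩
  obtain ⟨E, hE⟩ := key _ ((Opens.map (𝔛.gInv hloc.1 k)).monotone hb.le) (hb.lvl k) ht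
  refine ⟨E, Eq.trans (congrArg (fun c : Γ(𝔛.X k, 𝔛.lvU hloc.1 k V) =>
    (c • toN hloc k N t : Γ(N, 𝔛.lvU hloc.1 k V)))
    (map_pow ((𝔛.OshProj hloc.1 k).hom.app (op V)).hom g E)) hE⟩

theorem good_lPush {V : (𝔛.X 0).Opens} (hV : IsAffineOpen V) : Good hloc (lP hloc k N) V := by
  classical
  refine ⟨hV, fun W hW x q hq => ?_, fun κ _ f W hW c hc q hq => ?_⟩
  · obtain ⟨W', g, hb, hq', hle⟩ := FCohLib.exists_basic_le hloc hV hW hq
    obtain ⟨E, t, ht⟩ := exists_ext_lP hloc k N hV hb (mres _ hle x)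
    obtain ⟨v, hv⟩ := (FCohLib.isUnit_oK hloc hb k).pow E
    obtain ⟨v', hv'⟩ := FModLib.oK_surjective hloc hb.affine k ↑v⁻¹
    refine ⟨W', hle, PUnit.{u + 1}, inferInstance, fun _ => t, fun _ => v', hq', Eq.symm ?_⟩
    refine (Fintype.sum_unique _).trans ?_
    refine (congrArg (fun y : MSec (lP hloc k N) W' => (v' • y : MSec (lP hloc k N) W')) ht).trans ?_
    refine (mul_smul v' _ _).symm.trans ((lP_smul_congr hloc k N (b := 1) ?_ _).trans (one_smul _ (mres _ hle x)))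
    let o : RSec (𝔛.Osh hloc.1) W' →+* RSec (𝔛.X k).sheaf (𝔛.lvU hloc.1 k W') := ((𝔛.OshProj hloc.1 k).hom.app (op W')).hom
    show o (v' * rres (𝔛.Osh hloc.1) hb.le g ^ E) = o 1
    rw [map_one, map_mul, map_pow, show o v' = ↑v⁻¹ from hv',
      show o (rres (𝔛.Osh hloc.1) hb.le g) ^ E = ↑v from hv.symm, Units.inv_mul]
  · obtain ⟨W', g, hb, hq', hle⟩ := FCohLib.exists_basic_le hloc hV hW hq
    let ρ : RSec (𝔛.Osh hloc.1) V →+* RSec (𝔛.Osh hloc.1) W' := ((𝔛.Osh hloc.1).obj.map (homOfLE hb.le).op).hom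
    let o : RSec (𝔛.Osh hloc.1) W' →+* RSec (𝔛.X k).sheaf (𝔛.lvU hloc.1 k W') := ((𝔛.OshProj hloc.1 k).hom.app (op W')).hom
    obtain ⟨E, a, ha⟩ := FCohLib.exists_lift_level hloc hV hb k fun i => rres (𝔛.Osh hloc.1) hle (c i)
    have h1 : mres (lP hloc k N) hb.le (lc (lP hloc k N) le_rfl f a) = 0 := by
      refine (FModLib.mres_lc _ hb.le le_rfl f a).trans ?_
      have h2 : lc (lP hloc k N) hb.le f (fun i => rres (𝔛.Osh hloc.1) hle (c i)) = 0 :=
        (FModLib.mres_lc _ hle hW f c).symm.trans ((congrArg (mres _ hle) hc).trans (map_zero _))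
      refine Eq.trans (Finset.sum_congr rfl fun i _ => (lP_smul_congr hloc k N
        (b := ρ g ^ E * rres (𝔛.Osh hloc.1) hle (c i)) ?_ _).trans (mul_smul _ _ _))
        (Finset.smul_sum.symm.trans ((congrArg (fun y : MSec (lP hloc k N) W' => (ρ g ^ E • y : MSec (lP hloc k N) W')) h2).trans
          (smul_zero _)))
      show o _ = o _
      rw [map_mul, map_pow]
      exact ha i
    obtain ⟨M, hM⟩ := exists_pow_kill_lP hloc k N hV hb _ h1
    obtain ⟨σ, _, r, hr0, hr⟩ := exists_ker_gens hloc hV k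
    let z : κ → RSec (𝔛.Osh hloc.1) V := fun i => g ^ M * a i
    obtain ⟨v, hv⟩ := (FCohLib.isUnit_oK hloc hb k).pow (M + E)
    obtain ⟨v', hv'⟩ := FModLib.oK_surjective hloc hb.affine k ↑v⁻¹
    have hδ : ∀ i, o (rres (𝔛.Osh hloc.1) hle (c i) - v' * ρ (z i)) = 0 := fun i => by
      rw [map_sub, map_mul, map_mul ρ, map_pow ρ, map_mul, map_pow, show o (ρ (a i)) = o (ρ g) ^ E * o (rres (𝔛.Osh hloc.1) hle (c i)) from ha i,
        ← mul_assoc (o (ρ g) ^ M), ← pow_add, show o v' = ↑v⁻¹ from hv',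
        show o (ρ g) ^ (M + E) = ↑v from hv.symm, ← mul_assoc, Units.inv_mul, one_mul, sub_self]
    choose d hd using fun i => hr W' hb.affine hb.le _ (hδ i)
    let ζ : PUnit.{u + 1} ⊕ (κ × σ) → κ → RSec (𝔛.Osh hloc.1) V :=
      Sum.elim (fun _ => z) fun p i => if i = p.1 then r p.2 else 0
    obtain ⟨Z, e, hZ, he⟩ := exists_finset_of_indexed hloc hb.le ζ (Sum.elim (fun _ => v') fun p => d p.1 p.2)
      (fun y => lc (lP hloc k N) le_rfl f y = 0) fun j => by
        rcases j with _ | ⟨i, l⟩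
        · refine Eq.trans ?_ hM
          refine Eq.trans ?_ Finset.smul_sum.symm
          exact Finset.sum_congr rfl fun i _ => mul_smul _ _ _
        · refine Finset.sum_eq_zero fun i' _ => ?_
          by_cases h : i' = i
          · subst h
            refine (congrArg (fun y : RSec (𝔛.Osh hloc.1) V => (y • mres _ le_rfl (f i') : MSec (lP hloc k N) V))
              (if_pos rfl)).trans ?_
            exact killed_lPush hloc k N (f i') V le_rfl (r l) (hr0 l)
          · exact (congrArg (fun y : RSec (𝔛.Osh hloc.1) V => (y • mres _ le_rfl (f i') : MSec (lP hloc k N) V))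
              (if_neg h)).trans (zero_smul _ _)
    refine ⟨W', hle, Z, e, hq', hZ, fun i => ?_⟩
    refine Eq.trans ?_ (he i)
    rw [Fintype.sum_sum_type, Fintype.sum_unique, Fintype.sum_prod_type, Finset.sum_eq_single i]
    · refine (add_sub_cancel (v' * ρ (z i)) _).symm.trans (congrArg (fun t => v' * ρ (z i) + t) ((hd i).trans ?_))
      refine Finset.sum_congr rfl fun l _ => congrArg (fun t => d i l * t) ?_
      exact congrArg (rres (𝔛.Osh hloc.1) hb.le) (if_pos rfl).symm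
    · intro i' _ hi'
      refine Finset.sum_eq_zero fun l _ => ?_
      show d i' l * ρ (if i = i' then r l else 0) = 0
      rw [if_neg (Ne.symm hi'), map_zero, mul_zero]
    · exact fun h => absurd (Finset.mem_univ i) h

theorem isQC_lPush : IsQC hloc (lP hloc k N) := fun _ => ⟨⊤, trivial, fun _ hV _ => good_lPush hloc k N hV⟩

theorem isQCT_lPush : FTors.IsQCT 𝔛 hloc.1 (lP hloc k N) :=
  (isQCT_iff hloc).2 ⟨(isTors_iff hloc).2 fun _ x => (killed_lPush hloc k N x).tors hloc, isQC_lPush hloc k N⟩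

/-- Coherent modules on a level give coherent modules. -/
theorem isCohF_lPush (hN : Coh.IsCoh N) : IsCohF 𝔛 hloc.1 (lP hloc k N) := by
  classical
  refine FCohLib.isCohF_of_finGen hloc _ (isQCT_lPush hloc k N).2 fun p => ?_
  obtain ⟨V, hV, hpV, -⟩ := Opens.isBasis_iff_nbhd.mp (𝔛.X 0).isBasis_affineOpens (U := ⊤) (x := p) trivial
  obtain ⟨T, hT⟩ := (QCohLib.finite_of_isFT (M := N) hN.2 (FModLib.isAffineOpen_lvU hloc.1 hV k)).fg_top
  refine ⟨V, T, inferInstance, fun t => t.1, hpV, fun W hW x q hq => ?_⟩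
  obtain ⟨W', hW', κ, _, φ, c, hq', hc⟩ := (good_lPush hloc k N hV).gen W hW x q hq
  choose b hb using fun i => (Submodule.mem_span_range_iff_exists_fun Γ(𝔛.X k, 𝔛.lvU hloc.1 k V)).1
    ((Subtype.range_coe (s := (T : Set Γ(N, 𝔛.lvU hloc.1 k V)))).symm ▸ hT ▸ Submodule.mem_top :
      toN hloc k N (φ i) ∈ Submodule.span Γ(𝔛.X k, 𝔛.lvU hloc.1 k V) (Set.range fun t : T => t.1))
  choose B hB using fun i t => FModLib.oK_surjective hloc hV k (b i t)
  refine ⟨W', hW', fun t => ∑ i, c i * rres (𝔛.Osh hloc.1) (hW'.trans hW) (B i t), hq', ?_⟩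
  refine hc.trans (Eq.trans ?_ (FCohLib.lc_comp (lP hloc k N) (hW'.trans hW) (fun t : T => t.1) B c))
  refine congrArg (fun e => lc (lP hloc k N) (hW'.trans hW) e c) (funext fun i => Eq.symm ?_)
  refine Eq.trans ?_ (hb i)
  exact Finset.sum_congr rfl fun t _ => congrArg₂ (fun (r : Γ(𝔛.X k, 𝔛.lvU hloc.1 k V))
    (y : Γ(N, 𝔛.lvU hloc.1 k V)) => r • y) (hB i t) (congrArg (toN hloc k N) (mres_self (lP hloc k N) t.1))

end IndCohLib

end
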