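import Groth.Agent.IndCohLib.QCTLevel
import Groth.Agent.IndCohLib.PseudoProper
import Groth.Agent.IndCohLib.PushColim
import Groth.Agent.S0036

/-!
# Higher direct images of quasi-coherent torsion modules
-/

set_option autoImplicit false
set_option linter.style.haveILetI false
set_option maxHeartbeats 1000000
set_option synthInstance.maxHeartbeats 80000

universe u

open CategoryTheory CategoryTheory.Limits AlgebraicGeometry TopologicalSpace Opposite FSch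
open FModLib (MSec RSec oK piSec mres rres lc)
open Groth.Agent

noncomputable section

attribute [local instance] HasDerivedCategory.standard

namespace IndCohLib

variable {𝔛 : Sys.{u}} (hloc : 𝔛.IsLocNoethFormal) {M : ModF 𝔛 hloc.1}

theorem killed_lc {n : ℕ} {U V : (𝔛.X 0).Opens} (h : U ≤ V) {κ : Type u} [Fintype κ] (e : κ → MSec M V)
    (he : ∀ i, Killed hloc n M (e i)) (c : κ → RSec (𝔛.Osh hloc.1) U) : Killed hloc n M (lc M h e c) :=
  Finset.sum_induction _ _ (fun _ _ ha hb => ha.add hloc hb) (killed_zero hloc n U)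
    fun i _ => ((he i).res hloc h).smul hloc (c i)

/-- A coherent torsion module on a Noetherian formal scheme is killed by one open ideal. -/
theorem exists_killed_all [CompactSpace (𝔛.X 0)] (hM : IsCohF 𝔛 hloc.1 M) (ht : FTors.IsTorsF 𝔛 hloc.1 M) :
    ∃ n, ∀ (U : (𝔛.X 0).Opens) (x : MSec M U), Killed hloc n M x := by
  classical
  have hA : ∀ p : 𝔛.X 0, ∃ (V : (𝔛.X 0).Opens) (n : ℕ), p ∈ V ∧
      ∀ (U : (𝔛.X 0).Opens), U ≤ V → ∀ x : MSec M U, Killed hloc n M x := fun p => by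
    obtain ⟨V, hV, hpV, -⟩ := Opens.isBasis_iff_nbhd.mp (𝔛.X 0).isBasis_affineOpens (U := ⊤) (x := p) trivial
    obtain ⟨ι, κ, _, _, ⟨D⟩⟩ := FCohLib.exists_presOn hloc hM hV
    choose m hm using fun i => exists_killed hloc hV.isCompact ((isTors_iff hloc).1 ht V (D.e i))
    refine ⟨V, Finset.univ.sup m, hpV, fun U hU x => killed_of_local hloc x fun q hq => ?_⟩
    obtain ⟨W, hW, c, hqW, hc⟩ := D.pres.gen U hU x q hq
    refine ⟨W, hW, hqW, ?_⟩
    rw [hc]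
    exact killed_lc hloc _ D.e (fun i => (hm i).mono hloc (Finset.le_sup (Finset.mem_univ i))) c
  choose V n hpV hV using hA
  obtain ⟨t, ht'⟩ := isCompact_univ.elim_finite_subcover (fun p => (V p : Set (𝔛.X 0))) (fun p => (V p).isOpen)
    fun p _ => Set.mem_iUnion.mpr ⟨p, hpV p⟩
  refine ⟨t.sup n, fun U x => killed_of_local hloc x fun q hq => ?_⟩
  obtain ⟨p, hp, hqp⟩ := Set.mem_iUnion₂.mp (ht' (Set.mem_univ q))
  exact ⟨U ⊓ V p, inf_le_left, ⟨hq, hqp⟩, (hV p _ inf_le_right _).mono hloc (Finset.le_sup hp)⟩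

/-- A coherent module killed by the open ideal of a level is a module on the level. -/
theorem isIso_unit_of_killed {k : ℕ} (hM : IsCohF 𝔛 hloc.1 M)
    (hk : ∀ (U : (𝔛.X 0).Opens) (x : MSec M U), Killed hloc k M x) :
    IsIso ((levelMor 𝔛 hloc.1 k).adj.unit.app M) := by
  refine FCohLib.isIso_of_bijective_basis _ fun U p hp => ?_
  obtain ⟨V, hV, hpV, hle⟩ := Opens.isBasis_iff_nbhd.mp (𝔛.X 0).isBasis_affineOpens hp
  refine ⟨V, hle, hpV, (injective_iff_map_eq_zero (((levelMor 𝔛 hloc.1 k).adj.unit.app M).val.app (op V)).hom).2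
    fun x hx => ?_, fun m => ?_⟩
  · obtain ⟨ι, κ, _, _, ⟨D⟩⟩ := FCohLib.exists_presOn hloc hM hV
    obtain ⟨I, -, hI⟩ := FCohLib.exists_adic hloc hV
    have h1 := (FCohLib.piSec_eq_zero_iff hloc hM hV D I hI k x).1 hx
    refine Submodule.smul_induction_on h1 (fun a ha y _ => ?_) fun a b ha hb => by rw [ha, hb, add_zero]
    have h2 := hk V y V le_rfl a ((hI k a).2 ha)
    rwa [mres_self] at h2
  · obtain ⟨ι, κ, _, _, ⟨D⟩⟩ := FCohLib.exists_presOn hloc hM hV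
    haveI : Coh.IsQCoh (FModLib.lev hloc.1 M k) := (FModLib.isCoh_lev hloc.1 M hM k).1
    obtain ⟨b, hb⟩ := FModLib.exists_gen hloc M D hV le_rfl k m
    exact ⟨_, hb⟩

/-- Coherent torsion modules come from a level. -/
theorem exists_level_iso [CompactSpace (𝔛.X 0)] (hM : IsCohF 𝔛 hloc.1 M) (ht : FTors.IsTorsF 𝔛 hloc.1 M) :
    ∃ (k : ℕ) (N : (𝔛.X k).Modules), Coh.IsCoh N ∧ Nonempty (M ≅ lP hloc k N) := by
  obtain ⟨k, hk⟩ := exists_killed_all hloc hM ht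
  have := isIso_unit_of_killed hloc hM hk
  exact ⟨k, FModLib.lev hloc.1 M k, FModLib.isCoh_lev hloc.1 M hM k,
    ⟨asIso ((levelMor 𝔛 hloc.1 k).adj.unit.app M)⟩⟩

variable [CompactSpace (𝔛.X 0)] {𝔜 : Sys.{u}} (h𝔜 : 𝔜.IsLocNoethFormal) (f : 𝔛 ⟶ 𝔜)
  [HasInjectiveResolutions (ModF 𝔛 hloc.1)]

include hloc h𝔜 in
theorem quasiCompact_app (k : ℕ) :
    QuasiCompact ((f : Hom 𝔛 𝔜).app k) ∧ QuasiSeparated ((f : Hom 𝔛 𝔜).app k) := by
  haveI : CompactSpace (𝔛.X k) := (𝔛.levelHomeo hloc.1 k).compactSpace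
  haveI := hloc.2.2 k
  haveI := h𝔜.2.2 k
  exact ⟨inferInstance, inferInstance⟩

theorem isQCT_rpush_coh (hM : IsCohF 𝔛 hloc.1 M) (ht : FTors.IsTorsF 𝔛 hloc.1 M) (q : ℕ) :
    FTors.IsQCT 𝔜 h𝔜.1 ((RpushF f hloc.1 h𝔜.1 q).obj M) := by
  obtain ⟨k, N, hN, ⟨e⟩⟩ := exists_level_iso hloc hM ht
  haveI : Coh.IsQCoh N := hN.1
  obtain ⟨e'⟩ := FRpushLib.nonempty_rpush_level_iso f hloc.1 h𝔜.1 k N q
  obtain ⟨_, _⟩ := quasiCompact_app hloc h𝔜 f k
  haveI : Coh.IsQCoh ((Coh.Rpush ((f : Hom 𝔛 𝔜).app k) q).obj N) := RpushLib.isQCoh_Rpush _ N q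
  exact isQCT_of_iso h𝔜 (((RpushF f hloc.1 h𝔜.1 q).mapIso e ≪≫ e').symm) (isQCT_lPush h𝔜 k _)

/-- Higher direct images of coherent torsion modules by pseudo-proper morphisms are coherent. -/
theorem isCohF_rpush_coh [IsProper ((f : Hom 𝔛 𝔜).app 0)] (hM : IsCohF 𝔛 hloc.1 M)
    (ht : FTors.IsTorsF 𝔛 hloc.1 M) (q : ℕ) : IsCohF 𝔜 h𝔜.1 ((RpushF f hloc.1 h𝔜.1 q).obj M) := by
  obtain ⟨k, N, hN, ⟨e⟩⟩ := exists_level_iso hloc hM ht
  obtain ⟨e'⟩ := FRpushLib.nonempty_rpush_level_iso f hloc.1 h𝔜.1 k N q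
  haveI := isProper_app hloc h𝔜.1 f k
  haveI := h𝔜.2.2 k
  have h := Groth.Agent.S0036.result ((f : Hom 𝔛 𝔜).app k) N hN q
  haveI : Coh.IsQCoh ((Coh.Rpush ((f : Hom 𝔛 𝔜).app k) q).obj N) := h.1
  exact FCohLib.isCohF_of_iso ((RpushF f hloc.1 h𝔜.1 q).mapIso e ≪≫ e').symm (isCohF_lPush h𝔜 k _ h)

/-- **Higher direct images of quasi-coherent torsion modules are quasi-coherent torsion.** -/
theorem isQCT_rpush [SiteCmp.HasRpushD (homMor f hloc.1 h𝔜.1)] (hM : FTors.IsQCT 𝔛 hloc.1 M) (q : ℕ) :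
    FTors.IsQCT 𝔜 h𝔜.1 ((RpushF f hloc.1 h𝔜.1 q).obj M) := by
  let fm := homMor f hloc.1 h𝔜.1
  let RF := SiteCmp.RpushD fm
  let α := (SiteCmp.pushKh fm).totalRightDerivedUnit DerivedCategory.Qh
    (HomotopyCategory.quasiIso (ModF 𝔛 hloc.1) (ComplexShape.up ℤ))
  obtain ⟨J, _, _, pres, hp, hm⟩ := exists_presentation_mono hloc (isInd_of_isQCT hloc hM)
  haveI := preservesFilteredColimit_push hloc h𝔜.1 f J
  haveI := preservesFiniteLimits_push hloc h𝔜.1 f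
  let S := CochainComplex.singleFunctor (ModF 𝔛 hloc.1) 0
  haveI : PreservesColimitsOfShape J S :=
    inferInstanceAs (PreservesColimitsOfShape J (HomologicalComplex.single (ModF 𝔛 hloc.1) (ComplexShape.up ℤ) 0))
  obtain ⟨hq⟩ := GenColim.nonempty_isColimit_rH_of_isGE fm.push RF α
    (isZero_rightDerived_colimit hloc h𝔜.1 f J) (isColimitOfPreserves S pres.isColimit) 0
    (fun j => inferInstanceAs ((S.obj (pres.diag.obj j)).IsGE 0)) (q : ℤ)
  let e : ∀ N : ModF 𝔛 hloc.1, (GenColim.rH RF (q : ℤ)).obj (S.obj N) ≅ (RpushF f hloc.1 h𝔜.1 q).obj N := fun N =>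
    (DerivedCategory.homologyFunctor (ModF 𝔜 h𝔜.1) (q : ℤ)).mapIso
      (RF.mapIso ((DerivedCategory.singleFunctorIsoCompQ (ModF 𝔛 hloc.1) 0).app N).symm) ≪≫
    (ModCohLib.nonempty_homology_rpush_single_iso fm RF α N q).some
  haveI := isQCT_closed_colimits h𝔜 J
  exact isQCT_of_iso h𝔜 (e M) (ObjectProperty.prop_of_isColimit (FTors.IsQCT 𝔜 h𝔜.1) hq fun j =>
    isQCT_of_iso h𝔜 (e _).symm
      (isQCT_rpush_coh hloc h𝔜 f (hp j) (@isTors_of_mono _ hloc _ _ (pres.ι.app j) (hm j) hM.1) q))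

end IndCohLib

end
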