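import Groth.Agent.IndCohLib.Good

/-!
# Coherent and quasi-coherent modules are generated and related by sections over affine opens
-/

set_option autoImplicit false
set_option linter.style.haveILetI false
set_option maxHeartbeats 800000

universe u

open CategoryTheory CategoryTheory.Limits AlgebraicGeometry TopologicalSpace Opposite FSch
open FModLib (MSec RSec mres rres lc QPres LocPres)

noncomputable section

namespace IndCohLib

theorem qPres_of_locPres {X : TopCat.{u}} {O : Sheaf (Opens.grothendieckTopology X) CommRingCat.{u}}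
    {M : ModSite.Mod O} {U : Opens X} {ι κ : Type u} [Fintype ι] [Fintype κ] {e : ι → MSec M U}
    {r : κ → ι → RSec O U} (h : LocPres M U e r) : QPres M U e r where
  gen V hV x p hp := by
    obtain ⟨W, hW, c, hpW, hc⟩ := h.gen V hV x p hp
    exact ⟨W, hW, Finset.univ, c, hpW, hc⟩
  ex V hV F c hc0 hc p hp := by
    have h0 : lc M hV e c = 0 := by
      refine Eq.trans ?_ hc
      refine (Finset.sum_subset (Finset.subset_univ F) fun i _ hi => ?_).symm
      exact (congrArg (fun a : RSec O V => (a • mres M hV (e i) : MSec M V)) (hc0 i hi)).trans (zero_smul _ _)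
    obtain ⟨W, hW, d, hpW, hd⟩ := h.ex V hV c h0 p hp
    exact ⟨W, hW, Finset.univ, d, hpW, hd⟩
  supp j p hp := by
    refine ⟨U, le_rfl, Finset.univ, hp, fun i hi => absurd (Finset.mem_univ i) hi, ?_⟩
    refine Eq.trans (Finset.sum_congr rfl fun i _ => ?_) (h.rel j)
    exact congrArg (fun a : RSec O U => (a • mres M le_rfl (e i) : MSec M U)) (rres_self (r j i))

variable {𝔛 : Sys.{u}} (hloc : 𝔛.IsLocNoethFormal) {M : ModF 𝔛 hloc.1} {σ κ : Type u} {U V : (𝔛.X 0).Opens}
  {s : σ → MSec M U} {r : κ → σ → RSec (𝔛.Osh hloc.1) U}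

theorem good_of_qPres (Q : QPres M U s r) (hV : IsAffineOpen V) (hVU : V ≤ U) : Good hloc M V := by
  classical
  refine good_of_by hloc (σ := σ) (s := fun j => mres M hVU (s j)) ?_ ?_ hV le_rfl
  · intro W hW x q hq
    obtain ⟨W', hW', F, c, hqW, hc⟩ := Q.gen W (hW.trans hVU) x q hq
    refine ⟨W', hW', F, inferInstance, Subtype.val, fun i => c i.1, hqW, ?_⟩
    refine hc.trans ((Finset.sum_coe_sort F _).symm.trans ?_)
    exact Finset.sum_congr rfl fun i _ => congrArg (fun z : MSec M W' => c i.1 • z)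
      (FModLib.mres_mres M (hW'.trans hW) hVU (s i.1)).symm
  intro k _ φ W hW c hc q hq
  let O := 𝔛.Osh hloc.1
  let F : Finset σ := Finset.univ.image φ
  let c' : σ → RSec O W := fun i => ∑ j ∈ Finset.univ.filter (fun j => φ j = i), c j
  have hc0 : ∀ i ∉ F, c' i = 0 := fun i hi => Finset.sum_eq_zero fun j hj =>
    absurd ((Finset.mem_filter.1 hj).2 ▸ Finset.mem_image_of_mem φ (Finset.mem_univ j)) hi
  have hc' : ∑ i ∈ F, (c' i • mres M (hW.trans hVU) (s i) : MSec M W) = 0 := by
    refine Eq.trans ?_ hc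
    refine Eq.trans ?_ (Finset.sum_fiberwise_of_maps_to (g := φ) (t := F) (fun j hj => Finset.mem_image_of_mem φ hj) _)
    refine Finset.sum_congr rfl fun i _ => ?_
    refine Finset.sum_smul.trans (Finset.sum_congr rfl fun j hj => ?_)
    rw [← (Finset.mem_filter.1 hj).2]
    exact congrArg (fun z : MSec M W => c j • z) (FModLib.mres_mres M hW hVU (s (φ j))).symm
  obtain ⟨W₁, hW₁, G, d, hqW₁, hd⟩ := Q.ex W (hW.trans hVU) F c' hc0 hc' q hq
  choose Fs hF0 hFs using fun g : κ => FCohLib.exists_supp hloc hV hVU Q g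
  let I : Finset σ := F ∪ G.biUnion Fs
  let A : k → I → RSec O V := fun j i => if φ j = i.1 then 1 else 0
  let r' : G → I → RSec O V := fun g i => rres O hVU (r g.1 i.1)
  obtain ⟨τ, _, z, hz, hzloc⟩ := FCohLib.exists_local_solution hloc hV A r'
  let ρ : RSec O V →+* RSec O W₁ := (O.obj.map (homOfLE (hW₁.trans hW)).op).hom
  let ρW : RSec O W →+* RSec O W₁ := (O.obj.map (homOfLE hW₁).op).hom
  obtain ⟨W₂, hW₂, e, hqW₂, he⟩ := hzloc W₁ (hW₁.trans hW) (fun j => ρW (c j)) (fun g : G => d g.1) (fun i => by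
    refine Eq.trans ?_ ((hd i.1).trans ((Finset.sum_coe_sort G _).symm.trans
      (Finset.sum_congr rfl fun g _ => congrArg (fun t => d g.1 * t)
        (FModLib.rres_rres (hW₁.trans hW) hVU (r g.1 i.1)).symm)))
    refine Eq.trans ?_ (map_sum ρW _ _).symm
    rw [Finset.sum_filter]
    refine Finset.sum_congr rfl fun j _ => ?_
    show ρW (c j) * ρ (if φ j = i.1 then 1 else 0) = _
    split_ifs with h
    · rw [map_one, mul_one]
    · rw [map_zero, mul_zero]) q hqW₁
  obtain ⟨Z', d', hZ', hd'⟩ := exists_finset_of_indexed hloc (hW₂.trans (hW₁.trans hW)) z e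
    (fun y => lc M le_rfl ((fun i => mres M hVU (s i)) ∘ φ) y = 0) fun l => by
      obtain ⟨dd, hdd⟩ := hz l
      let v : σ → MSec M V := fun i => mres M hVU (s i)
      have h1 : lc M le_rfl (v ∘ φ) (z l) = ∑ i : I, ((∑ j, z l j * A j i) • v i.1 : MSec M V) := by
        refine Eq.trans ?_ (Finset.sum_congr rfl fun i _ => Finset.sum_smul.symm)
        refine Eq.trans ?_ Finset.sum_comm
        refine Finset.sum_congr rfl fun j _ => ?_
        rw [Finset.sum_eq_single ⟨φ j, Finset.mem_union_left _ (Finset.mem_image_of_mem φ (Finset.mem_univ j))⟩]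
        · show (z l j • mres M le_rfl (v (φ j)) : MSec M V) = (z l j * if φ j = φ j then 1 else 0) • v (φ j)
          rw [if_pos rfl, mul_one, mres_self]
        · intro i _ hi
          have hne : ¬ φ j = i.1 := fun h => hi (Subtype.ext h.symm)
          show ((z l j * if φ j = i.1 then 1 else 0) • v i.1 : MSec M V) = 0
          rw [if_neg hne, mul_zero]
          exact zero_smul _ (v i.1)
        · exact fun h => absurd (Finset.mem_univ _) h
      refine h1.trans ((Finset.sum_congr rfl fun i _ => congrArg (fun t : RSec O V => (t • v i.1 : MSec M V)) (hdd i)).trans ?_)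
      refine (Finset.sum_congr rfl fun i _ => Finset.sum_smul).trans (Finset.sum_comm.trans ?_)
      refine Finset.sum_eq_zero fun g _ => ?_
      refine (Finset.sum_congr rfl fun i _ => mul_smul (dd g) (r' g i) (v i.1)).trans (Finset.smul_sum.symm.trans ?_)
      refine (congrArg (fun t : MSec M V => dd g • t) ?_).trans (smul_zero _)
      refine Eq.trans (Finset.sum_coe_sort I fun i => (rres O hVU (r g.1 i) • v i : MSec M V)) ?_
      refine Eq.trans (Finset.sum_subset (fun i hi => Finset.mem_union_right _ (Finset.mem_biUnion.2 ⟨g.1, g.2, hi⟩))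
        fun i _ hi => ?_).symm (hFs g.1)
      exact (congrArg (fun t : RSec O V => (t • v i : MSec M V)) (hF0 g.1 i hi)).trans (zero_smul _ _)
  exact ⟨W₂, hW₂.trans hW₁, Z', d', hqW₂, hZ',
    fun j => (FModLib.rres_rres hW₂ hW₁ (c j)).symm.trans ((he j).trans (hd' j))⟩

theorem good_of_isCohF (hM : IsCohF 𝔛 hloc.1 M) (hV : IsAffineOpen V) : Good hloc M V := by
  obtain ⟨ι, κ', _, _, ⟨D⟩⟩ := FCohLib.exists_presOn hloc hM hV
  exact good_of_qPres hloc (qPres_of_locPres D.pres) hV le_rfl

/-- Quasi-coherence, through sections over affine opens. -/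
def IsQC (M : ModF 𝔛 hloc.1) : Prop :=
  ∀ p : 𝔛.X 0, ∃ U : (𝔛.X 0).Opens, p ∈ U ∧ ∀ V : (𝔛.X 0).Opens, IsAffineOpen V → V ≤ U → Good hloc M V

theorem isQC_of_isQuasicoherent (h : SheafOfModules.IsQuasicoherent.{u} M) : IsQC hloc M := fun p => by
  obtain ⟨U, σ, κ, s, r, hpU, Q⟩ := FModLib.exists_qPres M h p
  exact ⟨U, hpU, fun V hV hVU => good_of_qPres hloc Q hV hVU⟩

theorem IsQC.exists_affine (h : IsQC hloc M) {U : (𝔛.X 0).Opens} {p : 𝔛.X 0} (hp : p ∈ U) :
    ∃ V : (𝔛.X 0).Opens, p ∈ V ∧ V ≤ U ∧ Good hloc M V := by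
  obtain ⟨U', hpU', h'⟩ := h p
  obtain ⟨V, hV, hpV, hle⟩ := Opens.isBasis_iff_nbhd.mp (𝔛.X 0).isBasis_affineOpens (U := U ⊓ U') (x := p) ⟨hp, hpU'⟩
  exact ⟨V, hpV, hle.trans inf_le_left, h' V hV (hle.trans inf_le_right)⟩

end IndCohLib

end
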