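import Groth.Agent.FCohLib.AffLin
import Groth.Agent.QCohLib.QcqsSections

/-!
# Two-term covers of affine opens of a formal scheme
-/

set_option autoImplicit false
set_option linter.style.haveILetI false
set_option maxHeartbeats 800000

universe u

open CategoryTheory CategoryTheory.Limits AlgebraicGeometry TopologicalSpace Opposite FSch
open FModLib (MSec RSec oK mres rres)
open FCohLib (Basic)

noncomputable section

namespace IndCohLib

variable {𝔛 : Sys.{u}} (hloc : 𝔛.IsLocNoethFormal)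

/-- The open where a function on an open does not vanish. -/
def Dg {V : (𝔛.X 0).Opens} (g : RSec (𝔛.Osh hloc.1) V) : (𝔛.X 0).Opens :=
  (𝔛.X 0).basicOpen (oK hloc.1 0 V g)

theorem lvU_zero (V : (𝔛.X 0).Opens) : 𝔛.lvU hloc.1 0 V = V := by
  show (Opens.map (𝔛.gInv hloc.1 0)).obj V = V
  rw [FModLib.gInv_zero_aff]
  rfl

theorem Dg_le {V : (𝔛.X 0).Opens} (g : RSec (𝔛.Osh hloc.1) V) : Dg hloc g ≤ V :=
  ((𝔛.X 0).basicOpen_le _).trans (lvU_zero hloc V).le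

variable {V : (𝔛.X 0).Opens} (hV : IsAffineOpen V)

include hV in
theorem basic_Dg (g : RSec (𝔛.Osh hloc.1) V) : Basic hloc (Dg hloc g) g := by
  refine ⟨Dg_le hloc g, (FModLib.isAffineOpen_lvU hloc.1 hV 0).basicOpen _, fun k => ?_⟩
  have e : (𝔛.X 0).basicOpen (oK hloc.1 0 V g) =
      𝔛.lvU hloc.1 0 V ⊓ 𝔛.toX k ⁻¹ᵁ (𝔛.X k).basicOpen (oK hloc.1 k V g) := by
    rw [← Scheme.basicOpen_appLE _ _ _ (FModLib.lvU_le_toX hloc.1 k V), FCohLib.oK_toX hloc k V g]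
  refine Opens.ext (Set.ext fun x => ?_)
  have hx : (𝔛.toX k) ((𝔛.gInv hloc.1 k) x) = x :=
    congr($(Sys.gInv_toX_base 𝔛 hloc.1 k) x)
  show (𝔛.gInv hloc.1 k) x ∈ (𝔛.X 0).basicOpen (oK hloc.1 0 V g) ↔ _
  rw [e]
  refine ⟨fun h => ?_, fun h => ⟨(lvU_zero hloc V).ge ((𝔛.X k).basicOpen_le (oK hloc.1 k V g) h), ?_⟩⟩
  · exact hx ▸ h.2
  · show (𝔛.toX k) ((𝔛.gInv hloc.1 k) x) ∈ (𝔛.X k).basicOpen (oK hloc.1 k V g)
    rw [hx]
    exact h

theorem rres_oK_zero {U : (𝔛.X 0).Opens} (hUV : U ≤ V) (g : RSec (𝔛.Osh hloc.1) V) :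
    Dg hloc (rres (𝔛.Osh hloc.1) hUV g) = U ⊓ Dg hloc g := by
  show (𝔛.X 0).basicOpen (oK hloc.1 0 U (rres (𝔛.Osh hloc.1) hUV g)) = _
  rw [← FModLib.oK_rres hloc.1 0 hUV g]
  exact ((𝔛.X 0).basicOpen_res _ (homOfLE ((Opens.map (𝔛.gInv hloc.1 0)).monotone hUV)).op).trans
    (congrArg (fun W => W ⊓ Dg hloc g) (lvU_zero hloc U))

theorem Dg_add_le (a b : RSec (𝔛.Osh hloc.1) V) : Dg hloc (a + b) ≤ Dg hloc a ⊔ Dg hloc b := by
  unfold Dg
  rw [show oK hloc.1 0 V (a + b) = oK hloc.1 0 V a + oK hloc.1 0 V b from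
    map_add ((𝔛.OshProj hloc.1 0).hom.app (op V)).hom a b]
  exact (𝔛.X 0).basicOpen_add_le _ _

theorem Dg_mul (a b : RSec (𝔛.Osh hloc.1) V) : Dg hloc (a * b) = Dg hloc a ⊓ Dg hloc b := by
  unfold Dg
  rw [show oK hloc.1 0 V (a * b) = oK hloc.1 0 V a * oK hloc.1 0 V b from
    map_mul ((𝔛.OshProj hloc.1 0).hom.app (op V)).hom a b]
  exact (𝔛.X 0).basicOpen_mul _ _

include hV in
/-- **The ideal trick**: a monotone property of affine opens holds if it is local and glues along two-term covers. -/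
theorem affine_induction (P : (𝔛.X 0).Opens → Prop) (hbot : P ⊥)
    (hmono : ∀ ⦃W W' : (𝔛.X 0).Opens⦄, W ≤ W' → P W' → P W)
    (hloc' : ∀ p ∈ V, ∃ W : (𝔛.X 0).Opens, p ∈ W ∧ P W)
    (hglue : ∀ (U : (𝔛.X 0).Opens), IsAffineOpen U → U ≤ V → ∀ a b : RSec (𝔛.Osh hloc.1) U,
      U ≤ Dg hloc a ⊔ Dg hloc b → P (Dg hloc a) → P (Dg hloc b) → P U) : P V := by
  classical
  let J : Ideal (RSec (𝔛.Osh hloc.1) V) :=
    { carrier := {g | P (Dg hloc g)}
      zero_mem' := by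
        refine hmono ?_ hbot
        unfold Dg
        rw [show oK hloc.1 0 V 0 = 0 from map_zero ((𝔛.OshProj hloc.1 0).hom.app (op V)).hom]
        exact ((𝔛.X 0).basicOpen_zero _).le
      add_mem' := fun {a b} ha hb => by
        have hU := (basic_Dg hloc hV (a + b)).affine
        have hle := Dg_le hloc (a + b)
        refine hglue _ hU hle (rres (𝔛.Osh hloc.1) hle a) (rres (𝔛.Osh hloc.1) hle b) ?_ ?_ ?_
        · rw [rres_oK_zero, rres_oK_zero]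
          exact fun x hx => (Dg_add_le hloc a b hx).imp (fun h => ⟨hx, h⟩) fun h => ⟨hx, h⟩
        · exact hmono ((rres_oK_zero hloc hle a).trans_le inf_le_right) ha
        · exact hmono ((rres_oK_zero hloc hle b).trans_le inf_le_right) hb
      smul_mem' := fun r g hg => hmono ((Dg_mul hloc r g).trans_le inf_le_right) hg }
  let o : RSec (𝔛.Osh hloc.1) V →+* Γ(𝔛.X 0, 𝔛.lvU hloc.1 0 V) := ((𝔛.OshProj hloc.1 0).hom.app (op V)).hom
  have hsurj : Function.Surjective o := FModLib.oK_surjective hloc hV 0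
  have htop : J.map o = ⊤ := by
    have hA := FModLib.isAffineOpen_lvU hloc.1 hV 0
    have h0 : Ideal.span ((J.map o : Ideal _) : Set Γ(𝔛.X 0, 𝔛.lvU hloc.1 0 V)) = ⊤ := by
      rw [← hA.self_le_iSup_basicOpen_iff]
      intro p hp
      obtain ⟨W, hpW, hW⟩ := hloc' p ((lvU_zero hloc V).le hp)
      obtain ⟨W', g, hb, hpW', hle⟩ := FCohLib.exists_basic hloc hV (V' := W) hpW ((lvU_zero hloc V).le hp)
      refine Opens.mem_iSup.mpr ⟨⟨oK hloc.1 0 V g, Ideal.mem_map_of_mem o ?_⟩, ?_⟩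
      · exact hmono (((hb.lvl 0).symm.trans (lvU_zero hloc W')).trans_le hle) hW
      · exact ((hb.lvl 0).symm.trans (lvU_zero hloc W')).ge hpW'
    rwa [Ideal.span_eq] at h0
  obtain ⟨j, hj, hj1⟩ := (Ideal.mem_map_iff_of_surjective o hsurj).1 (htop.ge (Submodule.mem_top (x := 1)))
  refine hmono ?_ hj
  show V ≤ (𝔛.X 0).basicOpen (o j)
  rw [hj1]
  exact (lvU_zero hloc V).ge.trans ((𝔛.X 0).basicOpen_of_isUnit isUnit_one).ge

variable {U : (𝔛.X 0).Opens} (hU : IsAffineOpen U) (a b : RSec (𝔛.Osh hloc.1) U)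
  (hab : U ≤ Dg hloc a ⊔ Dg hloc b)

include hU hab in
theorem span_pair_level (k : ℕ) :
    Ideal.span ({oK hloc.1 k U a, oK hloc.1 k U b} : Set Γ(𝔛.X k, 𝔛.lvU hloc.1 k U)) = ⊤ := by
  refine (FModLib.isAffineOpen_lvU hloc.1 hU k).self_le_iSup_basicOpen_iff.1 ?_
  intro x hx
  have h1 : x ∈ (Opens.map (𝔛.gInv hloc.1 k)).obj (Dg hloc a ⊔ Dg hloc b) := hab hx
  rcases h1 with h1 | h1
  · exact Opens.mem_iSup.mpr ⟨⟨_, Set.mem_insert _ _⟩, ((basic_Dg hloc hU a).lvl k).le h1⟩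
  · exact Opens.mem_iSup.mpr ⟨⟨_, Set.mem_insert_of_mem _ rfl⟩, ((basic_Dg hloc hU b).lvl k).le h1⟩

/-- The difference of two sections on a two-term cover. -/
abbrev dsub (A : RSec (𝔛.Osh hloc.1) (Dg hloc a)) (B : RSec (𝔛.Osh hloc.1) (Dg hloc b)) :
    RSec (𝔛.Osh hloc.1) (Dg hloc a ⊓ Dg hloc b) :=
  rres (𝔛.Osh hloc.1) inf_le_left A - rres (𝔛.Osh hloc.1) inf_le_right B

theorem oK_dsub (k : ℕ) (A : RSec (𝔛.Osh hloc.1) (Dg hloc a)) (B : RSec (𝔛.Osh hloc.1) (Dg hloc b)) :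
    oK hloc.1 k _ (dsub hloc a b A B) =
      rres (𝔛.X k).sheaf ((Opens.map (𝔛.gInv hloc.1 k)).monotone inf_le_left) (oK hloc.1 k _ A) -
        rres (𝔛.X k).sheaf ((Opens.map (𝔛.gInv hloc.1 k)).monotone inf_le_right) (oK hloc.1 k _ B) :=
  (map_sub ((𝔛.OshProj hloc.1 k).hom.app (op (Dg hloc a ⊓ Dg hloc b))).hom _ _).trans
    (congrArg₂ (fun x y => x - y) (FModLib.oK_rres hloc.1 k inf_le_left A).symm
      (FModLib.oK_rres hloc.1 k inf_le_right B).symm)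

include hU hab in
theorem exists_split_level (k : ℕ) (d : RSec (𝔛.Osh hloc.1) (Dg hloc a ⊓ Dg hloc b)) :
    ∃ (A : RSec (𝔛.Osh hloc.1) (Dg hloc a)) (B : RSec (𝔛.Osh hloc.1) (Dg hloc b)),
      oK hloc.1 k _ (dsub hloc a b A B) = oK hloc.1 k _ d := by
  have : Coh.IsQCoh (Coh.structureModule (𝔛.X k)) := QCohLib.isQCoh_unit
  have key : ∀ (Oa Ob : (𝔛.X k).Opens), Oa = (𝔛.X k).basicOpen (oK hloc.1 k U a) →
      Ob = (𝔛.X k).basicOpen (oK hloc.1 k U b) → ∀ s : RSec (𝔛.X k).sheaf (Oa ⊓ Ob),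
        ∃ (A : RSec (𝔛.X k).sheaf Oa) (B : RSec (𝔛.X k).sheaf Ob),
          rres (𝔛.X k).sheaf inf_le_left A - rres (𝔛.X k).sheaf inf_le_right B = s := by
    rintro _ _ rfl rfl s
    exact QCohLib.exists_sub_eq (FModLib.isAffineOpen_lvU hloc.1 hU k) (Coh.structureModule (𝔛.X k)) _ _
      (span_pair_level hloc hU a b hab k) s
  obtain ⟨A, B, hAB⟩ := key _ _ ((basic_Dg hloc hU a).lvl k) ((basic_Dg hloc hU b).lvl k) (oK hloc.1 k _ d)
  obtain ⟨A', rfl⟩ := FModLib.oK_surjective hloc (basic_Dg hloc hU a).affine k A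
  obtain ⟨B', rfl⟩ := FModLib.oK_surjective hloc (basic_Dg hloc hU b).affine k B
  exact ⟨A', B', (oK_dsub hloc a b k A' B').trans hAB⟩

include hU hab in
theorem exists_split_step (k : ℕ) (d : RSec (𝔛.Osh hloc.1) (Dg hloc a ⊓ Dg hloc b))
    (A : RSec (𝔛.Osh hloc.1) (Dg hloc a)) (B : RSec (𝔛.Osh hloc.1) (Dg hloc b))
    (h : oK hloc.1 k _ (dsub hloc a b A B) = oK hloc.1 k _ d) :
    ∃ (A' : RSec (𝔛.Osh hloc.1) (Dg hloc a)) (B' : RSec (𝔛.Osh hloc.1) (Dg hloc b)),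
      oK hloc.1 (k + 1) _ (dsub hloc a b A' B') = oK hloc.1 (k + 1) _ d ∧
        oK hloc.1 k _ A' = oK hloc.1 k _ A ∧ oK hloc.1 k _ B' = oK hloc.1 k _ B := by
  obtain ⟨A', B', hAB⟩ := exists_split_level hloc hU a b hab (k + 1) d
  have hk : oK hloc.1 k _ (dsub hloc a b A' B') = oK hloc.1 k _ d := by
    rw [oK, oK]
    exact ((FModLib.oProj_succ hloc.1 _ k _).symm.trans ((congrArg _ hAB).trans (FModLib.oProj_succ hloc.1 _ k d)))
  rw [← h, oK_dsub, oK_dsub, sub_eq_sub_iff_sub_eq_sub] at hk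
  let la := (Opens.map (𝔛.gInv hloc.1 k)).monotone (inf_le_left : Dg hloc a ⊓ Dg hloc b ≤ _)
  let lb := (Opens.map (𝔛.gInv hloc.1 k)).monotone (inf_le_right : Dg hloc a ⊓ Dg hloc b ≤ _)
  let δa := oK hloc.1 k _ A' - oK hloc.1 k _ A
  let δb := oK hloc.1 k _ B' - oK hloc.1 k _ B
  obtain ⟨δ, hδa, hδb⟩ := QCohLib.glue_two (M := Coh.structureModule (𝔛.X k))
    (S := 𝔛.lvU hloc.1 k (Dg hloc a)) (V := 𝔛.lvU hloc.1 k (Dg hloc b)) δa δb
    (show rres (𝔛.X k).sheaf la δa = rres (𝔛.X k).sheaf lb δb from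
      (map_sub ((𝔛.X k).sheaf.obj.map (homOfLE la).op).hom _ _).trans
        (hk.trans (map_sub ((𝔛.X k).sheaf.obj.map (homOfLE lb).op).hom _ _).symm))
  have hle : 𝔛.lvU hloc.1 k U ≤ 𝔛.lvU hloc.1 k (Dg hloc a) ⊔ 𝔛.lvU hloc.1 k (Dg hloc b) := fun x hx => hab hx
  obtain ⟨D, hD⟩ := FModLib.oK_surjective hloc hU k (rres (𝔛.X k).sheaf hle δ)
  have ea : oK hloc.1 k _ (rres (𝔛.Osh hloc.1) (Dg_le hloc a) D) = δa := by
    rw [← FModLib.oK_rres hloc.1 k (Dg_le hloc a) D, hD, FModLib.rres_rres]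
    exact hδa
  have eb : oK hloc.1 k _ (rres (𝔛.Osh hloc.1) (Dg_le hloc b) D) = δb := by
    rw [← FModLib.oK_rres hloc.1 k (Dg_le hloc b) D, hD, FModLib.rres_rres]
    exact hδb
  refine ⟨A' - rres (𝔛.Osh hloc.1) (Dg_le hloc a) D, B' - rres (𝔛.Osh hloc.1) (Dg_le hloc b) D, ?_, ?_, ?_⟩
  · refine Eq.trans (congrArg (oK hloc.1 (k + 1) _) ?_) hAB
    show rres _ _ (_ - _) - rres _ _ (_ - _) = _
    rw [show rres (𝔛.Osh hloc.1) (inf_le_left : Dg hloc a ⊓ Dg hloc b ≤ _) (A' - rres _ (Dg_le hloc a) D) =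
        rres _ inf_le_left A' - rres _ inf_le_left (rres _ (Dg_le hloc a) D) from
        map_sub ((𝔛.Osh hloc.1).obj.map _).hom _ _,
      show rres (𝔛.Osh hloc.1) (inf_le_right : Dg hloc a ⊓ Dg hloc b ≤ _) (B' - rres _ (Dg_le hloc b) D) =
        rres _ inf_le_right B' - rres _ inf_le_right (rres _ (Dg_le hloc b) D) from
        map_sub ((𝔛.Osh hloc.1).obj.map _).hom _ _, FModLib.rres_rres, FModLib.rres_rres, sub_sub_sub_cancel_right]
  · refine (map_sub ((𝔛.OshProj hloc.1 k).hom.app (op (Dg hloc a))).hom A' _).trans ?_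
    exact (congrArg (fun z => oK hloc.1 k _ A' - z) ea).trans (sub_sub_cancel _ _)
  · refine (map_sub ((𝔛.OshProj hloc.1 k).hom.app (op (Dg hloc b))).hom B' _).trans ?_
    exact (congrArg (fun z => oK hloc.1 k _ B' - z) eb).trans (sub_sub_cancel _ _)

include hU hab in
/-- **Functions on the overlap of a two-term cover are differences.** -/
theorem exists_split (d : RSec (𝔛.Osh hloc.1) (Dg hloc a ⊓ Dg hloc b)) :
    ∃ (A : RSec (𝔛.Osh hloc.1) (Dg hloc a)) (B : RSec (𝔛.Osh hloc.1) (Dg hloc b)), dsub hloc a b A B = d := by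
  classical
  let P := fun k (x : RSec (𝔛.Osh hloc.1) (Dg hloc a) × RSec (𝔛.Osh hloc.1) (Dg hloc b)) =>
    oK hloc.1 k _ (dsub hloc a b x.1 x.2) = oK hloc.1 k _ d
  obtain ⟨A₀, B₀, h₀⟩ := exists_split_level hloc hU a b hab 0 d
  choose nA nB hn hnA hnB using fun k (x : {x // P k x}) => exists_split_step hloc hU a b hab k d x.1.1 x.1.2 x.2
  let s : ∀ k, {x // P k x} := fun k => Nat.rec ⟨(A₀, B₀), h₀⟩ (fun k x => ⟨(nA k x, nB k x), hn k x⟩) k
  obtain ⟨A, hA⟩ := (FModLib.toLim_bijective hloc.1 _ (basic_Dg hloc hU a).affine).2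
    ⟨fun k => oK hloc.1 k _ (s k).1.1, fun k => (FModLib.oProj_succ hloc.1 _ k _).trans (hnA k (s k))⟩
  obtain ⟨B, hB⟩ := (FModLib.toLim_bijective hloc.1 _ (basic_Dg hloc hU b).affine).2
    ⟨fun k => oK hloc.1 k _ (s k).1.2, fun k => (FModLib.oProj_succ hloc.1 _ k _).trans (hnB k (s k))⟩
  have hA' : ∀ k, oK hloc.1 k _ A = oK hloc.1 k _ (s k).1.1 := fun k =>
    congrArg (fun z : (FModLib.secSys hloc.1 _ (basic_Dg hloc hU a).affine).lim => z.1 k) hA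
  have hB' : ∀ k, oK hloc.1 k _ B = oK hloc.1 k _ (s k).1.2 := fun k =>
    congrArg (fun z : (FModLib.secSys hloc.1 _ (basic_Dg hloc hU b).affine).lim => z.1 k) hB
  refine ⟨A, B, FModLib.oSec_ext hloc.1 _ fun k => ?_⟩
  refine Eq.trans ?_ (s k).2
  show oK hloc.1 k _ _ = _
  rw [oK_dsub, oK_dsub, hA' k, hB' k]

end IndCohLib

end
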