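import Groth.Agent.IndCohLib.DerivedInd

/-!
# Derived categories of coreflective subcategories of ind-coherent modules, and derived direct images
-/

set_option autoImplicit false
set_option linter.style.haveILetI false
set_option linter.unusedSectionVars false
set_option maxHeartbeats 1000000
set_option synthInstance.maxHeartbeats 80000

universe u

open CategoryTheory CategoryTheory.Limits AlgebraicGeometry TopologicalSpace Opposite FSch
open Groth.Agent

noncomputable section

attribute [local instance] HasDerivedCategory.standard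

namespace IndCohLib

variable {𝔛 : Sys.{u}} (hloc : 𝔛.IsLocNoethFormal) (P : ObjectProperty (ModF 𝔛 hloc.1))
  [P.ContainsZero] [P.IsClosedUnderKernels] [P.IsClosedUnderCokernels] [P.IsClosedUnderFiniteProducts]
  [PreservesFiniteLimits P.ι] [PreservesFiniteColimits P.ι]
  (hcol : ∀ (J : Type u) [SmallCategory J], P.IsClosedUnderColimitsOfShape J)
  {T : Type u} (g : T → P.FullSubcategory) (hg : (ObjectProperty.ofObj g).IsSeparating)

include hcol hg in
/-- A subcategory closed under colimits with a separating family is Grothendieck abelian. -/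
theorem isGrothendieckAbelian_sub : IsGrothendieckAbelian.{u} P.FullSubcategory := by
  haveI := hcol
  haveI : HasColimitsOfSize.{u, u} P.FullSubcategory := ⟨fun J _ => inferInstance⟩
  haveI : PreservesColimitsOfSize.{u, u} P.ι :=
    ⟨fun {J} _ => ⟨fun {K} => preservesColimit_of_createsColimit_and_hasColimit K P.ι⟩⟩
  haveI : ∀ (J : Type u) [SmallCategory J] [IsFiltered J], HasExactColimitsOfShape J P.FullSubcategory :=
    fun J _ _ => HasExactColimitsOfShape.domain_of_functor J P.ι
  haveI : HasFilteredColimitsOfSize.{u, u} P.FullSubcategory := ⟨fun J _ _ => inferInstance⟩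
  haveI : AB5OfSize.{u, u} P.FullSubcategory := ⟨fun J _ _ => inferInstance⟩
  haveI : HasSeparator P.FullSubcategory := ⟨⟨∐ g, (isSeparator_sigma g).2 hg⟩⟩
  exact {}

include hcol hg in
/-- **The adjoint functor theorem for the derived direct image on such a subcategory.** -/
theorem isLeftAdjoint_sub_rpushD [P.ι.IsLeftAdjoint] [CompactSpace (𝔛.X 0)] {𝔜 : Sys.{u}} (h𝔜 : 𝔜.IsFormal)
    [CompactSpace (𝔜.X 0)] (f : 𝔛 ⟶ 𝔜) [SiteCmp.HasRpushD (homMor f hloc.1 h𝔜)]
    (hP : ∀ (X : DerivedCategory P.FullSubcategory) (n : ℤ),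
      IsInd hloc (SiteCmp.HMod (P.ι.mapDerivedCategory.obj X) n)) :
    (P.ι.mapDerivedCategory ⋙ SiteCmp.RpushD (homMor f hloc.1 h𝔜)).IsLeftAdjoint := by
  let fm := homMor f hloc.1 h𝔜
  let RF := SiteCmp.RpushD fm
  let α := (SiteCmp.pushKh fm).totalRightDerivedUnit DerivedCategory.Qh
    (HomotopyCategory.quasiIso (ModF 𝔛 hloc.1) (ComplexShape.up ℤ))
  obtain ⟨_, _⟩ := DerLib.KInjDerived.exists_isTriangulated_map (DerLib.KInjDerived.enoughKInj _) fm.push RF α
  haveI := isGrothendieckAbelian_sub hloc P hcol g hg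
  haveI : P.ι.mapDerivedCategory.IsLeftAdjoint := by
    let adj := Adjunction.ofIsLeftAdjoint P.ι
    haveI : P.ι.rightAdjoint.Additive := adj.right_adjoint_additive
    let G := P.ι.rightAdjoint.mapHomotopyCategory (ComplexShape.up ℤ) ⋙ DerivedCategory.Qh
    have hA := DerLib.KInjDerived.enoughKInj (ModF 𝔛 hloc.1)
    haveI := DerLib.KInjDerived.hasRightDerivedFunctor G hA
    let β := G.totalRightDerivedUnit DerivedCategory.Qh
      (HomotopyCategory.quasiIso (ModF 𝔛 hloc.1) (ComplexShape.up ℤ))
    exact (DerLib.KInjDerived.derivedAdj adj _ β hA).isLeftAdjoint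
  refine isLeftAdjoint_of_preservesCoproducts _ fun ι => ⟨fun {K} => ?_⟩
  let D := P.ι.mapDerivedCategory
  let E := fun a : ι => D.obj (K.obj ⟨a⟩)
  haveI : HasCoproduct E := DerLib.KInjUse.hasCoproduct E
  haveI : HasCoproduct fun a => RF.obj (E a) := DerLib.KInjUse.hasCoproduct _
  haveI : IsIso (sigmaComparison RF E) := isIso_sigmaDesc_rpushD hloc h𝔜 f E fun a i => hP (K.obj ⟨a⟩) i
  haveI := PreservesCoproduct.of_iso_comparison RF E
  haveI : PreservesColimit (K ⋙ D) RF :=
    preservesColimit_of_iso_diagram RF (Discrete.natIso fun _ => Iso.refl _ : Discrete.functor E ≅ K ⋙ D)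
  haveI : PreservesColimit K D := inferInstance
  exact comp_preservesColimit D RF

end IndCohLib

end
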