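import Groth.Agent.IndCohLib.Union
import Mathlib.Algebra.Category.ModuleCat.Presheaf.Submodule

/-!
# The submodule locally generated by compatible finite families of sections
-/

set_option autoImplicit false
set_option linter.style.haveILetI false
set_option maxHeartbeats 800000

universe u

open CategoryTheory CategoryTheory.Limits AlgebraicGeometry TopologicalSpace Opposite FSch
open FModLib (MSec RSec mres rres lc)

noncomputable section

namespace IndCohLib

section

variable {X : TopCat.{u}} {O : Sheaf (Opens.grothendieckTopology X) CommRingCat.{u}} (M : ModSite.Mod O)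
  {α : Type u} (V : α → Opens X) (n : α → Type u) [∀ a, Fintype (n a)] (s : ∀ a, n a → MSec M (V a))

/-- Locally a combination of the given sections. -/
def LocGen (W : Opens X) (x : MSec M W) : Prop :=
  ∀ a, ∀ q ∈ W, q ∈ V a → ∃ (W' : Opens X) (hW : W' ≤ W) (hV : W' ≤ V a) (c : n a → RSec O W'),
    q ∈ W' ∧ mres M hW x = lc M hV (s a) c

variable {M V n s}

theorem LocGen.res {W W₁ : Opens X} (h : W₁ ≤ W) {x : MSec M W} (hx : LocGen M V n s W x) :
    LocGen M V n s W₁ (mres M h x) := fun a q hq hqa => by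
  obtain ⟨W', hW, hV, c, hq', hc⟩ := hx a q (h hq) hqa
  refine ⟨W' ⊓ W₁, inf_le_right, inf_le_left.trans hV, fun i => rres O inf_le_left (c i), ⟨hq', hq⟩, ?_⟩
  refine (FModLib.mres_mres M inf_le_right h x).trans ((FModLib.mres_mres M inf_le_left hW x).symm.trans ?_)
  exact (congrArg (mres M inf_le_left) hc).trans (FModLib.mres_lc M inf_le_left hV (s a) c)

theorem LocGen.add {W : Opens X} {x y : MSec M W} (hx : LocGen M V n s W x) (hy : LocGen M V n s W y) :
    LocGen M V n s W (x + y) := fun a q hq hqa => by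
  obtain ⟨W₁, h₁, h₁', c, hq₁, hc⟩ := hx a q hq hqa
  obtain ⟨W₂, h₂, h₂', d, hq₂, hd⟩ := hy a q hq hqa
  refine ⟨W₁ ⊓ W₂, inf_le_left.trans h₁, inf_le_left.trans h₁', fun i => rres O inf_le_left (c i) +
    rres O inf_le_right (d i), ⟨hq₁, hq₂⟩, ?_⟩
  refine (map_add _ _ _).trans ((congrArg₂ (fun p q => p + q) ?_ ?_).trans
    (FModLib.lc_add M _ (s a) _ _).symm)
  · exact (FModLib.mres_mres M inf_le_left h₁ x).symm.trans ((congrArg (mres M inf_le_left) hc).trans
      (FModLib.mres_lc M inf_le_left h₁' (s a) c))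
  · exact (FModLib.mres_mres M inf_le_right h₂ y).symm.trans ((congrArg (mres M inf_le_right) hd).trans
      (FModLib.mres_lc M inf_le_right h₂' (s a) d))

theorem LocGen.smul {W : Opens X} (r : RSec O W) {x : MSec M W} (hx : LocGen M V n s W x) :
    LocGen M V n s W (r • x : MSec M W) := fun a q hq hqa => by
  obtain ⟨W₁, h₁, h₁', c, hq₁, hc⟩ := hx a q hq hqa
  refine ⟨W₁, h₁, h₁', fun i => rres O h₁ r * c i, hq₁, ?_⟩
  refine (PresheafOfModules.map_smul M.val (homOfLE h₁).op r x).trans ?_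
  refine (congrArg (fun t : MSec M W₁ => (rres O h₁ r • t : MSec M W₁)) hc).trans ?_
  exact Finset.smul_sum.trans (Finset.sum_congr rfl fun i _ =>
    (mul_smul (rres O h₁ r) (c i) (mres M h₁' (s a i))).symm)

theorem LocGen.zero (W : Opens X) : LocGen M V n s W 0 := fun a q hq hqa =>
  ⟨W ⊓ V a, inf_le_left, inf_le_right, 0, ⟨hq, hqa⟩, (map_zero _).trans (lc_eq_zero M _ _).symm⟩

variable (M V n s)

/-- The presheaf of locally generated sections. -/
def genSub : M.val.Submodule where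
  obj W :=
    { carrier := {x | LocGen M V n s W.unop x}
      add_mem' := fun h h' => h.add h'
      zero_mem' := LocGen.zero _
      smul_mem' := fun r _ h => h.smul r }
  map {W W'} f x hx := hx.res f.unop.le

theorem isSheaf_genSub :
    Presheaf.IsSheaf (Opens.grothendieckTopology X) (genSub M V n s).toPresheafOfModules.presheaf := by
  refine (TopCat.Presheaf.isSheaf_iff_isSheafUniqueGluing (genSub M V n s).toPresheafOfModules.presheaf).2 ?_
  intro ι U sf hsf
  obtain ⟨x, hx, hu⟩ := TopCat.Sheaf.existsUnique_gluing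
    ((SheafOfModules.toSheaf (ModSite.ringSh O)).obj M : TopCat.Sheaf AddCommGrpCat X) U (fun i => (sf i).1)
    (fun i j => congrArg Subtype.val (hsf i j))
  have hmem : LocGen M V n s (iSup U) x := fun a q hq hqa => by
    obtain ⟨i, hi⟩ := Opens.mem_iSup.1 hq
    obtain ⟨W', hW, hV, c, hq', hc⟩ := (sf i).2 a q hi hqa
    refine ⟨W', hW.trans (le_iSup U i), hV, c, hq', Eq.trans ?_ hc⟩
    exact (FModLib.mres_mres M hW (le_iSup U i) x).symm.trans (congrArg (mres M hW) (hx i))
  exact ⟨⟨x, hmem⟩, fun i => Subtype.ext (hx i), fun y hy => Subtype.ext (hu y.1 fun i => congrArg Subtype.val (hy i))⟩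

/-- The sheaf of locally generated sections. -/
def genMod : ModSite.Mod O := ⟨(genSub M V n s).toPresheafOfModules, isSheaf_genSub M V n s⟩

/-- The inclusion. -/
def genι : genMod M V n s ⟶ M := ⟨(genSub M V n s).ι⟩

theorem mono_genι : Mono (genι M V n s) :=
  _root_.ModSiteLib.mono_of_injective_ap _ fun _ _ _ h => Subtype.ext h

end

variable {𝔛 : Sys.{u}} (hloc : 𝔛.IsLocNoethFormal) {M : ModF 𝔛 hloc.1}

/-- **Compatible finite families on a cover by good affine opens generate a coherent submodule.** -/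
theorem exists_coh_sub_of_good {α : Type u} (V : α → (𝔛.X 0).Opens)
    (hcov : ∀ q, ∃ a, q ∈ V a) (hM : ∀ a, Good hloc M (V a))
    (n : α → Type u) [∀ a, Fintype (n a)] (s : ∀ a, n a → MSec M (V a))
    (H : ∀ b i, LocGen M V n s (V b) (s b i)) :
    ∃ (G : ModF 𝔛 hloc.1) (_ : IsCohF 𝔛 hloc.1 G) (θ : G ⟶ M),
      ∀ b i, ∃ y : MSec G (V b), θ.val.app (op (V b)) y = s b i := by
  classical
  let G := genMod M V n s
  let θ : G ⟶ M := genι M V n s
  have hm : Mono θ := mono_genι M V n s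
  let t : ∀ a, n a → MSec G (V a) := fun a i => ⟨s a i, H a i⟩
  have hθ : ∀ {a} {W : (𝔛.X 0).Opens} (h : W ≤ V a) (c : n a → RSec (𝔛.Osh hloc.1) W),
      θ.val.app (op W) (lc G h (t a) c) = lc M h (s a) c := fun h c => FCohLib.app_lc θ h _ c
  have hgen : ∀ a (W : (𝔛.X 0).Opens) (hW : W ≤ V a) (x : MSec G W), ∀ q ∈ W,
      ∃ (W' : (𝔛.X 0).Opens) (hW' : W' ≤ W) (c : n a → RSec (𝔛.Osh hloc.1) W'), q ∈ W' ∧
        mres G hW' x = lc G (hW'.trans hW) (t a) c := fun a W hW x q hq => by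
    obtain ⟨W', hW', hV', c, hq', hc⟩ := x.2 a q hq (hW hq)
    exact ⟨W', hW', c, hq', @inj_of_mono _ hloc _ _ θ hm _ _ _
      ((app_mres hloc θ hW' x).trans (hc.trans (hθ (hW'.trans hW) c).symm))⟩
  refine ⟨G, ?_, θ, fun b i => ⟨t b i, rfl⟩⟩
  refine FCohLib.isCohF_of_finGen hloc _ (isQuasicoherent_of_isQC hloc fun p => ?_) fun p => ?_
  · obtain ⟨a, ha⟩ := hcov p
    have hr := @relBy_of_mono _ hloc _ _ _ θ hm (hM a).rel
    refine ⟨V a, ha, fun W hW hWV => good_of_by hloc (σ := n a) (s := t a) ?_ ?_ hW hWV⟩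
    · intro W₁ hW₁ x q hq
      obtain ⟨W', hW', c, hq', hc⟩ := hgen a W₁ hW₁ x q hq
      exact ⟨W', hW', n a, inferInstance, id, c, hq', hc⟩
    · intro k _ φ
      exact hr k (t a ∘ φ)
  · obtain ⟨a, ha⟩ := hcov p
    exact ⟨V a, n a, inferInstance, t a, ha, hgen a⟩

/-- **Compatible finite families generate a coherent submodule.** -/
theorem exists_coh_sub {α : Type u} (V : α → (𝔛.X 0).Opens) (hV : ∀ a, IsAffineOpen (V a))
    (hcov : ∀ q, ∃ a, q ∈ V a) (hM : ∀ W : (𝔛.X 0).Opens, IsAffineOpen W → Good hloc M W)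
    (n : α → Type u) [∀ a, Fintype (n a)] (s : ∀ a, n a → MSec M (V a))
    (H : ∀ b i, LocGen M V n s (V b) (s b i)) :
    ∃ (G : ModF 𝔛 hloc.1) (_ : IsCohF 𝔛 hloc.1 G) (θ : G ⟶ M),
      ∀ b i, ∃ y : MSec G (V b), θ.val.app (op (V b)) y = s b i :=
  exists_coh_sub_of_good hloc V hcov (fun a => hM _ (hV a)) n s H

end IndCohLib

end
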