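import Groth.Agent.IndCohLib.TorsKill
import Groth.Agent.IndCohLib.SubSheaf
import Mathlib.Order.Zorn

/-!
# Extension of finitely generated submodules killed by an open ideal
-/

set_option autoImplicit false
set_option linter.style.haveILetI false
set_option maxHeartbeats 800000

universe u

open CategoryTheory CategoryTheory.Limits AlgebraicGeometry TopologicalSpace Opposite FSch
open FModLib (MSec RSec oK mres rres lc)
open FCohLib (Basic)

noncomputable section

namespace IndCohLib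

variable {𝔛 : Sys.{u}} (hloc : 𝔛.IsLocNoethFormal) {K : ModF 𝔛 hloc.1} {n : ℕ}

theorem basic_eq_Dg {V W : (𝔛.X 0).Opens} {g : RSec (𝔛.Osh hloc.1) V} (hb : Basic hloc W g) : W = Dg hloc g :=
  (lvU_zero hloc W).symm.trans (hb.lvl 0)

include hloc in
theorem isCompact_inf_affine {W : (𝔛.X 0).Opens} (hW : IsAffineOpen W) (O : (𝔛.X 0).Opens) :
    IsCompact ((W ⊓ O : (𝔛.X 0).Opens) : Set (𝔛.X 0)) := by
  have := hloc.2.2 0
  have : IsNoetherianRing Γ(𝔛.X 0, W) := IsLocallyNoetherian.component_noetherian ⟨W, hW⟩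
  have : NoetherianSpace (W : Set (𝔛.X 0)) := noetherianSpace_of_isAffineOpen W hW
  exact (noetherianSpace_set_iff _).1 this _ inf_le_left

theorem smul_congr_oK (hK : ∀ (U : (𝔛.X 0).Opens) (y : MSec K U), Killed hloc n K y) {U : (𝔛.X 0).Opens}
    {a b : RSec (𝔛.Osh hloc.1) U} (hab : oK hloc.1 n U a = oK hloc.1 n U b) (y : MSec K U) :
    (a • y : MSec K U) = (b • y : MSec K U) := by
  refine sub_eq_zero.1 ((sub_smul a b y).symm.trans ?_)
  have h1 := hK U y U le_rfl (a - b)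
    ((map_sub ((𝔛.OshProj hloc.1 n).hom.app (op U)).hom a b).trans (sub_eq_zero.2 hab))
  rwa [mres_self] at h1

theorem lc_congr_oK (hK : ∀ (U : (𝔛.X 0).Opens) (y : MSec K U), Killed hloc n K y) {U V : (𝔛.X 0).Opens} (h : U ≤ V)
    {k : Type u} [Fintype k] (e : k → MSec K V) {a b : k → RSec (𝔛.Osh hloc.1) U}
    (hab : ∀ i, oK hloc.1 n U (a i) = oK hloc.1 n U (b i)) : lc K h e a = lc K h e b :=
  Finset.sum_congr rfl fun i _ => smul_congr_oK hloc hK (hab i) _

variable (hK : ∀ (U : (𝔛.X 0).Opens) (y : MSec K U), Killed hloc n K y) {V W : (𝔛.X 0).Opens}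
  {g : RSec (𝔛.Osh hloc.1) V} (hb : Basic hloc W g)

include hK hb in
/-- A combination over a basic open becomes one over the affine open after clearing denominators. -/
theorem exists_clear (hV : IsAffineOpen V) {k : Type u} [Fintype k] (e : k → MSec K V)
    (c : k → RSec (𝔛.Osh hloc.1) W) :
    ∃ (N : ℕ) (a : k → RSec (𝔛.Osh hloc.1) V),
      mres K hb.le (lc K le_rfl e a) = (rres (𝔛.Osh hloc.1) hb.le g ^ N • lc K hb.le e c : MSec K W) := by
  obtain ⟨E, a, ha⟩ := FCohLib.exists_lift_level hloc hV hb n c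
  refine ⟨E, a, (FModLib.mres_lc K hb.le le_rfl e a).trans ?_⟩
  refine (lc_congr_oK hloc hK hb.le e (b := fun i => rres (𝔛.Osh hloc.1) hb.le g ^ E * c i) fun i => ?_).trans ?_
  · refine (ha i).trans (Eq.symm ?_)
    exact (map_mul ((𝔛.OshProj hloc.1 n).hom.app (op W)).hom _ _).trans
      (congrArg (fun z => z * oK hloc.1 n W (c i)) (map_pow ((𝔛.OshProj hloc.1 n).hom.app (op W)).hom _ E))
  · exact (Finset.sum_congr rfl fun i _ => mul_smul _ (c i) _).trans Finset.smul_sum.symm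

include hK hb in
/-- Sections over a basic open extend after clearing denominators. -/
theorem exists_ext_kill (hG : Good hloc K V) (s : MSec K W) :
    ∃ (N : ℕ) (m : MSec K V), mres K hb.le m = (rres (𝔛.Osh hloc.1) hb.le g ^ N • s : MSec K W) := by
  obtain ⟨k, _, φ, c, hc⟩ := hG.exists_comb hloc hb.affine hb.le s
  obtain ⟨N, a, ha⟩ := exists_clear hloc hK hb hG.affine φ c
  exact ⟨N, _, ha.trans (congrArg (fun t : MSec K W => (rres (𝔛.Osh hloc.1) hb.le g ^ N • t : MSec K W)) hc.symm)⟩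

include hK hb in
/-- Sections vanishing on a basic open are killed by a power. -/
theorem exists_pow_kill_sec (hG : Good hloc K V) (m : MSec K V) (hm : mres K hb.le m = 0) :
    ∃ N : ℕ, (g ^ N • m : MSec K V) = 0 := by
  classical
  let ρ : RSec (𝔛.Osh hloc.1) V →+* RSec (𝔛.Osh hloc.1) W := ((𝔛.Osh hloc.1).obj.map (homOfLE hb.le).op).hom
  let oV : RSec (𝔛.Osh hloc.1) V →+* RSec (𝔛.X n).sheaf (𝔛.lvU hloc.1 n V) :=
    ((𝔛.OshProj hloc.1 n).hom.app (op V)).hom
  let oW : RSec (𝔛.Osh hloc.1) W →+* RSec (𝔛.X n).sheaf (𝔛.lvU hloc.1 n W) :=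
    ((𝔛.OshProj hloc.1 n).hom.app (op W)).hom
  obtain ⟨Z, d, hZ, hd⟩ := relation_on_affine hloc hG.rel hb.affine hb.le (k := PUnit.{u + 1}) (fun _ => m)
    (fun _ => 1) ((Finset.sum_eq_zero fun i _ =>
      (congrArg (fun t : MSec K W => ((1 : RSec (𝔛.Osh hloc.1) W) • t : MSec K W)) hm).trans (smul_zero _)))
  have hz : ∀ z ∈ Z, (z ⟨⟩ • m : MSec K V) = 0 := fun z hz => by
    refine Eq.trans ?_ (hZ z hz)
    show _ = ∑ i : PUnit.{u + 1}, (z i • mres K le_rfl m : MSec K V)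
    rw [mres_self, Fintype.sum_unique]
  obtain ⟨E, a, ha⟩ := FCohLib.exists_lift_level hloc hG.affine hb n d
  have h0 : oW (ρ ((∑ z : Z, a z * z.1 ⟨⟩) - g ^ E)) = 0 := by
    simp only [map_sub, map_sum, map_mul, map_pow, sub_eq_zero]
    refine Eq.trans ?_ ((congrArg (fun t => oW (ρ g) ^ E * oW t) (hd ⟨⟩).symm).trans
      ((congrArg (fun t => oW (ρ g) ^ E * t) (map_one oW)).trans (mul_one _)))
    rw [map_sum, Finset.mul_sum]
    refine Finset.sum_congr rfl fun z _ => ?_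
    rw [map_mul, ← mul_assoc]
    exact congrArg (fun t => t * oW (ρ (z.1 ⟨⟩))) (ha z)
  obtain ⟨M, hM⟩ := FCohLib.exists_pow_kill hloc hG.affine hb n _ h0
  refine ⟨M + E, ?_⟩
  have h1 := hK V m V le_rfl _ hM
  rw [mres_self, mul_sub, ← pow_add, sub_smul] at h1
  refine Eq.trans (sub_eq_zero.1 h1).symm ((mul_smul _ _ m).trans ?_)
  refine (congrArg (fun t : MSec K V => (g ^ M • t : MSec K V)) ?_).trans (smul_zero _)
  refine Finset.sum_smul.trans (Finset.sum_eq_zero fun z _ => (mul_smul (a z) _ m).trans ?_)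
  exact (congrArg (fun t : MSec K V => (a z • t : MSec K V)) (hz z.1 z.2)).trans (smul_zero _)

/-- Locally a combination of finitely many sections over an open. -/
def InComb (K : ModF 𝔛 hloc.1) (V : (𝔛.X 0).Opens) (t : Finset (MSec K V)) {b : (𝔛.X 0).Opens} (x : MSec K b)
    (q : 𝔛.X 0) : Prop :=
  ∃ (W : (𝔛.X 0).Opens) (hW : W ≤ b) (hV : W ≤ V) (c : t → RSec (𝔛.Osh hloc.1) W), q ∈ W ∧
    mres K hW x = lc K hV (fun y : t => y.1) c

theorem inComb_self {V : (𝔛.X 0).Opens} {t : Finset (MSec K V)} {x : MSec K V} (hx : x ∈ t) {q : 𝔛.X 0} (hq : q ∈ V) :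
    InComb hloc K V t x q := by
  classical
  refine ⟨V, le_rfl, le_rfl, fun y => if y.1 = x then 1 else 0, hq, ?_⟩
  refine Eq.symm ((Finset.sum_eq_single ⟨x, hx⟩ (fun y _ hy => ?_) fun h => absurd (Finset.mem_univ _) h).trans ?_)
  · exact (congrArg (fun c : RSec (𝔛.Osh hloc.1) V => (c • mres K le_rfl y.1 : MSec K V))
      (if_neg fun e => hy (Subtype.ext e))).trans (zero_smul _ (mres K le_rfl y.1))
  · exact (congrArg (fun c : RSec (𝔛.Osh hloc.1) V => (c • mres K le_rfl x : MSec K V))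
      (if_pos rfl)).trans (one_smul _ (mres K le_rfl x))

theorem InComb.trans {V' V b : (𝔛.X 0).Opens} {t : Finset (MSec K V)} {t' : Finset (MSec K V')} {x : MSec K b}
    {q : 𝔛.X 0} (hqV : q ∈ V') (h : InComb hloc K V t x q) (h' : ∀ y ∈ t, InComb hloc K V' t' y q) :
    InComb hloc K V' t' x q := by
  classical
  obtain ⟨W, hW, hV, c, hq, hc⟩ := h
  choose U hUV hUV' e hqU he using fun y : t => h' y.1 y.2
  let U₀ : (𝔛.X 0).Opens := V' ⊓ (W ⊓ Finset.univ.inf U)
  have hU₀ : ∀ y, U₀ ≤ U y := fun y => inf_le_right.trans (inf_le_right.trans (Finset.inf_le (Finset.mem_univ y)))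
  have hqinf : q ∈ Finset.univ.inf U := by
    show q ∈ ((Finset.univ.inf U : (𝔛.X 0).Opens) : Set (𝔛.X 0))
    rw [Opens.coe_finset_inf, Finset.inf_set_eq_iInter]
    exact Set.mem_iInter₂.2 fun y _ => hqU y
  refine ⟨U₀, (inf_le_right.trans inf_le_left).trans hW, inf_le_left, fun z => ∑ y : t,
    rres (𝔛.Osh hloc.1) (inf_le_right.trans inf_le_left : U₀ ≤ W) (c y) *
      rres (𝔛.Osh hloc.1) (hU₀ y) (e y z), ⟨hqV, hq, hqinf⟩, ?_⟩
  refine (FModLib.mres_mres K (inf_le_right.trans inf_le_left : U₀ ≤ W) hW x).symm.trans ?_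
  refine (congrArg (mres K _) hc).trans ((FModLib.mres_lc K _ hV _ c).trans ?_)
  refine Eq.trans ?_ (Finset.sum_congr rfl fun z _ => Finset.sum_smul.symm)
  refine Eq.trans (Finset.sum_congr rfl fun y _ => ?_) Finset.sum_comm
  refine (congrArg (fun s : MSec K U₀ => (_ • s : MSec K U₀)) ((FModLib.mres_mres K (hU₀ y) (hUV y) y.1).symm.trans
    ((congrArg (mres K (hU₀ y)) (he y)).trans (FModLib.mres_lc K (hU₀ y) (hUV' y) _ (e y))))).trans ?_
  exact Finset.smul_sum.trans (Finset.sum_congr rfl fun z _ => (mul_smul _ _ _).symm)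

omit hK in
/-- An element locally a combination of sections is a combination after restriction to an affine open. -/
theorem exists_comb_gen {V U : (𝔛.X 0).Opens} (hG : Good hloc K V) (t : Finset (MSec K V)) (hU : IsAffineOpen U)
    (hUV : U ≤ V) (y : MSec K U) (hy : ∀ q ∈ U, InComb hloc K V t y q) :
    ∃ c : t → RSec (𝔛.Osh hloc.1) U, y = lc K hUV (fun z : t => z.1) c := by
  classical
  let Vs : PUnit.{u + 1} → (𝔛.X 0).Opens := fun _ => V
  let s : ∀ _ : PUnit.{u + 1}, t → MSec K V := fun _ z => z.1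
  let θ := genι K Vs (fun _ => t) s
  have hm : Mono θ := mono_genι K Vs (fun _ => t) s
  let G := genMod K Vs (fun _ => t) s
  let t' : t → MSec G V := fun z => ⟨z.1, fun _ q hq _ => by
    obtain ⟨W, hW, hV, c, hq', hc⟩ := inComb_self hloc z.2 hq
    exact ⟨W, hW, hV, c, hq', hc⟩⟩
  let y' : MSec G U := ⟨y, fun _ q hq _ => by
    obtain ⟨W, hW, hV, c, hq', hc⟩ := hy q hq
    exact ⟨W, hW, hV, c, hq', hc⟩⟩
  have hgen : GenBy G V t' := fun W₁ hW₁ x q hq => by
    obtain ⟨W', hW', hV', c, hq', hc⟩ := x.2 ⟨⟩ q hq (hW₁ hq)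
    exact ⟨W', hW', t, inferInstance, id, c, hq', @inj_of_mono _ hloc _ _ θ hm _ _ _
      ((app_mres hloc θ hW' x).trans (hc.trans (FCohLib.app_lc θ _ t' c).symm))⟩
  have hrel : RelBy G V t' := fun k _ φ =>
    @relBy_of_mono _ hloc _ _ _ θ hm hG.rel k _ (t' ∘ φ)
  obtain ⟨k, _, φ, c, hc⟩ := exists_comb_sec hloc hgen hrel hU hUV y'
  refine ⟨fun z => ∑ i ∈ Finset.univ.filter (fun i => φ i = z), c i, ?_⟩
  refine ((congrArg (θ.val.app (op U)) hc).trans (FCohLib.app_lc θ hUV (t' ∘ φ) c)).trans ?_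
  refine ((Finset.sum_fiberwise_of_maps_to (g := φ) (fun i _ => Finset.mem_univ _) _).symm.trans ?_)
  refine Finset.sum_congr rfl fun z _ => Eq.trans ?_ Finset.sum_smul.symm
  refine Finset.sum_congr rfl fun i hi => congrArg (fun w => (c i • mres K hUV w : MSec K U)) ?_
  exact congrArg Subtype.val (Finset.mem_filter.1 hi).2

/-- A finite family over an affine open on which the module is good. -/
structure Entry (K : ModF 𝔛 hloc.1) where
  /-- the open -/
  V : (𝔛.X 0).Opens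
  good : Good hloc K V
  /-- the sections -/
  t : Finset (MSec K V)

/-- The families agree on overlaps. -/
def Compat (P : Set (Entry hloc K)) : Prop :=
  ∀ a ∈ P, ∀ b ∈ P, ∀ x ∈ b.t, ∀ q ∈ b.V ⊓ a.V, InComb hloc K a.V a.t x q

include hK in
/-- Compatible families extend to one more affine open. -/
theorem exists_extend {P : Set (Entry hloc K)} (hP : Compat hloc P) {W : (𝔛.X 0).Opens} (hW : Good hloc K W) :
    ∃ t : Finset (MSec K W), Compat hloc (insert ⟨W, hW, t⟩ P) := by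
  classical
  let O : (𝔛.X 0).Opens := ⨆ a : P, a.1.V
  have hc : ∀ p ∈ W ⊓ O, ∃ (a : P) (D : (𝔛.X 0).Opens) (g : RSec (𝔛.Osh hloc.1) W), Basic hloc D g ∧ p ∈ D ∧ D ≤ a.1.V := by
    rintro p ⟨hpW, hpO⟩
    obtain ⟨a, ha⟩ := Opens.mem_iSup.1 hpO
    obtain ⟨D, g, hb, hpD, hle⟩ := FCohLib.exists_basic hloc hW.affine ha hpW
    exact ⟨a, D, g, hb, hpD, hle⟩
  choose A D G hb hpD hDA using fun p : (W ⊓ O : (𝔛.X 0).Opens) => hc p.1 p.2
  obtain ⟨T, hT⟩ := (isCompact_inf_affine hloc hW.affine O).elim_finite_subcover (fun p => (D p : Set (𝔛.X 0)))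
    (fun p => (D p).isOpen) fun q hq => Set.mem_iUnion.mpr ⟨⟨q, hq⟩, hpD ⟨q, hq⟩⟩
  have key : ∀ p, ∀ x ∈ (A p).1.t, ∃ (m : MSec K W) (v : RSec (𝔛.Osh hloc.1) (D p)),
      mres K (hDA p) x = (v • mres K (hb p).le m : MSec K (D p)) ∧
      ∀ p' ∈ T, ∀ q ∈ D p', InComb hloc K (A p').1.V (A p').1.t m q := by
    intro p x hx
    obtain ⟨N, m, hm⟩ := exists_ext_kill hloc hK (hb p) hW (mres K (hDA p) x)
    have h1 : ∀ p', ∃ (j : ℕ) (e : (A p').1.t → RSec (𝔛.Osh hloc.1) (D p')),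
        (rres (𝔛.Osh hloc.1) (hb p').le (G p) ^ j • mres K (hb p').le m : MSec K (D p')) =
          lc K (hDA p') (fun y : (A p').1.t => y.1) e := by
      intro p'
      let g' := rres (𝔛.Osh hloc.1) (hb p').le (G p)
      have hb' := basic_Dg hloc (hb p').affine g'
      have hle : Dg hloc g' ≤ D p := ((rres_oK_zero hloc (hb p').le (G p)).trans_le inf_le_right).trans
        (basic_eq_Dg hloc (hb p)).ge
      have hG' : Good hloc K (A p').1.V := (A p').1.good
      obtain ⟨c, hc⟩ := exists_comb_gen hloc hG' (A p').1.t hb'.affine (hb'.le.trans (hDA p'))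
        (mres K hle (mres K (hb p).le m)) fun q hq => by
          obtain ⟨U, hU, hU', c, hqU, hc⟩ := hP _ (A p').2 _ (A p).2 x hx q ⟨hDA p (hle hq), hDA p' (hb'.le hq)⟩
          refine ⟨U ⊓ Dg hloc g', inf_le_right, inf_le_left.trans hU', fun y =>
            rres (𝔛.Osh hloc.1) (inf_le_right.trans hle) (rres (𝔛.Osh hloc.1) (hb p).le (G p) ^ N) *
              rres (𝔛.Osh hloc.1) inf_le_left (c y), ⟨hqU, hq⟩, ?_⟩
          refine (FModLib.mres_mres K _ hle _).trans ((congrArg (mres K _) hm).trans ?_)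
          refine (mres_smul hloc _ _ _).trans ?_
          refine (congrArg (fun s : MSec K (U ⊓ Dg hloc g') => (_ • s : MSec K (U ⊓ Dg hloc g')))
            ((FModLib.mres_mres K _ (hDA p) x).trans ((FModLib.mres_mres K inf_le_left hU x).symm.trans
              ((congrArg (mres K inf_le_left) hc).trans (FModLib.mres_lc K inf_le_left hU' _ c))))).trans ?_
          exact Finset.smul_sum.trans (Finset.sum_congr rfl fun z _ => (mul_smul _ _ _).symm)
      let e' : (A p').1.t → MSec K (D p') := fun y => mres K (hDA p') y.1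
      obtain ⟨E, a, ha⟩ := exists_clear hloc hK hb' (hb p').affine e' c
      have hz : mres K hb'.le (g' ^ E • mres K (hb p').le m - lc K le_rfl e' a) = 0 := by
        refine (map_sub _ _ _).trans (sub_eq_zero.2 ((mres_smul hloc _ _ _).trans (Eq.trans ?_ ha.symm)))
        refine congrArg₂ (fun (r : RSec (𝔛.Osh hloc.1) _) (s : MSec K (Dg hloc g')) => (r • s : MSec K (Dg hloc g')))
          (map_pow ((𝔛.Osh hloc.1).obj.map (homOfLE hb'.le).op).hom g' E) ?_
        refine (FModLib.mres_mres K hb'.le (hb p').le m).trans ((FModLib.mres_mres K hle (hb p).le m).symm.trans ?_)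
        exact hc.trans (lc_mres K _ (hDA p') _ c).symm
      obtain ⟨j, hj⟩ := exists_pow_kill_sec hloc hK hb'
        (hG'.res hloc (hb p').affine (hDA p')) _ hz
      refine ⟨j + E, fun y => g' ^ j * a y, ?_⟩
      rw [smul_sub, ← mul_smul, ← pow_add, sub_eq_zero] at hj
      refine hj.trans (Finset.smul_sum.trans (Finset.sum_congr rfl fun y _ => (mul_smul _ _ _).symm.trans ?_))
      exact congrArg (fun s : MSec K (D p') => (_ • s : MSec K (D p'))) (FModLib.mres_mres K le_rfl (hDA p') y.1)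
    choose j e he using h1
    let J := T.sup j
    obtain ⟨v₀, hv₀⟩ := (FCohLib.isUnit_oK hloc (hb p) n).pow (J + N)
    obtain ⟨v, hv⟩ := FModLib.oK_surjective hloc (hb p).affine n ↑v₀⁻¹
    refine ⟨G p ^ J • m, v, ?_, fun p' hp' q hq => ?_⟩
    · let ρ : RSec (𝔛.Osh hloc.1) W →+* RSec (𝔛.Osh hloc.1) (D p) :=
        ((𝔛.Osh hloc.1).obj.map (homOfLE (hb p).le).op).hom
      let o : RSec (𝔛.Osh hloc.1) (D p) →+* RSec (𝔛.X n).sheaf (𝔛.lvU hloc.1 n (D p)) :=
        ((𝔛.OshProj hloc.1 n).hom.app (op (D p))).hom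
      refine Eq.symm ((congrArg (fun s : MSec K (D p) => (v • s : MSec K (D p)))
        ((mres_smul hloc (hb p).le _ m).trans (congrArg (fun s : MSec K (D p) => (ρ (G p ^ J) • s : MSec K (D p))) hm))).trans ?_)
      refine ((congrArg (fun s : MSec K (D p) => (v • s : MSec K (D p))) (mul_smul _ _ _).symm).trans
        (mul_smul v _ _).symm).trans ?_
      refine (smul_congr_oK hloc hK (b := (1 : RSec (𝔛.Osh hloc.1) (D p))) ?_ _).trans (one_smul _ (mres K (hDA p) x))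
      show o (v * (ρ (G p ^ J) * ρ (G p) ^ N)) = o 1
      rw [map_one, map_pow ρ, ← pow_add, map_mul, map_pow, show o v = ↑v₀⁻¹ from hv,
        show o (ρ (G p)) ^ (J + N) = ↑v₀ from hv₀.symm, Units.inv_mul]
    · refine ⟨D p', (hb p').le, hDA p',
        fun y => rres (𝔛.Osh hloc.1) (hb p').le (G p) ^ (J - j p') * e p' y, hq, ?_⟩
      refine (mres_smul hloc (hb p').le _ m).trans ?_
      rw [show rres (𝔛.Osh hloc.1) (hb p').le (G p ^ J) =
          rres (𝔛.Osh hloc.1) (hb p').le (G p) ^ (J - j p') * rres (𝔛.Osh hloc.1) (hb p').le (G p) ^ j p' from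
        (map_pow ((𝔛.Osh hloc.1).obj.map (homOfLE (hb p').le).op).hom _ J).trans
          (by rw [← pow_add, Nat.sub_add_cancel (Finset.le_sup hp')])]
      refine (mul_smul _ _ _).trans ((congrArg (fun s : MSec K (D p') => (_ • s : MSec K (D p'))) (he p')).trans ?_)
      exact Finset.smul_sum.trans (Finset.sum_congr rfl fun z _ => (mul_smul _ _ _).symm)
  choose m v hv hm using key
  let t : Finset (MSec K W) := T.biUnion fun p => (A p).1.t.attach.image fun x => m p x.1 x.2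
  have hcov : ∀ q ∈ W ⊓ O, ∃ p ∈ T, q ∈ D p := fun q hq => by
    obtain ⟨p, hpT, hq'⟩ := Set.mem_iUnion₂.mp (hT hq)
    exact ⟨p, hpT, hq'⟩
  refine ⟨t, ?_⟩
  intro a ha b hb' x hx q hq
  rcases ha with rfl | ha <;> rcases hb' with rfl | hb'
  · exact inComb_self hloc hx hq.1
  · obtain ⟨p, hpT, hqp⟩ := hcov q ⟨hq.2, Opens.mem_iSup.2 ⟨⟨b, hb'⟩, hq.1⟩⟩
    refine InComb.trans hloc hq.2 (hP _ (A p).2 b hb' x hx q ⟨hq.1, hDA p hqp⟩) fun y hy => ?_
    have hy' : m p y hy ∈ t := Finset.mem_biUnion.2 ⟨p, hpT, Finset.mem_image.2 ⟨⟨y, hy⟩, Finset.mem_attach _ _, rfl⟩⟩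
    refine ⟨D p, hDA p, (hb p).le, fun z => if z.1 = m p y hy then v p y hy else 0, hqp, (hv p y hy).trans ?_⟩
    refine Eq.symm ((Finset.sum_eq_single ⟨_, hy'⟩ (fun z _ hz => ?_) fun h => absurd (Finset.mem_univ _) h).trans ?_)
    · exact (congrArg (fun c : RSec (𝔛.Osh hloc.1) (D p) => (c • mres K (hb p).le z.1 : MSec K (D p)))
        (if_neg fun e => hz (Subtype.ext e))).trans (zero_smul _ (mres K (hb p).le z.1))
    · exact congrArg (fun c : RSec (𝔛.Osh hloc.1) (D p) => (c • mres K (hb p).le (m p y hy) : MSec K (D p)))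
        (if_pos rfl)
  · obtain ⟨p, hpT, hx'⟩ := Finset.mem_biUnion.1 hx
    obtain ⟨⟨y, hy⟩, -, rfl⟩ := Finset.mem_image.1 hx'
    obtain ⟨p', hp', hqp⟩ := hcov q ⟨hq.1, Opens.mem_iSup.2 ⟨⟨a, ha⟩, hq.2⟩⟩
    exact InComb.trans hloc hq.2 (hm p y hy p' hp' q hqp) fun z hz => hP a ha _ (A p').2 z hz q ⟨hDA p' hqp, hq.2⟩
  · exact hP a ha b hb' x hx q hq

include hK in
/-- **Sections of a quasi-coherent module killed by an open ideal lie in coherent submodules.** -/
theorem exists_coh_through (hQ : IsQC hloc K) {V : (𝔛.X 0).Opens} (hV : Good hloc K V) (x : MSec K V) :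
    ∃ (G : ModF 𝔛 hloc.1) (_ : IsCohF 𝔛 hloc.1 G) (θ : G ⟶ K), ∃ y : MSec G V, θ.val.app (op V) y = x := by
  classical
  let e₀ : Entry hloc K := ⟨V, hV, {x}⟩
  obtain ⟨P, -, hPm⟩ := zorn_subset_nonempty {P : Set (Entry hloc K) | e₀ ∈ P ∧ Compat hloc P} (fun c hc hchain hne => by
    refine ⟨⋃₀ c, ⟨?_, fun a ha b hb' => ?_⟩, fun s hs => Set.subset_sUnion_of_mem hs⟩
    · obtain ⟨s, hs⟩ := hne
      exact ⟨s, hs, (hc hs).1⟩
    · obtain ⟨s, hs, has⟩ := ha
      obtain ⟨s', hs', hbs⟩ := hb'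
      rcases hchain.total hs hs' with h | h
      · exact (hc hs').2 a (h has) b hbs
      · exact (hc hs).2 a has b (h hbs)) {e₀}
    ⟨rfl, fun a ha b hb' y hy q hq => by
      obtain rfl := Set.mem_singleton_iff.1 ha
      obtain rfl := Set.mem_singleton_iff.1 hb'
      exact inComb_self hloc hy hq.1⟩
  have hcov : ∀ q, ∃ a : P, q ∈ a.1.V := fun q => by
    obtain ⟨U, hqU, hU⟩ := hQ q
    obtain ⟨W, hW, hqW, hWU⟩ := Opens.isBasis_iff_nbhd.mp (𝔛.X 0).isBasis_affineOpens hqU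
    obtain ⟨t, ht⟩ := exists_extend hloc hK hPm.prop.2 (hU W hW hWU)
    have hsub := hPm.le_of_ge (y := insert ⟨W, hU W hW hWU, t⟩ P) ⟨Set.mem_insert_of_mem _ hPm.prop.1, ht⟩
      (Set.subset_insert _ _)
    exact ⟨⟨_, hsub (Set.mem_insert _ _)⟩, hqW⟩
  obtain ⟨G, hG, θ, hθ⟩ := exists_coh_sub_of_good hloc (fun a : P => a.1.V) hcov (fun a => a.1.good)
    (fun a => a.1.t) (fun a y => y.1) fun b y a q hqb hqa => by
      obtain ⟨W, hW, hW', c, hqW, hc⟩ := hPm.prop.2 a.1 a.2 b.1 b.2 y.1 y.2 q ⟨hqb, hqa⟩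
      exact ⟨W, hW, hW', c, hqW, hc⟩
  exact ⟨G, hG, θ, hθ ⟨e₀, hPm.prop.1⟩ ⟨x, Finset.mem_singleton_self x⟩⟩

theorem cov_gammaT {M : ModF 𝔛 hloc.1} (hM : IsQC hloc M) : Cov hloc ((FTors.gammaT 𝔛 hloc.1).obj M) := by
  intro W x q hq
  obtain ⟨W₁, hW₁, n, hq₁, hn⟩ := (tors_iff hloc _).1 x.2 q hq
  obtain ⟨V, hqV, hVW, hV⟩ := IsQC.exists_affine hloc (isQC_killMod hloc hM n) hq₁
  let y : MSec (killMod hloc n M) V := ⟨mres M hVW (mres M hW₁ x.1), hn.res hloc hVW⟩
  obtain ⟨G, hG, θ, z, hz⟩ := exists_coh_through hloc (fun U y => killed_killMod hloc n M y) (isQC_killMod hloc hM n) hV y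
  let j : killMod hloc n M ⟶ (FTors.gammaT 𝔛 hloc.1).obj M :=
    ⟨PresheafOfModules.homMk
      { app := fun X => AddCommGrpCat.ofHom
          { toFun := fun s => ⟨s.1, (tors_iff hloc _).2 (Killed.tors hloc s.2)⟩
            map_zero' := rfl
            map_add' := fun _ _ => rfl }
        naturality := fun _ _ g => by ext s; rfl }
      (fun _ r s => rfl)⟩
  refine ⟨G, hG, θ ≫ j, V, hVW.trans hW₁, z, hqV, ?_⟩
  refine (app_comp hloc θ j _ rfl z).symm.trans ((congrArg (j.val.app (op V)) hz).trans ?_)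
  exact Subtype.ext (FModLib.mres_mres M hVW hW₁ x.1)

end IndCohLib

end
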